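import Cfsg.Prelude.Def_TwoFusion
import Mathlib

/-!
# Elementary theory of isolated involutions (helper36)
-/

set_option linter.unusedSectionVars false

namespace Cfsg.Agent.TwoFusion36

section Dihedral

variable {G : Type*} [Group G]

theorem inv_eq_self_of_orderOf_two {z : G} (hz : orderOf z = 2) : z⁻¹ = z := by
  have h : z * z = 1 := by rw [← sq, ← hz]; exact pow_orderOf_eq_one z
  exact inv_eq_of_mul_eq_one_right h

/-- In the group generated by two involutions whose product has even order `2m`, the central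
element `c = (xy)^m` satisfies: `c * x` is a conjugate of `x` (if `m` is even) or of `y`. -/
theorem dihedral_even {x y : G} (hx : x * x = 1) (hy : y * y = 1) {m : ℕ}
    (hm : orderOf (x * y) = 2 * m) (hm0 : m ≠ 0) :
    Commute ((x * y) ^ m) x ∧ Commute ((x * y) ^ m) y ∧ (x * y) ^ m ≠ 1 ∧
      ((Even m ∧ ∃ w : G, w * x * w⁻¹ = (x * y) ^ m * x) ∨
        (Odd m ∧ ∃ w : G, w * y * w⁻¹ = (x * y) ^ m * x)) := by
  have hxi : x⁻¹ = x := inv_eq_of_mul_eq_one_right hx
  have hyi : y⁻¹ = y := inv_eq_of_mul_eq_one_right hy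
  set u := x * y with hu
  have hxu : x * u * x⁻¹ = u⁻¹ := by
    rw [hu, mul_inv_rev, hxi, hyi]; simp [← mul_assoc, hx]
  have hpow : ∀ k : ℕ, x * u ^ k = (u ^ k)⁻¹ * x := by
    intro k
    have h1 : x * u ^ k * x⁻¹ = (u ^ k)⁻¹ := by rw [← conj_pow, hxu, inv_pow]
    rw [← h1]; group
  have hcm : (u ^ m)⁻¹ = u ^ m := by
    apply inv_eq_of_mul_eq_one_right
    rw [← pow_add, ← two_mul, ← hm]; exact pow_orderOf_eq_one u
  have hcx : Commute (u ^ m) x := by
    have := hpow m
    rw [hcm] at this; exact this.symm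
  refine ⟨hcx, ?_, ?_, ?_⟩
  · have hyy : y = x * u := by rw [hu, ← mul_assoc, hx, one_mul]
    rw [hyy]
    exact hcx.mul_right (Commute.pow_self u m)
  · intro h1
    have := orderOf_dvd_of_pow_eq_one h1
    rw [hm] at this
    have := Nat.le_of_dvd (Nat.pos_of_ne_zero hm0) this
    omega
  · rcases Nat.even_or_odd m with he | ho
    · left
      refine ⟨he, ?_⟩
      obtain ⟨k, hk⟩ := he
      refine ⟨u ^ k, ?_⟩
      calc u ^ k * x * (u ^ k)⁻¹ = u ^ k * (x * u ^ k) * (u ^ k)⁻¹ * (u ^ k)⁻¹ := by group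
        _ = x * (u ^ k)⁻¹ * (u ^ k)⁻¹ := by rw [hpow k]; group
        _ = x * (u ^ m)⁻¹ := by rw [hk, pow_add]; group
        _ = u ^ m * x := by rw [hcm]; exact hcx.symm.eq
    · right
      refine ⟨ho, ?_⟩
      obtain ⟨k, hk⟩ := ho
      refine ⟨u ^ k * x, ?_⟩
      calc u ^ k * x * y * (u ^ k * x)⁻¹ = u ^ k * u * (x⁻¹ * (u ^ k)⁻¹) := by
            rw [hu]; group
        _ = u ^ k * u * (x * (u ^ k)⁻¹) := by rw [hxi]
        _ = u ^ k * u * (u ^ k * x) := by
            congr 1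
            calc x * (u ^ k)⁻¹ = (u ^ k) * ((u ^ k)⁻¹ * x) * (u ^ k)⁻¹ := by group
              _ = u ^ k * (x * u ^ k) * (u ^ k)⁻¹ := by rw [hpow k]
              _ = u ^ k * x := by group
        _ = u ^ m * x := by rw [hk, two_mul, pow_succ, pow_add]; group

end Dihedral

section Isolated

variable {G : Type*} [Group G] [Finite G] {z : G}

/-- The set `K` of elements of odd order inverted by `z`. -/
def InK (z k : G) : Prop := Odd (orderOf k) ∧ z * k * z⁻¹ = k⁻¹

theorem odd_conj_mul (hz : Cfsg.IsIsolatedInvolution z) (g : G) :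
    Odd (orderOf (g * z * g⁻¹ * z)) := by
  rw [← Nat.not_even_iff_odd]
  rintro ⟨m, hm⟩
  have hzz : z * z = 1 := by rw [← sq, ← hz.1]; exact pow_orderOf_eq_one z
  have hord : orderOf (z * (g * z * g⁻¹)) = 2 * m := by
    have h : z * (g * z * g⁻¹) = z * (g * z * g⁻¹ * z) * z⁻¹ := by group
    rw [h, two_mul, ← hm]
    exact (MulAut.conj z).orderOf_eq _
  have hpos : 0 < orderOf (z * (g * z * g⁻¹)) := orderOf_pos _
  have htt : g * z * g⁻¹ * (g * z * g⁻¹) = 1 := by
    calc g * z * g⁻¹ * (g * z * g⁻¹) = g * (z * z) * g⁻¹ := by group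
      _ = 1 := by rw [hzz]; group
  obtain ⟨hc1, hc2, hne, h⟩ := dihedral_even hzz htt hord (by omega)
  generalize hc : (z * (g * z * g⁻¹)) ^ m = c at hc1 hc2 hne h
  have key : ∀ w : G, w * z * w⁻¹ = c * z → False := by
    intro w hw
    have hcom : Commute z (w * z * w⁻¹) := by
      rw [hw]; exact hc1.symm.mul_right (Commute.refl z)
    have := hz.2 w hcom
    rw [hw] at this
    exact hne (mul_eq_right.mp this)
  rcases h with ⟨-, w, hw⟩ | ⟨-, w, hw⟩
  · exact key w hw
  · refine key (w * g) ?_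
    rw [← hw]; group

theorem odd_conj_mul_conj (hz : Cfsg.IsIsolatedInvolution z) (g h : G) :
    Odd (orderOf (g * z * g⁻¹ * (h * z * h⁻¹))) := by
  have e : g * z * g⁻¹ * (h * z * h⁻¹) =
      MulAut.conj h ((h⁻¹ * g) * z * (h⁻¹ * g)⁻¹ * z) := by
    simp only [MulAut.conj_apply]; group
  rw [e, MulEquiv.orderOf_eq]
  exact odd_conj_mul hz _

/-- The canonical square root of an element of odd order. -/
noncomputable def sqrtOdd (k : G) : G := k ^ ((orderOf k + 1) / 2)

theorem sqrtOdd_sq {k : G} (hk : Odd (orderOf k)) : sqrtOdd k * sqrtOdd k = k := by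
  obtain ⟨m, hm⟩ := hk
  have h : (orderOf k + 1) / 2 = m + 1 := by omega
  rw [sqrtOdd, h, ← pow_add, show m + 1 + (m + 1) = orderOf k + 1 by omega, pow_succ,
    pow_orderOf_eq_one, one_mul]

theorem eq_of_mul_self_eq {a b : G} (ha : Odd (orderOf a)) (hb : Odd (orderOf b))
    (h : a * a = b * b) : a = b := by
  have ha' : orderOf (a * a) = orderOf a := by
    rw [← sq]; exact Nat.Coprime.orderOf_pow (Nat.coprime_two_right.mpr ha)
  have hb' : orderOf (b * b) = orderOf b := by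
    rw [← sq]; exact Nat.Coprime.orderOf_pow (Nat.coprime_two_right.mpr hb)
  obtain ⟨m, hm⟩ := ha
  have e : orderOf b = orderOf a := by rw [← hb', ← h, ha']
  calc a = a ^ (2 * m + 1 + 1) := by rw [pow_succ, ← hm, pow_orderOf_eq_one, one_mul]
    _ = (a * a) ^ (m + 1) := by rw [← sq, ← pow_mul]; ring_nf
    _ = (b * b) ^ (m + 1) := by rw [h]
    _ = b ^ (2 * m + 1 + 1) := by rw [← sq, ← pow_mul]; ring_nf
    _ = b := by rw [pow_succ, ← hm, ← e, pow_orderOf_eq_one, one_mul]

theorem orderOf_sqrtOdd_odd {k : G} (hk : Odd (orderOf k)) : Odd (orderOf (sqrtOdd k)) :=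
  hk.of_dvd_nat (orderOf_pow_dvd _)

theorem sqrtOdd_unique {a k : G} (ha : Odd (orderOf a)) (hk : Odd (orderOf k))
    (h : a * a = k) : sqrtOdd k = a :=
  eq_of_mul_self_eq (orderOf_sqrtOdd_odd hk) ha (by rw [sqrtOdd_sq hk, h])

theorem conj_self_inv (hz : Cfsg.IsIsolatedInvolution z) : z⁻¹ = z :=
  inv_eq_self_of_orderOf_two hz.1

theorem InK.inv {k : G} (h : InK z k) : InK z k⁻¹ := by
  refine ⟨by rw [orderOf_inv]; exact h.1, ?_⟩
  rw [← conj_inv, h.2]

theorem InK.sqrt {k : G} (h : InK z k) : InK z (sqrtOdd k) := by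
  refine ⟨orderOf_sqrtOdd_odd h.1, ?_⟩
  rw [sqrtOdd, ← conj_pow, h.2, inv_pow]

theorem InK.conj_mul (hz : Cfsg.IsIsolatedInvolution z) {k : G} (h : InK z k) :
    sqrtOdd k * z * (sqrtOdd k)⁻¹ = k * z := by
  have h2 := h.sqrt.2
  calc sqrtOdd k * z * (sqrtOdd k)⁻¹ = sqrtOdd k * z * (z * sqrtOdd k * z⁻¹) := by rw [h2]
    _ = sqrtOdd k * (z * z) * sqrtOdd k * z⁻¹ := by group
    _ = k * z := by
        rw [← sq z, ← hz.1, pow_orderOf_eq_one, mul_one, sqrtOdd_sq h.1, conj_self_inv hz]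

/-- `t * z` lies in `K` for every conjugate `t` of `z`. -/
theorem inK_conj_mul (hz : Cfsg.IsIsolatedInvolution z) (g : G) : InK z (g * z * g⁻¹ * z) := by
  refine ⟨odd_conj_mul hz g, ?_⟩
  rw [mul_inv_rev, mul_inv_rev, mul_inv_rev, inv_inv, conj_self_inv hz]
  have h2 : z * z = 1 := by rw [← sq, ← hz.1]; exact pow_orderOf_eq_one z
  calc z * (g * z * g⁻¹ * z) * z = z * (g * z * g⁻¹) * (z * z) := by group
    _ = z * (g * (z * g⁻¹)) := by rw [h2]; group

theorem InK.conj_by (hz : Cfsg.IsIsolatedInvolution z) {a k : G} (ha : InK z a) (hk : InK z k) :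
    InK z (a * k * a) := by
  refine ⟨?_, ?_⟩
  · have e : a * k * a = (a * sqrtOdd k) * z * (a * sqrtOdd k)⁻¹ * z := by
      have h1 := hk.conj_mul hz
      have hza : z * a⁻¹ * z = a := by
        have h2 := congrArg (·⁻¹) ha.2
        simp only [mul_inv_rev, inv_inv] at h2
        calc z * a⁻¹ * z = z * (a⁻¹ * z⁻¹) := by rw [conj_self_inv hz, mul_assoc]
          _ = a := h2
      calc a * k * a = a * k * (z * a⁻¹ * z) := by rw [hza]
        _ = a * (k * z) * a⁻¹ * z := by group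
        _ = _ := by rw [← h1]; group
    rw [e]; exact odd_conj_mul hz _
  · calc z * (a * k * a) * z⁻¹ = (z * a * z⁻¹) * (z * k * z⁻¹) * (z * a * z⁻¹) := by group
      _ = (a * k * a)⁻¹ := by rw [ha.2, hk.2]; group

/-- Every left coset of `C(z)` contains exactly one element of `K`. -/
theorem existsUnique_inK (hz : Cfsg.IsIsolatedInvolution z) (g : G) :
    ∃! k : G, InK z k ∧ g⁻¹ * k ∈ Subgroup.centralizer ({z} : Set G) := by
  have hu := inK_conj_mul hz g
  have iff' : ∀ k : G, g⁻¹ * k ∈ Subgroup.centralizer ({z} : Set G) ↔ k * z * k⁻¹ = g * z * g⁻¹ := by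
    intro k
    rw [Subgroup.mem_centralizer_singleton_iff]
    constructor
    · intro h
      calc k * z * k⁻¹ = g * (g⁻¹ * k * z) * k⁻¹ := by group
        _ = g * (z * (g⁻¹ * k)) * k⁻¹ := by rw [h]
        _ = _ := by group
    · intro h
      calc g⁻¹ * k * z = g⁻¹ * (k * z * k⁻¹) * k := by group
        _ = _ := by rw [h]; group
  refine ⟨sqrtOdd (g * z * g⁻¹ * z), ⟨hu.sqrt, (iff' _).mpr ?_⟩, ?_⟩
  · have h2 : z * z = 1 := by rw [← sq, ← hz.1]; exact pow_orderOf_eq_one z
    rw [hu.conj_mul hz, mul_assoc, h2, mul_one]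
  · rintro k ⟨hk, hgk⟩
    refine (sqrtOdd_unique hk.1 hu.1 ?_).symm
    rw [← (iff' k).mp hgk]
    calc k * k = k * (k⁻¹)⁻¹ := by rw [inv_inv]
      _ = k * (z * k * z⁻¹)⁻¹ := by rw [hk.2]
      _ = k * z * k⁻¹ * z⁻¹ := by group
      _ = k * z * k⁻¹ * z := by rw [conj_self_inv hz]

theorem card_eq_mul_card_inK (hz : Cfsg.IsIsolatedInvolution z) :
    Nat.card G = Nat.card (Subgroup.centralizer ({z} : Set G)) * Nat.card {k : G // InK z k} := by
  let C := Subgroup.centralizer ({z} : Set G)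
  rw [← C.card_mul_index, Subgroup.index]
  congr 1
  refine (Nat.card_eq_of_bijective (fun k : {k : G // InK z k} => (k.1 : G ⧸ C)) ⟨?_, ?_⟩).symm
  · rintro ⟨a, ha⟩ ⟨b, hb⟩ hab
    obtain ⟨k, -, huniq⟩ := existsUnique_inK hz a
    have h1 := huniq a ⟨ha, by simp⟩
    have h2 := huniq b ⟨hb, QuotientGroup.eq.mp hab⟩
    exact Subtype.ext (h1.trans h2.symm)
  · intro q
    induction q using QuotientGroup.induction_on with
    | _ g =>
      obtain ⟨k, ⟨hk, hgk⟩, -⟩ := existsUnique_inK hz g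
      exact ⟨⟨k, hk⟩, (QuotientGroup.eq.mpr hgk).symm⟩

/-- An isolated involution of a Sylow 2-subgroup is central in it. -/
theorem commute_of_mem_two_subgroup (hz : Cfsg.IsIsolatedInvolution z) {S : Subgroup G}
    (hS : IsPGroup 2 S) (hzS : z ∈ S) {s : G} (hs : s ∈ S) : Commute s z := by
  have hodd := odd_conj_mul hz s
  have hmem : s * z * s⁻¹ * z ∈ S := mul_mem (mul_mem (mul_mem hs hzS) (inv_mem hs)) hzS
  obtain ⟨k, hk⟩ := hS ⟨_, hmem⟩
  have hk' : (s * z * s⁻¹ * z) ^ 2 ^ k = 1 := by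
    simpa using congrArg Subtype.val hk
  obtain ⟨j, -, hj⟩ := (Nat.dvd_prime_pow Nat.prime_two).mp (orderOf_dvd_of_pow_eq_one hk')
  rw [hj] at hodd
  have hj0 : j = 0 := by
    by_contra h
    exact Nat.not_even_iff_odd.mpr hodd (Nat.even_pow.mpr ⟨even_two, h⟩)
  rw [hj0, pow_zero, orderOf_eq_one_iff] at hj
  have h2 := eq_inv_of_mul_eq_one_left hj
  rw [conj_self_inv hz, mul_inv_eq_iff_eq_mul] at h2
  exact h2

/-- Two elements of `H ∩ C(z)` conjugate in `H` are conjugate in `H ∩ C(z)`. -/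
theorem exists_conj_commute (hz : Cfsg.IsIsolatedInvolution z) (H : Subgroup G)
    (hzH : ∀ h ∈ H, z * h * z⁻¹ ∈ H) {x y h : G} (hxz : Commute x z) (hyz : Commute y z)
    (hh : h ∈ H) (hconj : h * x * h⁻¹ = y) :
    ∃ c ∈ H, Commute c z ∧ c * x * c⁻¹ = y := by
  have hzi := conj_self_inv hz
  have h2 : z * z = 1 := by rw [← sq, ← hz.1]; exact pow_orderOf_eq_one z
  set k := h⁻¹ * z * h * z with hk
  have hkH : k ∈ H := by
    have : k = h⁻¹ * (z * h * z⁻¹) := by rw [hk, hzi]; group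
    rw [this]; exact mul_mem (inv_mem hh) (hzH h hh)
  have hkK : InK z k := by
    have := inK_conj_mul hz h⁻¹
    simpa [hk] using this
  have hkx : Commute k x := by
    have e : h * x = y * h := by rw [← hconj]; group
    have e2 : h⁻¹ * y = x * h⁻¹ := by rw [← hconj]; group
    calc k * x = h⁻¹ * z * h * (z * x) := by rw [hk]; group
      _ = h⁻¹ * z * h * (x * z) := by rw [hxz.eq]
      _ = h⁻¹ * z * (h * x) * z := by group
      _ = h⁻¹ * (z * y) * h * z := by rw [e]; group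
      _ = h⁻¹ * (y * z) * h * z := by rw [hyz.eq]
      _ = (h⁻¹ * y) * z * h * z := by group
      _ = x * k := by rw [e2, hk]; group
  set w := sqrtOdd k with hw
  refine ⟨h * w, mul_mem hh (pow_mem hkH _), ?_, ?_⟩
  · have hzh : z * h * z = h * k := by rw [hk]; group
    have hzw : z * w * z = w⁻¹ := by
      have := hkK.sqrt.2; rwa [hzi] at this
    have e : z * (h * w) * z = h * w := by
      calc z * (h * w) * z = z * h * (z * z) * w * z := by rw [h2]; group
        _ = (z * h * z) * (z * w * z) := by group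
        _ = h * (k * w⁻¹) := by rw [hzh, hzw]; group
        _ = h * w := by rw [← sqrtOdd_sq hkK.1, ← hw]; group
    calc h * w * z = z * (h * w) * z * z := by rw [e]
      _ = z * (h * w) * (z * z) := by group
      _ = z * (h * w) := by rw [h2, mul_one]
  · have hwx : Commute w x := hkx.pow_left _
    calc h * w * x * (h * w)⁻¹ = h * (w * x) * w⁻¹ * h⁻¹ := by group
      _ = y := by rw [hwx.eq, ← hconj]; group

end Isolated

end Cfsg.Agent.TwoFusion36
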