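import Cfsg.Agent.TwoFusion36.WrFusion2
import Cfsg.Prelude.Def_Transfer

/-!
# Normal subgroups and classes of involutions, wreathed case (helper36)
-/

set_option linter.unusedSectionVars false

namespace Cfsg.Agent.TwoFusion36

variable {G : Type*} [Group G] [Finite G]

namespace WrSylow

variable {S : Sylow 2 G} {f : ℕ} {x y z : G} (W : WrSylow S f x y z)
include W

/-! ### Classes of involutions -/

theorem invol_conj {v : G} (hv : orderOf v = 2) :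
    IsConj v (x ^ (2 * f : ℤ) * y ^ (2 * f : ℤ)) ∨ IsConj v (x ^ (2 * f : ℤ) * y ^ (0 : ℤ)) ∨
      IsConj v z := by
  have D := W.wr
  have hp : IsPGroup 2 (Subgroup.zpowers v) :=
    IsPGroup.of_card (n := 1) (by rw [Nat.card_zpowers, hv, pow_one])
  obtain ⟨m, -, hm⟩ := exists_conj_into_sylow S (M := ⊤) le_top le_top hp
  have hc : IsConj v (m * v * m⁻¹) := isConj_iff.mpr ⟨m, rfl⟩
  have hw : orderOf (m * v * m⁻¹) = 2 := ((MulAut.conj m).orderOf_eq _).trans hv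
  have hw2 : m * v * m⁻¹ * (m * v * m⁻¹) = 1 := by rw [← sq, ← hw, pow_orderOf_eq_one]
  rcases D.sq_one (hm v (Subgroup.mem_zpowers v)) hw2 with h | h | h | h | ⟨i, j, h, hij⟩
  · rw [h, orderOf_one] at hw; omega
  · exact Or.inl (h ▸ hc)
  · exact Or.inr (Or.inl (h ▸ hc))
  · exact Or.inr (Or.inl ((h ▸ hc).trans (isConj_iff.mpr ⟨z, D.u2_conj⟩)))
  · obtain ⟨s, -, hs⟩ := D.v_conj_rep hij
    exact Or.inr (Or.inr ((h ▸ hc).trans (isConj_iff.mpr ⟨s, hs⟩)))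

theorem isConj_c_u1 (h : W.UMove) :
    IsConj (x ^ (2 * f : ℤ) * y ^ (2 * f : ℤ)) (x ^ (2 * f : ℤ) * y ^ (0 : ℤ)) := by
  obtain ⟨g, -, -, hg, -, -⟩ := h
  exact isConj_iff.mpr ⟨g, hg⟩

theorem isConj_u1_z (h : W.VMove) : IsConj (x ^ (2 * f : ℤ) * y ^ (0 : ℤ)) z := by
  have D := W.wr
  obtain ⟨g, -, -, hg, -, -⟩ := h
  obtain ⟨s, hs⟩ := D.mem_diag.mp hg
  have he := eq_mul_of_inv_mul_eq hs
  rw [D.v_mul_u] at he
  have ho : orderOf (x ^ (0 + s) * y ^ (0 + s) * z) = 2 := by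
    rw [← he]; exact ((MulAut.conj g).orderOf_eq _).trans D.orderOf_u1
  have h2 : x ^ (0 + s) * y ^ (0 + s) * z * (x ^ (0 + s) * y ^ (0 + s) * z) = 1 := by
    rw [← sq, ← ho, pow_orderOf_eq_one]
  rw [D.v_sq, D.u_eq_one] at h2
  obtain ⟨t, -, ht⟩ := D.v_conj_rep h2.1
  exact (isConj_iff.mpr ⟨g, he⟩).trans (isConj_iff.mpr ⟨t, ht⟩)

theorem c_not_conj_u1 (hU : W.UFix) :
    ¬ IsConj (x ^ (2 * f : ℤ) * y ^ (2 * f : ℤ)) (x ^ (2 * f : ℤ) * y ^ (0 : ℤ)) := fun h => by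
  obtain ⟨g, hg⟩ := isConj_iff.mp h
  exact W.u1_ne_c (W.diag_fixed hU (W.wr.u_mem _ _) hg)

theorem count_one (hU : W.UMove) (hV : W.VMove) :
    Nat.card {C : ConjClasses G // ∃ t : G, orderOf t = 2 ∧ ConjClasses.mk t = C} = 1 := by
  refine card_classes_one _ _ W.wr.orderOf_c fun t ht => ?_
  rcases W.invol_conj ht with h | h | h
  · exact h
  · exact h.trans (W.isConj_c_u1 hU).symm
  · exact h.trans ((W.isConj_c_u1 hU).trans (W.isConj_u1_z hV)).symm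

theorem count_two_U (hU : W.UFix) (hV : W.VMove) :
    Nat.card {C : ConjClasses G // ∃ t : G, orderOf t = 2 ∧ ConjClasses.mk t = C} = 2 := by
  refine card_classes_two _ _ _ W.wr.orderOf_c W.wr.orderOf_u1 (W.c_not_conj_u1 hU) fun t ht => ?_
  rcases W.invol_conj ht with h | h | h
  · exact Or.inl h
  · exact Or.inr h
  · exact Or.inr (h.trans (W.isConj_u1_z hV).symm)

theorem count_two_V (hU : W.UMove) (hV : W.VFix) :
    Nat.card {C : ConjClasses G // ∃ t : G, orderOf t = 2 ∧ ConjClasses.mk t = C} = 2 := by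
  refine card_classes_two _ _ _ W.wr.orderOf_c W.wr.orderOf_z
    (fun h => W.z_not_conj_abel hV W.c_mem_abel h.symm) fun t ht => ?_
  rcases W.invol_conj ht with h | h | h
  · exact Or.inl h
  · exact Or.inl (h.trans (W.isConj_c_u1 hU).symm)
  · exact Or.inr h

theorem count_three (hU : W.UFix) (hV : W.VFix) :
    Nat.card {C : ConjClasses G // ∃ t : G, orderOf t = 2 ∧ ConjClasses.mk t = C} = 3 :=
  card_classes_three _ _ _ _ W.wr.orderOf_c W.wr.orderOf_u1 W.wr.orderOf_z (W.c_not_conj_u1 hU)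
    (fun h => W.z_not_conj_abel hV W.c_mem_abel h.symm)
    (fun h => W.z_not_conj_abel hV ⟨_, _, rfl⟩ h.symm) fun _ ht => W.invol_conj ht

/-! ### The two homomorphisms -/

theorem exists_theta : ∃ φ : (S : Subgroup G) →* Multiplicative (ZMod (4 * f)),
    Function.Surjective φ ∧
    (∀ (s : (S : Subgroup G)) (i j : ℤ), (s : G) = x ^ i * y ^ j →
      φ s = Multiplicative.ofAdd ((i + j : ℤ) : ZMod (4 * f))) ∧
    (∀ (s : (S : Subgroup G)) (i j : ℤ), (s : G) = x ^ i * y ^ j * z →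
      φ s = Multiplicative.ofAdd ((i + j + 2 * f : ℤ) : ZMod (4 * f))) := by
  have D := W.wr
  let P : G → ZMod (4 * f) → Prop := fun s r => ∃ i j : ℤ,
    (s = x ^ i * y ^ j ∧ r = ((i + j : ℤ) : ZMod (4 * f))) ∨
    (s = x ^ i * y ^ j * z ∧ r = ((i + j + 2 * f : ℤ) : ZMod (4 * f)))
  have hex : ∀ s : (S : Subgroup G), ∃ r, P s r := fun s => by
    obtain ⟨i, j, h | h⟩ := D.cases s.2
    · exact ⟨_, i, j, Or.inl ⟨h, rfl⟩⟩
    · exact ⟨_, i, j, Or.inr ⟨h, rfl⟩⟩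
  have huniq : ∀ {s : G} {r r' : ZMod (4 * f)}, P s r → P s r' → r = r' := by
    intro s r r' h h'
    obtain ⟨i, j, ⟨hs, hr⟩ | ⟨hs, hr⟩⟩ := h <;> obtain ⟨k, l, ⟨hs', hr'⟩ | ⟨hs', hr'⟩⟩ := h' <;>
      rw [hs] at hs' <;> rw [hr, hr']
    · obtain ⟨⟨p, hp⟩, ⟨q, hq⟩⟩ := D.u_congr.mp hs'
      rw [ZMod.intCast_eq_intCast_iff_dvd_sub]
      exact ⟨-p - q, by push_cast; linarith⟩
    · exact absurd hs' (D.u_ne_v _ _ _ _)
    · exact absurd hs'.symm (D.u_ne_v _ _ _ _)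
    · obtain ⟨⟨p, hp⟩, ⟨q, hq⟩⟩ := D.v_congr.mp hs'
      rw [ZMod.intCast_eq_intCast_iff_dvd_sub]
      exact ⟨-p - q, by push_cast; linarith⟩
  choose θ hθ using hex
  have h4 : ((4 * f : ℤ) : ZMod (4 * f)) = 0 := by
    rw [ZMod.intCast_zmod_eq_zero_iff_dvd]; exact ⟨1, by push_cast; ring⟩
  have hmul : ∀ s t : (S : Subgroup G), θ (s * t) = θ s + θ t := by
    intro s t
    apply huniq (hθ (s * t))
    obtain ⟨i, j, ⟨hs, hr⟩ | ⟨hs, hr⟩⟩ := hθ s <;> obtain ⟨k, l, ⟨ht, hr'⟩ | ⟨ht, hr'⟩⟩ := hθ t <;>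
      rw [hr, hr', Subgroup.coe_mul, hs, ht]
    · exact ⟨_, _, Or.inl ⟨D.u_mul i j k l, by push_cast; ring⟩⟩
    · exact ⟨_, _, Or.inr ⟨D.u_mul_v i j k l, by push_cast; ring⟩⟩
    · exact ⟨_, _, Or.inr ⟨D.v_mul_u i j k l, by push_cast; ring⟩⟩
    · refine ⟨_, _, Or.inl ⟨D.v_mul_v i j k l, ?_⟩⟩
      push_cast at h4 ⊢
      linear_combination h4
  let φ : (S : Subgroup G) →* Multiplicative (ZMod (4 * f)) :=
    MonoidHom.mk' (fun s => Multiplicative.ofAdd (θ s)) (fun s t => by rw [hmul]; rfl)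
  have hu : ∀ (s : (S : Subgroup G)) (i j : ℤ), (s : G) = x ^ i * y ^ j →
      φ s = Multiplicative.ofAdd ((i + j : ℤ) : ZMod (4 * f)) := fun s i j h =>
    congrArg Multiplicative.ofAdd (huniq (hθ s) ⟨i, j, Or.inl ⟨h, rfl⟩⟩)
  refine ⟨φ, fun r => ?_, hu, fun s i j h =>
    congrArg Multiplicative.ofAdd (huniq (hθ s) ⟨i, j, Or.inr ⟨h, rfl⟩⟩)⟩
  obtain ⟨n, hn⟩ := ZMod.intCast_surjective (Multiplicative.toAdd r)
  exact ⟨⟨_, D.u_mem n 0⟩, by rw [hu _ n 0 rfl, add_zero, hn]; rfl⟩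

theorem theta_invariant (hU : W.UFix) {φ : (S : Subgroup G) →* Multiplicative (ZMod (4 * f))}
    (hu : ∀ (s : (S : Subgroup G)) (i j : ℤ), (s : G) = x ^ i * y ^ j →
      φ s = Multiplicative.ofAdd ((i + j : ℤ) : ZMod (4 * f)))
    (hv : ∀ (s : (S : Subgroup G)) (i j : ℤ), (s : G) = x ^ i * y ^ j * z →
      φ s = Multiplicative.ofAdd ((i + j + 2 * f : ℤ) : ZMod (4 * f)))
    (s t : (S : Subgroup G)) (g : G) (h : g * (s : G) * g⁻¹ = t) : φ s = φ t := by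
  have D := W.wr
  obtain ⟨i, j, hs | hs⟩ := D.cases s.2 <;> obtain ⟨k, l, ht | ht⟩ := D.cases t.2
  · rw [hu s i j hs, hu t k l ht]
    rw [hs, ht] at h
    refine congrArg _ ?_
    rw [ZMod.intCast_eq_intCast_iff_dvd_sub]
    rcases W.abel_fusion_coord hU h with h' | h' <;> obtain ⟨⟨p, hp⟩, ⟨q, hq⟩⟩ := D.u_congr.mp h' <;>
      exact ⟨p + q, by push_cast; linarith⟩
  · rw [hu s i j hs, hv t k l ht]
    rw [hs, ht] at h
    refine congrArg _ ?_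
    rw [ZMod.intCast_eq_intCast_iff_dvd_sub]
    simpa using W.theta_mixed hU h
  · rw [hv s i j hs, hu t k l ht]
    rw [hs, ht] at h
    refine congrArg _ ?_
    rw [ZMod.intCast_eq_intCast_iff_dvd_sub]
    have := W.theta_mixed hU (g := g⁻¹) (i := i) (j := j) (k := k) (l := l) (by rw [← h]; group)
    rw [show k + l - (i + j + 2 * (f : ℤ)) = -(i + j + 2 * f - (k + l)) by ring, dvd_neg]
    simpa using this
  · rw [hv s i j hs, hv t k l ht]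
    rw [hs, ht] at h
    refine congrArg _ ?_
    rw [ZMod.intCast_eq_intCast_iff_dvd_sub]
    have h1 := W.conj_mul_self h
    rw [D.v_sq, D.v_sq] at h1
    obtain ⟨⟨p, hp⟩, -⟩ := D.u_congr.mp (W.diag_fixed hU (D.u_mem _ _) h1)
    exact ⟨p, by push_cast; linarith⟩

theorem quat_mem {i j : ℤ} :
    (x ^ i * y ^ j ∈ W.wr.ssub (4 * f) (2 * f) W.wr.quat_ha ↔ (4 * f : ℤ) ∣ i + j) ∧
    (x ^ i * y ^ j * z ∈ W.wr.ssub (4 * f) (2 * f) W.wr.quat_ha ↔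
      (4 * f : ℤ) ∣ i + j + 2 * f) := by
  refine ⟨W.wr.u_mem_ssub dvd_rfl, (W.wr.v_mem_ssub dvd_rfl).trans ?_⟩
  constructor <;> rintro ⟨p, hp⟩
  · exact ⟨p + 1, by linarith⟩
  · exact ⟨p - 1, by linarith⟩

theorem exists_ker_theta (hU : W.UFix) : ∃ K : Subgroup G, K.Normal ∧ K.index = 4 * f ∧
    (S : Subgroup G) ⊓ K = W.wr.ssub (4 * f) (2 * f) W.wr.quat_ha := by
  have D := W.wr
  have := D.one_le
  haveI : NeZero (4 * f) := ⟨by omega⟩
  obtain ⟨φ, hφ, hu, hv⟩ := W.exists_theta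
  obtain ⟨K, hK, hidx, hmem⟩ := exists_ker S φ hφ (W.theta_invariant hU hu hv)
  refine ⟨K, hK, ?_, ?_⟩
  · rw [hidx, Nat.card_congr Multiplicative.toAdd, Nat.card_zmod]
  ext v
  rw [Subgroup.mem_inf]
  constructor
  · rintro ⟨h1, h2⟩
    have h3 := (hmem ⟨v, h1⟩).mp h2
    obtain ⟨i, j, rfl | rfl⟩ := D.cases h1
    · rw [hu _ i j rfl, ofAdd_eq_one, ZMod.intCast_zmod_eq_zero_iff_dvd] at h3
      exact W.quat_mem.1.mpr (by exact_mod_cast h3)
    · rw [hv _ i j rfl, ofAdd_eq_one, ZMod.intCast_zmod_eq_zero_iff_dvd] at h3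
      exact W.quat_mem.2.mpr (by exact_mod_cast h3)
  · intro hY
    have h1 := D.ssub_le D.quat_ha hY
    refine ⟨h1, (hmem ⟨v, h1⟩).mpr ?_⟩
    obtain ⟨i, j, rfl | rfl⟩ := D.cases h1
    · rw [hu _ i j rfl, ofAdd_eq_one, ZMod.intCast_zmod_eq_zero_iff_dvd]
      exact_mod_cast W.quat_mem.1.mp hY
    · rw [hv _ i j rfl, ofAdd_eq_one, ZMod.intCast_zmod_eq_zero_iff_dvd]
      exact_mod_cast W.quat_mem.2.mp hY

/-- With `N(U)` small there is a normal subgroup of index two. -/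
theorem exists_ker_parity (hU : W.UFix) : ∃ K : Subgroup G, K.index = 2 := by
  have D := W.wr
  obtain ⟨φ, hφ, hu, hv⟩ := W.exists_theta
  let ψ : Multiplicative (ZMod (4 * f)) →* Multiplicative (ZMod 2) :=
    AddMonoidHom.toMultiplicative
      (ZMod.castHom (⟨2 * f, by ring⟩ : 2 ∣ 4 * f) (ZMod 2)).toAddMonoidHom
  have hψ : Function.Surjective ψ := fun r =>
    (ZMod.ringHom_surjective (ZMod.castHom (⟨2 * f, by ring⟩ : 2 ∣ 4 * f) (ZMod 2))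
      (Multiplicative.toAdd r)).imp' Multiplicative.ofAdd fun _ h => congrArg Multiplicative.ofAdd h
  obtain ⟨K, -, hidx, -⟩ := exists_ker S (ψ.comp φ) (hψ.comp hφ) fun s t g h => by
    show ψ (φ s) = ψ (φ t)
    rw [W.theta_invariant hU hu hv s t g h]
  exact ⟨K, by rw [hidx, Nat.card_congr Multiplicative.toAdd, Nat.card_zmod]⟩

theorem abel_index : (W.wr.abel.subgroupOf (S : Subgroup G)).index = 2 := by
  have h := Subgroup.card_mul_index (W.wr.abel.subgroupOf (S : Subgroup G))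
  rw [Nat.card_congr (Subgroup.subgroupOfEquivOfLe W.wr.abel_le).toEquiv, W.wr.card_abel,
    W.wr.card] at h
  have := W.wr.one_le
  apply Nat.eq_of_mul_eq_mul_left (show 0 < 4 * f * (4 * f) by positivity)
  rw [h]; ring

theorem exists_ker_abel (hV : W.VFix) : ∃ K : Subgroup G, K.Normal ∧ K.index = 2 ∧
    (S : Subgroup G) ⊓ K = W.wr.abel := by
  have hsurj : Function.Surjective (signHom _ W.abel_index) := by
    intro r
    rcases Int.units_eq_one_or r with rfl | rfl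
    · exact ⟨1, map_one _⟩
    · refine ⟨⟨z, W.wr.hz⟩, ?_⟩
      rcases Int.units_eq_one_or (signHom _ W.abel_index ⟨z, W.wr.hz⟩) with h | h
      · exfalso
        have h1 : z ∈ W.wr.abel :=
          Subgroup.mem_subgroupOf.mp ((signHom_eq_one _ W.abel_index ⟨z, W.wr.hz⟩).mp h)
        exact W.wr.v_notMem_abel 0 0 (by rwa [← W.wr.z_eq])
      · exact h
  obtain ⟨K, hK, hidx, hmem⟩ := exists_ker S (signHom _ W.abel_index) hsurj
    fun s t g h => signHom_congr _ _ ⟨fun hq => W.abel_sign hV t.2 hq (g := g⁻¹)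
      (show g⁻¹ * (t : G) * g⁻¹⁻¹ = (s : G) by rw [← h]; group),
      fun hq => W.abel_sign hV s.2 hq h⟩
  refine ⟨K, hK, by rw [hidx, Nat.card_eq_fintype_card, Fintype.card_units_int], ?_⟩
  ext v
  constructor
  · rintro ⟨h1, h2⟩
    exact Subgroup.mem_subgroupOf.mp ((signHom_eq_one _ _ _).mp ((hmem ⟨v, h1⟩).mp h2))
  · intro hv
    exact ⟨W.wr.abel_le hv,
      (hmem ⟨v, W.wr.abel_le hv⟩).mpr ((signHom_eq_one _ _ _).mpr hv)⟩

theorem normalPComplement (hU : W.UFix) (hV : W.VFix) : Cfsg.HasNormalPComplement 2 G := by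
  have D := W.wr
  obtain ⟨K, hK, hKi, hKS⟩ := W.exists_ker_theta hU
  obtain ⟨L, hL, hLi, hLS⟩ := W.exists_ker_abel hV
  obtain ⟨k, hk⟩ := D.hpow
  have hdvd : (K ⊓ L).index ∣ 2 ^ (k + 3) := by
    rw [← Subgroup.relIndex_mul_index (inf_le_left : K ⊓ L ≤ K), Subgroup.inf_relIndex_left, hKi,
      show 2 ^ (k + 3) = 2 * (4 * f) by rw [hk]; ring]
    exact Nat.mul_dvd_mul_right (hLi ▸ Subgroup.relIndex_dvd_index_of_normal L K) _
  obtain ⟨a, -, ha⟩ := (Nat.dvd_prime_pow Nat.prime_two).mp hdvd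
  refine hasNormalPComplement_of_cyclic S (K ⊓ L) ha ?_
  refine Subgroup.isCyclic_of_le (H' := Subgroup.zpowers (x ^ (1 : ℤ) * y ^ (-1 : ℤ))) ?_
  rintro v ⟨h1, h2, h3⟩
  have hq : v ∈ D.ssub (4 * f) (2 * f) D.quat_ha := hKS ▸ Subgroup.mem_inf.mpr ⟨h1, h2⟩
  have hd : v ∈ D.abel := hLS ▸ Subgroup.mem_inf.mpr ⟨h1, h3⟩
  obtain ⟨i, j, rfl⟩ := hd
  obtain ⟨p, hp⟩ := W.quat_mem.1.mp hq
  refine Subgroup.mem_zpowers_iff.mpr ⟨i, ?_⟩
  rw [(D.comm.zpow_zpow _ _).mul_zpow, ← zpow_mul, ← zpow_mul, one_mul]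
  exact D.u_eq_of 0 (-p) (by ring) (by linarith)

/-! ### No subgroup of index two -/

/-- A subgroup containing all commutators of `U` with odd-order elements contains `U`. -/
theorem abel_le_core (hU : W.UMove) (H : Subgroup G)
    (hH : ∀ g : G, Odd (orderOf g) → ∀ v ∈ W.wr.abel, g * v * g⁻¹ * v⁻¹ ∈ H) :
    W.wr.abel ≤ H := by
  have D := W.wr
  obtain ⟨g, hgN, hodd, hg1, hg2, hg3⟩ := hU
  have hgm : ∀ u ∈ D.abel, g * u * g⁻¹ ∈ D.abel := fun u hu =>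
    (Subgroup.mem_normalizer_iff.mp hgN u).mp hu
  let F : D.abel → D.abel := fun u =>
    ⟨g * u * g⁻¹ * (u : G)⁻¹, mul_mem (hgm _ u.2) (inv_mem u.2)⟩
  have hinv : ∀ w ∈ D.abel, w * w = 1 → g * w * g⁻¹ = w → w = 1 := by
    intro w hw hw2 hfix
    rcases W.invol_U hw hw2 with h | h | h | h
    · exact h
    · rw [h, hg1] at hfix; exact absurd hfix W.u1_ne_c
    · rw [h, hg2] at hfix; exact absurd hfix W.u2_ne_u1
    · rw [h, hg3] at hfix; exact absurd hfix.symm W.u2_ne_c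
  have hfix : ∀ (k : ℕ), ∀ d ∈ D.abel, d ^ 2 ^ k = 1 → g * d * g⁻¹ = d → d = 1 := by
    intro k
    induction k with
    | zero => intro d _ h _; simpa using h
    | succ k ih =>
      intro d hd h hdg
      refine ih d hd (hinv _ (pow_mem hd _) ?_ (by rw [← conj_pow, hdg])) hdg
      rw [← pow_add, ← two_mul, ← pow_succ']; exact h
  have hinj : Function.Injective F := by
    intro a b hab
    have h : g * a * g⁻¹ * (a : G)⁻¹ = g * b * g⁻¹ * (b : G)⁻¹ := congrArg Subtype.val hab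
    have hd : g * ((b : G)⁻¹ * a) * g⁻¹ = (b : G)⁻¹ * a := by
      have h1 : g * a * g⁻¹ = g * b * g⁻¹ * (b : G)⁻¹ * a := by rw [← h]; group
      rw [show g * ((b : G)⁻¹ * a) * g⁻¹ = (g * b * g⁻¹)⁻¹ * (g * a * g⁻¹) by group, h1]
      group
    obtain ⟨k, hk⟩ := W.abel_two (b⁻¹ * a)
    have := hfix k _ (b⁻¹ * a).2 (congrArg Subtype.val hk) hd
    exact (inv_mul_eq_one.mp (Subtype.ext this : b⁻¹ * a = 1)).symm
  intro u hu
  obtain ⟨a, ha⟩ := (Finite.injective_iff_surjective.mp hinj) ⟨u, hu⟩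
  rw [show u = g * a * g⁻¹ * (a : G)⁻¹ from (congrArg Subtype.val ha).symm]
  exact hH g hodd a a.2

/-- The element `[g, i]` used to generate the quaternion subgroup. -/
theorem exists_comm (hV : W.VMove) : ∃ g : G, ∃ r : ℤ, Odd (orderOf g) ∧
    g * (x ^ (f : ℤ) * y ^ (-(f : ℤ))) * g⁻¹ * (x ^ (f : ℤ) * y ^ (-(f : ℤ)))⁻¹ =
      x ^ (r + f) * y ^ (r - f) * z ∧ (4 * f : ℤ) ∣ 2 * r - 2 * f := by
  have D := W.wr
  obtain ⟨g, hgN, hodd, hg1, -, -⟩ := hV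
  obtain ⟨a, ha⟩ := D.mem_diag.mp hg1
  obtain ⟨b, hb⟩ := D.mem_diag.mp (W.NV_Z hgN (D.mem_diag.mpr ⟨-(f : ℤ), rfl⟩))
  set i₀ := x ^ (f : ℤ) * y ^ (-(f : ℤ)) with hi
  have hgi : g * i₀ * g⁻¹ = x ^ (a + b) * y ^ (a + b) * z := by
    have e : i₀ = x ^ (2 * f : ℤ) * y ^ (0 : ℤ) * (x ^ (-(f : ℤ)) * y ^ (-(f : ℤ))) := by
      rw [hi, D.u_mul]; ring_nf
    rw [e, show g * (x ^ (2 * f : ℤ) * y ^ (0 : ℤ) * (x ^ (-(f : ℤ)) * y ^ (-(f : ℤ)))) * g⁻¹ =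
      g * (x ^ (2 * f : ℤ) * y ^ (0 : ℤ)) * g⁻¹ * (g * (x ^ (-(f : ℤ)) * y ^ (-(f : ℤ))) * g⁻¹)
      by group, hb, eq_mul_of_inv_mul_eq ha, D.v_mul_u, D.v_mul_u, zero_add]
  have hsq : i₀ * i₀ = x ^ (2 * f : ℤ) * y ^ (2 * f : ℤ) := by
    rw [hi, D.u_mul]
    exact D.u_eq_of 0 (-1) (by ring) (by ring)
  refine ⟨g, a + b, hodd, ?_, ?_⟩
  · rw [hgi, hi, D.u_inv, D.v_mul_u, neg_neg]; ring_nf
  · have h1 := W.conj_mul_self hgi
    rw [hsq, W.NV_c hgN, D.v_sq, D.u_congr] at h1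
    obtain ⟨⟨p, hp⟩, -⟩ := h1
    exact ⟨-p, by linarith⟩

/-- A subgroup containing all commutators of `Y` with odd-order elements contains `Y`. -/
theorem quat_le_core (hV : W.VMove) (H : Subgroup G)
    (hH : ∀ g : G, Odd (orderOf g) → ∀ v ∈ W.wr.ssub (4 * f) (2 * f) W.wr.quat_ha,
      g * v * g⁻¹ * v⁻¹ ∈ H) :
    W.wr.ssub (4 * f) (2 * f) W.wr.quat_ha ≤ H := by
  have D := W.wr
  obtain ⟨g, r, hodd, hq, p, hp⟩ := W.exists_comm hV
  set i₀ := x ^ (f : ℤ) * y ^ (-(f : ℤ)) with hi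
  have hi_mem : i₀ ∈ D.ssub (4 * f) (2 * f) D.quat_ha := W.quat_mem.1.mpr ⟨0, by ring⟩
  have hqH : x ^ (r + f) * y ^ (r - f) * z ∈ H := hq ▸ hH g hodd _ hi_mem
  set x₁ := x ^ (1 : ℤ) * y ^ (0 : ℤ) with hx₁
  have hodd' : Odd (orderOf (x₁ * g * x₁⁻¹)) := by
    rw [← MulAut.conj_apply, MulEquiv.orderOf_eq]; exact hodd
  have hq' := hH _ hodd' _ hi_mem
  have hxi : x₁ * i₀ * x₁⁻¹ = i₀ := D.u_conj_u _ _ _ _
  have e : x₁ * g * x₁⁻¹ * i₀ * (x₁ * g * x₁⁻¹)⁻¹ * i₀⁻¹ =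
      x₁ * (g * i₀ * g⁻¹ * i₀⁻¹) * x₁⁻¹ := by
    conv_lhs => rw [← hxi]
    group
  rw [e, hq, hx₁, D.u_conj_v] at hq'
  have hxy := mul_mem hq' (inv_mem hqH)
  rw [D.v_inv, D.v_mul_v] at hxy
  have hxy' : x ^ (1 : ℤ) * y ^ (-1 : ℤ) ∈ H := by
    convert hxy using 3 <;> ring
  have hgen : ∀ i j : ℤ, (4 * f : ℤ) ∣ i + j → x ^ i * y ^ j ∈ H := by
    rintro i j ⟨t, ht⟩
    have := zpow_mem hxy' i
    rw [(D.comm.zpow_zpow _ _).mul_zpow, ← zpow_mul, ← zpow_mul, one_mul] at this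
    rwa [D.u_eq_of (i := i) (j := j) (k := i) (l := -1 * i) 0 t (by ring) (by linarith)]
  intro v hv
  obtain ⟨i, j, rfl | rfl⟩ := D.cases (D.ssub_le D.quat_ha hv)
  · exact hgen i j (W.quat_mem.1.mp hv)
  · obtain ⟨t, ht⟩ := W.quat_mem.2.mp hv
    have h1 := mul_mem (hgen (i - (r + f)) (j - (r - f)) ⟨t - p - 1, by linarith⟩) hqH
    rwa [D.u_mul_v, sub_add_cancel, sub_add_cancel] at h1

theorem no_index_two_both (hU : W.UMove) (hV : W.VMove) : ∀ H : Subgroup G, H.index ≠ 2 := by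
  have D := W.wr
  refine no_index_two S fun H hH v hv => ?_
  have hA := W.abel_le_core hU H fun g hg v _ => comm_mem_of_index_two hH hg v
  obtain ⟨g, r, hodd, hq, -⟩ := W.exists_comm hV
  have hqH : x ^ (r + f) * y ^ (r - f) * z ∈ H := hq ▸ comm_mem_of_index_two hH hodd _
  obtain ⟨i, j, rfl | rfl⟩ := D.cases hv
  · exact hA ⟨i, j, rfl⟩
  · have h1 := mul_mem (hA ⟨i - (r + f), j - (r - f), rfl⟩) hqH
    rwa [D.u_mul_v, sub_add_cancel, sub_add_cancel] at h1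

theorem UV_of_no_index_two (hG : ∀ H : Subgroup G, H.index ≠ 2) : W.UMove ∧ W.VMove := by
  refine ⟨W.uFix_or_uMove.resolve_left fun hU => ?_, W.vFix_or_vMove.resolve_left fun hV => ?_⟩
  · obtain ⟨K, hK⟩ := W.exists_ker_parity hU
    exact hG K hK
  · obtain ⟨K, -, hK, -⟩ := W.exists_ker_abel hV
    exact hG K hK

/-! ### Conclusions for the quaternion case -/

theorem center_weakly_closed (hU : W.UFix) (Z₀ : Subgroup G)
    (hZ₀ : Z₀ ≤ (Subgroup.center (S : Subgroup G)).map (S : Subgroup G).subtype) :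
    Cfsg.IsWeaklyClosed Z₀ (S : Subgroup G) := by
  have D := W.wr
  rw [D.center_map] at hZ₀
  refine ⟨hZ₀.trans D.diag_le, fun g hg => ?_⟩
  have key : ∀ v ∈ Z₀, g * v * g⁻¹ = v := by
    intro v hv
    obtain ⟨k, rfl⟩ := D.mem_diag.mp (hZ₀ hv)
    exact W.diag_fixed hU (hg ⟨_, hv, rfl⟩) rfl
  ext w
  constructor
  · rintro ⟨v, hv, rfl⟩
    show g * v * g⁻¹ ∈ Z₀
    rw [key v hv]; exact hv
  · exact fun hw => ⟨w, hw, key w hw⟩

theorem quaternion_conclusion (hU : W.UFix) (hV : W.VMove) :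
    ∃ K : Subgroup G, K.Normal ∧ K.index = 4 * f ∧
      (∀ P : Sylow 2 ↥K, ∃ m : ℕ, 1 ≤ m ∧ Nonempty ((P : Subgroup ↥K) ≃* QuaternionGroup (2 ^ m))) ∧
      (∀ H : Subgroup ↥K, H.index ≠ 2) := by
  have D := W.wr
  obtain ⟨K, hK, hKi, hKS⟩ := W.exists_ker_theta hU
  obtain ⟨k, hk⟩ := D.hpow
  refine ⟨K, hK, hKi, fun P => ?_, ?_⟩
  · obtain ⟨e⟩ := sylow_normal_equiv S K P
    obtain ⟨e'⟩ := D.gq_equiv
    refine ⟨k + 1, by omega, ⟨?_⟩⟩
    rw [show 2 ^ (k + 1) = 2 * f by rw [hk]; ring]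
    exact (e.trans (MulEquiv.subgroupCongr hKS)).trans e'
  · refine no_index_two_core S hKS fun H hH => W.quat_le_core hV _ ?_
    exact core_pow (K := K) (a := k + 2) (by rw [hKi, hk]; ring)
      (hKS ▸ inf_le_right) H hH

theorem abelian_conclusion (hU : W.UMove) (hV : W.VFix) :
    ∃ K : Subgroup G, K.Normal ∧ K.index = 2 ∧ W.wr.abel ≤ K ∧ (∀ H : Subgroup ↥K, H.index ≠ 2) := by
  obtain ⟨K, hK, hKi, hKS⟩ := W.exists_ker_abel hV
  have hle : W.wr.abel ≤ K := hKS ▸ inf_le_right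
  refine ⟨K, hK, hKi, hle, no_index_two_core S hKS fun H hH => W.abel_le_core hU _ ?_⟩
  exact core_pow (K := K) (a := 1) (by rw [hKi, pow_one]) hle H hH

end WrSylow

theorem exists_wrSylow {G : Type*} [Group G] [Finite G] (S : Sylow 2 G)
    (hS : Cfsg.IsWreathed (S : Subgroup G)) : ∃ f x y z, WrSylow S f x y z := by
  obtain ⟨f, x, y, z, D⟩ := exists_isWr hS
  exact ⟨f, x, y, z, ⟨D⟩⟩

/-- The standing hypotheses of the statements, moved to the standard subgroups. -/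
theorem WrSylow.transfer {G : Type*} [Group G] [Finite G] {S : Sylow 2 G} {f : ℕ} {x y z : G}
    (W : WrSylow S f x y z) (n : ℕ) (hn : Nat.card S = 2 ^ (2 * n + 1)) (U : Subgroup G)
    (hUS : U ≤ S) (hUab : IsMulCommutative U) (hUcard : Nat.card U = 2 ^ (2 * n)) (Q : Subgroup G)
    (hQS : Q ≤ S) (eQ : Q ≃* QuaternionGroup 2) :
    2 ^ n = 4 * f ∧ U = W.wr.abel ∧
    ((Q ⊔ ((Subgroup.center (S : Subgroup G)).map (S : Subgroup G).subtype)) ⊔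
        Subgroup.centralizer
          ((Q ⊔ ((Subgroup.center (S : Subgroup G)).map (S : Subgroup G).subtype) : Subgroup G) : Set G)).relIndex
      (Subgroup.normalizer
          ((Q ⊔ ((Subgroup.center (S : Subgroup G)).map (S : Subgroup G).subtype) : Subgroup G) : Set G)) =
    (W.wr.dsub (2 * f : ℕ) 0 ⊔ Subgroup.centralizer (W.wr.dsub (2 * f : ℕ) 0 : Set G)).relIndex
      (Subgroup.normalizer (W.wr.dsub (2 * f : ℕ) 0 : Set G)) := by
  have D := W.wr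
  obtain ⟨k, hk⟩ := D.hpow
  have h1 : 2 ^ (2 * k + 5) = 2 ^ (2 * n + 1) := by rw [← hn, D.card, hk]; ring
  have h2 := Nat.pow_right_injective le_rfl h1
  have h4 : 2 ^ n = 4 * f := by rw [show n = k + 2 by omega, hk]; ring
  refine ⟨h4, D.eq_abel hUS hUab (by rw [hUcard, ← h4, two_mul, pow_add]), ?_⟩
  rw [D.center_map]
  obtain ⟨a, ha, hQa⟩ := D.quat_sup hQS eQ
  obtain ⟨s, -, hs⟩ := W.dsub_map ha
  rw [hQa, ← hs, relIndex_sup_centralizer_map_conj]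

end Cfsg.Agent.TwoFusion36
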