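import Cfsg.Agent.TwoFusion36.QDFusion

/-!
# The four fusion patterns for a quasi-dihedral Sylow 2-subgroup (helper36)
-/

set_option linter.unusedSectionVars false

namespace Cfsg.Agent.TwoFusion36.QDSylow

variable {G : Type*} [Group G] [Finite G] {S : Sylow 2 G} {e : ℕ} {x y : G} (W : QDSylow S e x y)
include W

theorem mem_S_of_orderOf {v : G} {k : ℕ} (hv : orderOf v = 2 ^ k) :
    ∃ g : G, g * v * g⁻¹ ∈ (S : Subgroup G) := by
  obtain ⟨m, -, hm⟩ := exists_conj_into_sylow S (M := ⊤) le_top (R := Subgroup.zpowers v) le_top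
    (IsPGroup.of_card (n := k) (by rw [Nat.card_zpowers, hv]))
  exact ⟨m, hm v (Subgroup.mem_zpowers v)⟩

theorem invol_conj {v : G} (hv : orderOf v = 2) :
    IsConj v (x ^ (4 * e : ℤ)) ∨ IsConj v y := by
  obtain ⟨g, hg⟩ := W.mem_S_of_orderOf (k := 1) (by rw [hv, pow_one])
  have h2 : orderOf (g * v * g⁻¹) = 2 := ((MulAut.conj g).orderOf_eq v).trans hv
  have hgv : IsConj v (g * v * g⁻¹) := isConj_iff.mpr ⟨g, rfl⟩
  rcases W.qd.invol_class hg h2 with h | ⟨k, h⟩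
  · exact Or.inl (h ▸ hgv)
  · obtain ⟨s, -, hs⟩ := W.qd.conj_rep_even k
    exact Or.inr ((h ▸ hgv).trans (isConj_iff.mpr ⟨s, hs⟩))

theorem isConj_i_inv : IsConj (x ^ (-(2 * e : ℤ))) (x ^ (2 * e : ℤ)) :=
  (isConj_iff.mpr ⟨y, W.qd.y_conj_i⟩).symm

theorem four_conj {v : G} (hv : orderOf v = 4) :
    IsConj v (x ^ (2 * e : ℤ)) ∨ IsConj v (x * y) := by
  obtain ⟨g, hg⟩ := W.mem_S_of_orderOf (k := 2) (by rw [hv]; norm_num)
  have h2 : orderOf (g * v * g⁻¹) = 4 := ((MulAut.conj g).orderOf_eq v).trans hv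
  have hgv : IsConj v (g * v * g⁻¹) := isConj_iff.mpr ⟨g, rfl⟩
  rcases W.qd.four_class hg h2 with h | h | ⟨k, h⟩
  · exact Or.inl (h ▸ hgv)
  · exact Or.inl ((h ▸ hgv).trans W.isConj_i_inv)
  · obtain ⟨s, -, hs⟩ := W.qd.conj_rep_odd k
    exact Or.inr ((h ▸ hgv).trans (isConj_iff.mpr ⟨s, hs⟩))

theorem orderOf_xy : orderOf (x * y) = 4 := by simpa using W.qd.orderOf_b_odd 0

theorem isConj_of_four6
    (h : (Subgroup.centralizer (W.qd.four 0 : Set G)).relIndex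
      (Subgroup.normalizer (W.qd.four 0 : Set G)) = 6) :
    IsConj (x ^ (4 * e : ℤ)) y := by
  rcases W.four_dich with ⟨h2, -⟩ | ⟨-, g, -, -, hg, -, -⟩
  · omega
  · exact isConj_iff.mpr ⟨g, hg⟩

theorem four6_of_isConj (h : IsConj (x ^ (4 * e : ℤ)) y) :
    (Subgroup.centralizer (W.qd.four 0 : Set G)).relIndex
      (Subgroup.normalizer (W.qd.four 0 : Set G)) = 6 := by
  rcases W.four_dich with ⟨-, hfix⟩ | ⟨h6, -⟩
  swap
  · exact h6
  exfalso
  have D := W.qd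
  obtain ⟨g, hg⟩ := isConj_iff.mp h.symm
  set M := Subgroup.centralizer ({x ^ (4 * e : ℤ)} : Set G)
  have hSM : (S : Subgroup G) ≤ M := fun s hs =>
    Subgroup.mem_centralizer_singleton_iff.mpr (D.c_comm hs).eq.symm
  have hR : IsPGroup 2 ((D.four 0).map (MulAut.conj g).toMonoidHom) :=
    (S.isPGroup'.to_le (D.four_le 0)).map _
  have hRM : (D.four 0).map (MulAut.conj g).toMonoidHom ≤ M := by
    rintro _ ⟨w, hw, rfl⟩
    refine Subgroup.mem_centralizer_singleton_iff.mpr ?_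
    show g * w * g⁻¹ * x ^ (4 * e : ℤ) = x ^ (4 * e : ℤ) * (g * w * g⁻¹)
    have hc : Commute w y := by
      rcases W.four0_cases hw with rfl | rfl | rfl | rfl
      · exact Commute.one_left y
      · exact D.c_comm D.hy
      · exact Commute.refl _
      · exact (D.c_comm D.hy).mul_left (Commute.refl y)
    rw [← hg]
    calc g * w * g⁻¹ * (g * y * g⁻¹) = g * (w * y) * g⁻¹ := by group
      _ = g * (y * w) * g⁻¹ := by rw [hc.eq]
      _ = _ := by group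
  obtain ⟨m, hm, hmS⟩ := exists_conj_into_sylow S hSM hRM hR
  have h0le : (D.four 0).map (MulAut.conj (m * g)).toMonoidHom ≤ S := by
    rintro _ ⟨w, hw, rfl⟩
    have := hmS _ ⟨w, hw, rfl⟩
    show m * g * w * (m * g)⁻¹ ∈ (S : Subgroup G)
    simpa [mul_assoc] using this
  have hcard : Nat.card ((D.four 0).map (MulAut.conj (m * g)).toMonoidHom) = 4 := by
    rw [Subgroup.card_map_of_injective (MulAut.conj (m * g)).injective, D.card_four]
  have hsq : ∀ v ∈ (D.four 0).map (MulAut.conj (m * g)).toMonoidHom, v * v = 1 := by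
    rintro _ ⟨w, hw, rfl⟩
    show m * g * w * (m * g)⁻¹ * (m * g * w * (m * g)⁻¹) = 1
    have hw2 : w * w = 1 := by
      rcases W.four0_cases hw with rfl | rfl | rfl | rfl
      · simp
      · exact D.c_sq
      · exact D.yy
      · have := D.b_mul_b (4 * e) (4 * e)
        rw [this, D.zpow_eq_one]; exact ⟨2 * e, by ring⟩
    calc m * g * w * (m * g)⁻¹ * (m * g * w * (m * g)⁻¹) = m * g * (w * w) * (m * g)⁻¹ := by group
      _ = 1 := by rw [hw2]; group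
  obtain ⟨k, hk⟩ := D.eq_four h0le hcard hsq
  obtain ⟨s, hs, hsk⟩ := D.four_map_conj k
  have hmap : (D.four 0).map (MulAut.conj (s * (m * g))).toMonoidHom = D.four 0 := by
    rw [map_conj_mul, hk, hsk]
  have hN : s * (m * g) ∈ Subgroup.normalizer (D.four 0 : Set G) :=
    Subgroup.mem_normalizer_fintype fun w hw => hmap ▸ ⟨w, hw, rfl⟩
  have hy' : s * (m * g) * y * (s * (m * g))⁻¹ = x ^ (4 * e : ℤ) := by
    calc s * (m * g) * y * (s * (m * g))⁻¹ = s * (m * (g * y * g⁻¹) * m⁻¹) * s⁻¹ := by group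
      _ = s * x ^ (4 * e : ℤ) * s⁻¹ := by
        rw [hg, Subgroup.mem_centralizer_singleton_iff.mp hm]; group
      _ = _ := by rw [← (D.c_comm hs).eq]; group
  have hc' := hfix _ hN
  exact W.y_ne_c (mul_left_cancel (mul_right_cancel (hy'.trans hc'.symm)))

theorem four_eq_two_iff :
    (Subgroup.centralizer (W.qd.four 0 : Set G)).relIndex
      (Subgroup.normalizer (W.qd.four 0 : Set G)) = 2 ↔ ¬ IsConj (x ^ (4 * e : ℤ)) y := by
  constructor
  · intro h hc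
    have := W.four6_of_isConj hc
    omega
  · intro hc
    rcases W.four_dich with ⟨h2, -⟩ | ⟨h6, -⟩
    · exact h2
    · exact absurd (W.isConj_of_four6 h6) hc

theorem xy_coset {w : G} (h : (x * y)⁻¹ * w ∈ Subgroup.zpowers (x ^ (4 * e : ℤ))) :
    IsConj w (x * y) := by
  obtain ⟨m, hm⟩ := W.mem_zc.mp h
  have hw : w = x ^ (2 * ((4 * (e : ℤ) - 1) * (2 * e * m)) + 1) * y := by
    rw [inv_mul_eq_iff_eq_mul] at hm
    rw [hm, show x * y = x ^ (1 : ℤ) * y by simp, W.qd.b_mul_a]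
    ring_nf
  obtain ⟨s, -, hs⟩ := W.qd.conj_rep_odd ((4 * (e : ℤ) - 1) * (2 * e * m))
  exact hw ▸ isConj_iff.mpr ⟨s, hs⟩

theorem isConj_of_quat6
    (h : (W.qd.quat 0 ⊔ Subgroup.centralizer (W.qd.quat 0 : Set G)).relIndex
      (Subgroup.normalizer (W.qd.quat 0 : Set G)) = 6) :
    IsConj (x ^ (2 * e : ℤ)) (x * y) := by
  rcases W.quat_dich with ⟨h2, -⟩ | ⟨-, g, -, -, hg, -, -⟩
  · omega
  · exact (isConj_iff.mpr ⟨g, rfl⟩).trans (W.xy_coset hg)

theorem quat6_of_isConj (h : IsConj (x ^ (2 * e : ℤ)) (x * y)) :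
    (W.qd.quat 0 ⊔ Subgroup.centralizer (W.qd.quat 0 : Set G)).relIndex
      (Subgroup.normalizer (W.qd.quat 0 : Set G)) = 6 := by
  rcases W.quat_dich with ⟨-, hfix⟩ | ⟨h6, -⟩
  swap
  · exact h6
  exfalso
  have D := W.qd
  obtain ⟨g, hg⟩ := isConj_iff.mp h.symm
  set I := Subgroup.zpowers (x ^ (2 * e : ℤ)) with hI
  set M := Subgroup.normalizer (I : Set G)
  have hpm : ∀ s : G, s * x ^ (2 * e : ℤ) * s⁻¹ = x ^ (2 * e : ℤ) ∨
      s * x ^ (2 * e : ℤ) * s⁻¹ = (x ^ (2 * e : ℤ))⁻¹ → s ∈ M := by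
    intro s hs
    refine Subgroup.mem_normalizer_fintype fun w hw => ?_
    obtain ⟨t, rfl⟩ := Subgroup.mem_zpowers_iff.mp hw
    rw [SetLike.mem_coe, ← conj_zpow]
    rcases hs with hs | hs <;> rw [hs]
    · exact zpow_mem (Subgroup.mem_zpowers _) t
    · exact zpow_mem (inv_mem (Subgroup.mem_zpowers _)) t
  have hSM : (S : Subgroup G) ≤ M := by
    intro s hs
    apply hpm
    obtain ⟨l, rfl | rfl⟩ := D.cases hs
    · exact Or.inl (by group)
    · right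
      rw [D.b_conj_a, ← zpow_neg]
      exact D.zpow_eq_of e (by ring)
  have hR : IsPGroup 2 ((D.quat 0).map (MulAut.conj g).toMonoidHom) :=
    (S.isPGroup'.to_le (D.quat_le 0)).map _
  have hRM : (D.quat 0).map (MulAut.conj g).toMonoidHom ≤ M := by
    rintro _ ⟨w, hw, rfl⟩
    apply hpm
    show g * w * g⁻¹ * x ^ (2 * e : ℤ) * (g * w * g⁻¹)⁻¹ = x ^ (2 * e : ℤ) ∨
      g * w * g⁻¹ * x ^ (2 * e : ℤ) * (g * w * g⁻¹)⁻¹ = (x ^ (2 * e : ℤ))⁻¹
    have key : g * w * g⁻¹ * x ^ (2 * e : ℤ) * (g * w * g⁻¹)⁻¹ = g * (w * (x * y) * w⁻¹) * g⁻¹ := by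
      rw [← hg]; group
    have hjinv : (x * y)⁻¹ = x ^ (4 * e + 1 : ℤ) * y := by
      rw [show x * y = x ^ (1 : ℤ) * y by simp, D.b_inv, D.b_congr]
      exact ⟨-1, by ring⟩
    rcases Int.even_or_odd' ((D.mem_quat.mp hw).choose) with ⟨t, ht | ht⟩ <;>
      rcases (D.mem_quat.mp hw).choose_spec with hw' | hw' <;> rw [ht] at hw' <;>
      rw [key, hw', show x * y = x ^ (1 : ℤ) * y by simp]
    · left
      rw [D.a_conj_b, show x ^ (1 + 2 * e * (2 * t) * (2 - 4 * e) : ℤ) * y = x * y by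
        rw [show x * y = x ^ (1 : ℤ) * y by simp, D.b_congr]; exact ⟨t * (1 - 2 * e), by ring⟩, hg]
    · left
      rw [D.b_conj_b, show x ^ ((4 * e - 1) * 1 + (2 * 0 + 1 + 2 * e * (2 * t)) * (2 - 4 * e) : ℤ) * y
          = x * y by
        rw [show x * y = x ^ (1 : ℤ) * y by simp, D.b_congr]; exact ⟨t * (1 - 2 * e), by ring⟩, hg]
    · right
      rw [D.a_conj_b, show x ^ (1 + 2 * e * (2 * t + 1) * (2 - 4 * e) : ℤ) * y = (x * y)⁻¹ by
        rw [hjinv, D.b_congr]; exact ⟨t * (1 - 2 * e) - e, by ring⟩]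
      rw [← hg]; group
    · right
      rw [D.b_conj_b, show x ^ ((4 * e - 1) * 1 + (2 * 0 + 1 + 2 * e * (2 * t + 1)) * (2 - 4 * e) : ℤ) * y
          = (x * y)⁻¹ by
        rw [hjinv, D.b_congr]; exact ⟨t * (1 - 2 * e) - e, by ring⟩]
      rw [← hg]; group
  obtain ⟨m, hm, hmS⟩ := exists_conj_into_sylow S hSM hRM hR
  have h0le : (D.quat 0).map (MulAut.conj (m * g)).toMonoidHom ≤ S := by
    rintro _ ⟨w, hw, rfl⟩
    have := hmS _ ⟨w, hw, rfl⟩
    show m * g * w * (m * g)⁻¹ ∈ (S : Subgroup G)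
    simpa [mul_assoc] using this
  obtain ⟨k, hk⟩ := D.eq_quat h0le
    ((Subgroup.equivMapOfInjective (D.quat 0) _ (MulAut.conj (m * g)).injective).symm.trans
      (D.quat_equiv 0).some)
  obtain ⟨s, hs, hsk⟩ := D.quat_map_conj k
  have hmap : (D.quat 0).map (MulAut.conj (s * (m * g))).toMonoidHom = D.quat 0 := by
    rw [map_conj_mul, hk, hsk]
  set n := s * (m * g) with hn
  have hN : n ∈ Subgroup.normalizer (D.quat 0 : Set G) :=
    Subgroup.mem_normalizer_fintype fun w hw => hmap ▸ ⟨w, hw, rfl⟩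
  have hj : n * (x * y) * n⁻¹ ∈ I := by
    have e1 : n * (x * y) * n⁻¹ = (s * m) * x ^ (2 * e : ℤ) * (s * m)⁻¹ := by
      rw [hn, ← hg]; group
    rw [e1]
    exact (Subgroup.mem_normalizer_iff.mp (mul_mem (hSM hs) hm) _).mp (Subgroup.mem_zpowers _)
  -- but `n` preserves the coset of `i`
  obtain ⟨t, ht⟩ := Subgroup.mem_zpowers_iff.mp hj
  have hback := hfix _ (inv_mem hN)
  rw [inv_inv] at hback
  obtain ⟨p, hp⟩ := W.mem_zc.mp hback
  rw [inv_mul_eq_iff_eq_mul] at hp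
  have hxy : x * y = (n⁻¹ * x ^ (2 * e : ℤ) * n) ^ t := by
    have : (n⁻¹ * x ^ (2 * e : ℤ) * (n⁻¹)⁻¹) ^ t = n⁻¹ * (x ^ (2 * e : ℤ)) ^ t * (n⁻¹)⁻¹ := conj_zpow
    rw [inv_inv] at this
    rw [this, ht]; group
  rw [hp, ← zpow_add, ← zpow_mul] at hxy
  exact D.a_ne_b _ 1 (hxy.symm.trans (by simp))

theorem quat_eq_two_iff :
    (W.qd.quat 0 ⊔ Subgroup.centralizer (W.qd.quat 0 : Set G)).relIndex
      (Subgroup.normalizer (W.qd.quat 0 : Set G)) = 2 ↔ ¬ IsConj (x ^ (2 * e : ℤ)) (x * y) := by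
  constructor
  · intro h hc
    have := W.quat6_of_isConj hc
    omega
  · intro hc
    rcases W.quat_dich with ⟨h2, -⟩ | ⟨h6, -⟩
    · exact h2
    · exact absurd (W.isConj_of_quat6 h6) hc

theorem count_invol_one (h : IsConj (x ^ (4 * e : ℤ)) y) :
    Nat.card {C : ConjClasses G // ∃ t : G, orderOf t = 2 ∧ ConjClasses.mk t = C} = 1 :=
  card_classes_one (fun t => orderOf t = 2) _ W.qd.orderOf_c fun _ ht =>
    (W.invol_conj ht).elim id fun h' => h'.trans h.symm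

theorem count_invol_two (h : ¬ IsConj (x ^ (4 * e : ℤ)) y) :
    Nat.card {C : ConjClasses G // ∃ t : G, orderOf t = 2 ∧ ConjClasses.mk t = C} = 2 :=
  card_classes_two (fun t => orderOf t = 2) _ _ W.qd.orderOf_c W.qd.orderOf_y h
    fun _ ht => W.invol_conj ht

theorem count_four_one (h : IsConj (x ^ (2 * e : ℤ)) (x * y)) :
    Nat.card {C : ConjClasses G // ∃ t : G, orderOf t = 4 ∧ ConjClasses.mk t = C} = 1 :=
  card_classes_one (fun t => orderOf t = 4) _ W.qd.orderOf_i fun _ ht =>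
    (W.four_conj ht).elim id fun h' => h'.trans h.symm

theorem count_four_two (h : ¬ IsConj (x ^ (2 * e : ℤ)) (x * y)) :
    Nat.card {C : ConjClasses G // ∃ t : G, orderOf t = 4 ∧ ConjClasses.mk t = C} = 2 :=
  card_classes_two (fun t => orderOf t = 4) _ _ W.qd.orderOf_i W.orderOf_xy h
    fun _ ht => W.four_conj ht

/-- Sorting of the elements of `S` used in the focal subgroup computations. -/
theorem x_odd_iff {v : G} (hv : v ∈ (S : Subgroup G)) :
    v ^ (4 * e) = 1 ↔ v ∈ W.qd.dih ∨ v ∈ W.qd.gquat := by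
  have D := W.qd
  have hb : ∀ k : ℤ, (x ^ k * y) ^ (4 * e) = 1 := by
    intro k
    rw [show 4 * e = 2 * (2 * e) by ring, pow_mul, sq, D.b_mul_b, ← zpow_natCast, ← zpow_mul,
      D.zpow_eq_one]
    exact ⟨k * e, by push_cast; ring⟩
  rcases D.cases' hv with ⟨k, rfl⟩ | ⟨k, rfl⟩ | ⟨k, rfl⟩ | ⟨k, rfl⟩
  · refine iff_of_true ?_ (Or.inl (D.mem_dih.mpr ⟨k, Or.inl rfl⟩))
    rw [← zpow_natCast, ← zpow_mul, D.zpow_eq_one]; exact ⟨k, by push_cast; ring⟩
  · refine iff_of_false ?_ ?_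
    · rw [← zpow_natCast, ← zpow_mul, D.zpow_eq_one]
      rintro ⟨p, hp⟩
      have h2 : (4 * e : ℤ) * (2 * k + 1) = (4 * e) * (2 * p) := by push_cast at hp; linarith
      have h3 := mul_left_cancel₀ (mul_ne_zero four_ne_zero D.e_ne) h2
      omega
    · rintro (h | h)
      · exact D.x_notMem_dih (Subgroup.zpowers_le.mpr h (D.x_mem_zpowers_odd k))
      · exact D.x_notMem_gquat (Subgroup.zpowers_le.mpr h (D.x_mem_zpowers_odd k))
  · exact iff_of_true (hb _) (Or.inl (D.mem_dih.mpr ⟨k, Or.inr rfl⟩))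
  · exact iff_of_true (hb _) (Or.inr (D.mem_gquat.mpr ⟨k, Or.inr rfl⟩))

theorem pow_conj {s t g : G} (h : g * s * g⁻¹ = t) (n : ℕ) : g * s ^ n * g⁻¹ = t ^ n := by
  rw [← conj_pow, h]

theorem mem_gquat_imp (hc : ¬ IsConj (x ^ (4 * e : ℤ)) y) {s t g : G} (hs : s ∈ (S : Subgroup G))
    (ht : t ∈ (S : Subgroup G)) (h : g * s * g⁻¹ = t) (hsq : s ∈ W.qd.gquat) :
    t ∈ W.qd.gquat := by
  have D := W.qd
  by_contra htq
  have h1 : t ^ (4 * e) = 1 := by
    rw [← W.pow_conj h, (W.x_odd_iff hs).mpr (Or.inr hsq)]; group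
  obtain ⟨k, hk | hk⟩ := D.mem_dih.mp (((W.x_odd_iff ht).mp h1).resolve_right htq)
  · exact htq (D.mem_gquat.mpr ⟨k, Or.inl hk⟩)
  subst hk
  have hs2 : orderOf s = 2 := by
    have := (MulAut.conj g).orderOf_eq s
    rw [MulAut.conj_apply, h, D.orderOf_b_even] at this
    exact this.symm
  rcases D.invol_class hs hs2 with rfl | ⟨l, rfl⟩
  · obtain ⟨w, -, hw⟩ := D.conj_rep_even k
    exact hc ((isConj_iff.mpr ⟨g, h⟩).trans (isConj_iff.mpr ⟨w, hw⟩))
  · obtain ⟨p, hp | hp⟩ := D.mem_gquat.mp hsq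
    · exact D.a_ne_b _ _ hp.symm
    · obtain ⟨r, hr⟩ := D.b_congr.mp hp
      simp only [mul_assoc] at hr
      omega

theorem mem_dih_imp (hc : ¬ IsConj (x ^ (2 * e : ℤ)) (x * y)) {s t g : G}
    (hs : s ∈ (S : Subgroup G)) (ht : t ∈ (S : Subgroup G)) (h : g * s * g⁻¹ = t)
    (hsq : s ∈ W.qd.dih) : t ∈ W.qd.dih := by
  have D := W.qd
  by_contra htq
  have h1 : t ^ (4 * e) = 1 := by
    rw [← W.pow_conj h, (W.x_odd_iff hs).mpr (Or.inl hsq)]; group
  obtain ⟨k, hk | hk⟩ := D.mem_gquat.mp (((W.x_odd_iff ht).mp h1).resolve_left htq)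
  · exact htq (D.mem_dih.mpr ⟨k, Or.inl hk⟩)
  subst hk
  have hs4 : orderOf s = 4 := by
    have := (MulAut.conj g).orderOf_eq s
    rw [MulAut.conj_apply, h, D.orderOf_b_odd] at this
    exact this.symm
  obtain ⟨w, -, hw⟩ := D.conj_rep_odd k
  have hst : IsConj s (x * y) := (isConj_iff.mpr ⟨g, h⟩).trans (isConj_iff.mpr ⟨w, hw⟩)
  rcases D.four_class hs hs4 with rfl | rfl | ⟨l, rfl⟩
  · exact hc hst
  · exact hc (W.isConj_i_inv.symm.trans hst)
  · obtain ⟨p, hp | hp⟩ := D.mem_dih.mp hsq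
    · exact D.a_ne_b _ _ hp.symm
    · obtain ⟨r, hr⟩ := D.b_congr.mp hp
      simp only [mul_assoc] at hr
      omega

theorem index_two_aux {M : Subgroup G} (hle : M ≤ S) (hM : Nat.card M = 8 * e) :
    (M.subgroupOf (S : Subgroup G)).index = 2 := by
  have h1 := (M.subgroupOf (S : Subgroup G)).card_mul_index
  rw [Nat.card_congr (Subgroup.subgroupOfEquivOfLe hle).toEquiv, hM, W.qd.card] at h1
  have := W.qd.one_le
  nlinarith

theorem gquat_index : (W.qd.gquat.subgroupOf (S : Subgroup G)).index = 2 := by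
  haveI : NeZero (2 * e) := ⟨by have := W.qd.one_le; omega⟩
  refine W.index_two_aux W.qd.gquat_le ?_
  rw [Nat.card_congr W.qd.gquat_equiv.some.toEquiv, Nat.card_eq_fintype_card, QuaternionGroup.card]
  ring

theorem dih_index : (W.qd.dih.subgroupOf (S : Subgroup G)).index = 2 := by
  refine W.index_two_aux W.qd.dih_le ?_
  rw [Nat.card_congr W.qd.dih_equiv.some.toEquiv, DihedralGroup.nat_card]
  ring

theorem signHom_surj {M : Subgroup G} (h : (M.subgroupOf (S : Subgroup G)).index = 2) :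
    Function.Surjective (signHom _ h) := by
  intro u
  rcases Int.units_eq_one_or u with rfl | rfl
  · exact ⟨1, map_one _⟩
  · obtain ⟨v, hv⟩ : ∃ v, v ∉ M.subgroupOf (S : Subgroup G) := by
      by_contra hno
      push Not at hno
      rw [Subgroup.eq_top_iff' _ |>.mpr hno, Subgroup.index_top] at h
      omega
    refine ⟨v, ?_⟩
    rcases Int.units_eq_one_or (signHom _ h v) with h' | h'
    · exact absurd ((signHom_eq_one _ h v).mp h') hv
    · exact h'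

theorem card_units_int : Nat.card ℤˣ = 2 := by
  rw [Nat.card_eq_fintype_card]; rfl

theorem exists_ker_gquat (hc : ¬ IsConj (x ^ (4 * e : ℤ)) y) :
    ∃ K : Subgroup G, K.Normal ∧ K.index = 2 ∧ (S : Subgroup G) ⊓ K = W.qd.gquat := by
  obtain ⟨K, hK, hidx, hmem⟩ := exists_ker S (signHom _ W.gquat_index) (W.signHom_surj W.gquat_index)
    (fun s t g h => signHom_congr _ _ ⟨fun hq => W.mem_gquat_imp hc s.2 t.2 h hq,
      fun hq => W.mem_gquat_imp hc (g := g⁻¹) t.2 s.2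
        (show g⁻¹ * (t : G) * g⁻¹⁻¹ = (s : G) by rw [← h]; group) hq⟩)
  refine ⟨K, hK, by rw [hidx, W.card_units_int], ?_⟩
  ext v
  constructor
  · rintro ⟨h1, h2⟩
    exact Subgroup.mem_subgroupOf.mp ((signHom_eq_one _ _ _).mp ((hmem ⟨v, h1⟩).mp h2))
  · intro hv
    exact ⟨W.qd.gquat_le hv,
      (hmem ⟨v, W.qd.gquat_le hv⟩).mpr ((signHom_eq_one _ _ _).mpr hv)⟩

theorem exists_ker_dih (hc : ¬ IsConj (x ^ (2 * e : ℤ)) (x * y)) :
    ∃ K : Subgroup G, K.Normal ∧ K.index = 2 ∧ (S : Subgroup G) ⊓ K = W.qd.dih := by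
  obtain ⟨K, hK, hidx, hmem⟩ := exists_ker S (signHom _ W.dih_index) (W.signHom_surj W.dih_index)
    (fun s t g h => signHom_congr _ _ ⟨fun hq => W.mem_dih_imp hc s.2 t.2 h hq,
      fun hq => W.mem_dih_imp hc (g := g⁻¹) t.2 s.2
        (show g⁻¹ * (t : G) * g⁻¹⁻¹ = (s : G) by rw [← h]; group) hq⟩)
  refine ⟨K, hK, by rw [hidx, W.card_units_int], ?_⟩
  ext v
  constructor
  · rintro ⟨h1, h2⟩
    exact Subgroup.mem_subgroupOf.mp ((signHom_eq_one _ _ _).mp ((hmem ⟨v, h1⟩).mp h2))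
  · intro hv
    exact ⟨W.qd.dih_le hv, (hmem ⟨v, W.qd.dih_le hv⟩).mpr ((signHom_eq_one _ _ _).mpr hv)⟩

theorem normalPComplement (hc : ¬ IsConj (x ^ (4 * e : ℤ)) y)
    (hc' : ¬ IsConj (x ^ (2 * e : ℤ)) (x * y)) : Cfsg.HasNormalPComplement 2 G := by
  obtain ⟨K, hK, hKi, hKS⟩ := W.exists_ker_gquat hc
  obtain ⟨L, hL, hLi, hLS⟩ := W.exists_ker_dih hc'
  have hdvd : (K ⊓ L).index ∣ 2 ^ 2 := by
    rw [← Subgroup.relIndex_mul_index (inf_le_left : K ⊓ L ≤ K), Subgroup.inf_relIndex_left, hKi,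
      sq]
    exact Nat.mul_dvd_mul_right (hLi ▸ Subgroup.relIndex_dvd_index_of_normal L K) 2
  obtain ⟨a, -, ha⟩ := (Nat.dvd_prime_pow Nat.prime_two).mp hdvd
  refine hasNormalPComplement_of_cyclic S (K ⊓ L) ha ?_
  refine Subgroup.isCyclic_of_le (H' := Subgroup.zpowers x) ?_
  rintro v ⟨h1, h2, h3⟩
  have hq : v ∈ W.qd.gquat := hKS ▸ Subgroup.mem_inf.mpr ⟨h1, h2⟩
  have hd : v ∈ W.qd.dih := hLS ▸ Subgroup.mem_inf.mpr ⟨h1, h3⟩
  obtain ⟨m, rfl | rfl⟩ := W.qd.mem_gquat.mp hq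
  · exact zpow_mem (Subgroup.mem_zpowers x) _
  · obtain ⟨p, hp | hp⟩ := W.qd.mem_dih.mp hd
    · exact absurd hp.symm (W.qd.a_ne_b _ _)
    · obtain ⟨r, hr⟩ := W.qd.b_congr.mp hp
      simp only [mul_assoc] at hr
      omega

/-- A subgroup containing all commutators with odd-order elements contains `gquat`. -/
theorem gquat_le_core
    (h6 : (W.qd.quat 0 ⊔ Subgroup.centralizer (W.qd.quat 0 : Set G)).relIndex
      (Subgroup.normalizer (W.qd.quat 0 : Set G)) = 6)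
    (H : Subgroup G) (hH : ∀ g : G, Odd (orderOf g) → ∀ v ∈ W.qd.gquat, g * v * g⁻¹ * v⁻¹ ∈ H) :
    W.qd.gquat ≤ H := by
  have D := W.qd
  rcases W.quat_dich with ⟨h2, -⟩ | ⟨-, g, -, hodd, hg1, hg2, hg3⟩
  · omega
  -- elements of `H` from `g`, and from its conjugate by `x`
  have hgen : ∀ s ∈ (S : Subgroup G), ∀ v ∈ D.quat 0,
      s * (g * v * g⁻¹ * v⁻¹) * s⁻¹ ∈ H := by
    intro s hs v hv
    have hsv : s * v * s⁻¹ ∈ D.gquat := by
      have hvq : v ∈ D.gquat := by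
        obtain ⟨m, rfl | rfl⟩ := D.mem_quat.mp hv
        · exact D.mem_gquat.mpr ⟨e * m, Or.inl (by ring_nf)⟩
        · exact D.mem_gquat.mpr ⟨e * m, Or.inr (by ring_nf)⟩
      exact Subgroup.mem_subgroupOf.mp
        ((Subgroup.normal_of_index_eq_two W.gquat_index).conj_mem ⟨v, D.gquat_le hvq⟩ hvq ⟨s, hs⟩)
    have hodd' : Odd (orderOf (s * g * s⁻¹)) := by
      rw [← MulAut.conj_apply, MulEquiv.orderOf_eq]; exact hodd
    have := hH _ hodd' _ hsv
    rwa [show s * g * s⁻¹ * (s * v * s⁻¹) * (s * g * s⁻¹)⁻¹ * (s * v * s⁻¹)⁻¹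
      = s * (g * v * g⁻¹ * v⁻¹) * s⁻¹ by group] at this
  obtain ⟨a, ha⟩ : ∃ a : ℤ, g * x ^ (2 * e : ℤ) * g⁻¹ = x * y * x ^ (4 * e * a) := by
    obtain ⟨a, ha⟩ := W.mem_zc.mp hg1
    exact ⟨a, inv_mul_eq_iff_eq_mul.mp ha⟩
  obtain ⟨b, hb⟩ : ∃ b : ℤ,
      g * (x ^ (2 * e + 1 : ℤ) * y) * g⁻¹ = x ^ (2 * e : ℤ) * x ^ (4 * e * b) := by
    obtain ⟨b, hb⟩ := W.mem_zc.mp hg3
    exact ⟨b, inv_mul_eq_iff_eq_mul.mp hb⟩
  -- `[g, i]` lies in the coset of `ij`, `[g, k]` in the coset of `j`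
  have h1 : ∀ s ∈ (S : Subgroup G), s * (x ^ (1 + (4 * e - 1) * (4 * e * a - 2 * e)) * y) * s⁻¹ ∈ H := by
    intro s hs
    have := hgen s hs _ W.i_mem_quat
    rwa [ha, mul_assoc (x * y), ← zpow_neg, ← zpow_add, show x * y = x ^ (1 : ℤ) * y by simp,
      D.b_mul_a, ← sub_eq_add_neg] at this
  have h2 : ∀ s ∈ (S : Subgroup G), s * (x ^ (2 * e + 4 * e * b + -(4 * e - 1) * (2 * e + 1)) * y)
      * s⁻¹ ∈ H := by
    intro s hs
    have := hgen s hs _ W.k_mem_quat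
    rwa [hb, ← zpow_add, D.b_inv, ← mul_assoc (x ^ (2 * e + 4 * e * b : ℤ)), ← zpow_add] at this
  have hsq : ∀ v ∈ Subgroup.zpowers (x ^ (2 : ℤ)), v ∈ H := by
    suffices hkey : x ^ (2 - 4 * (e : ℤ)) ∈ H by
      intro v hv
      refine Subgroup.zpowers_le.mpr ?_ hv
      have := zpow_mem hkey (1 + 2 * (e : ℤ))
      rw [← zpow_mul] at this
      rwa [D.zpow_eq_of (j := (2 - 4 * (e : ℤ)) * (1 + 2 * e)) (e : ℤ) (by ring)]
    have e1 := mul_mem (h1 x D.hx) (inv_mem (h1 1 (one_mem _)))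
    rw [show x * (x ^ (1 + (4 * e - 1) * (4 * e * a - 2 * e) : ℤ) * y) * x⁻¹
        = x ^ (1 : ℤ) * (x ^ (1 + (4 * e - 1) * (4 * e * a - 2 * e) : ℤ) * y) * (x ^ (1 : ℤ))⁻¹ by
        simp, D.a_conj_b, one_mul (2 - 4 * (e : ℤ))] at e1
    simp only [one_mul, inv_one, mul_one] at e1
    rw [D.b_inv, D.b_mul_b] at e1
    rwa [D.zpow_eq_of (j := 1 + (4 * e - 1) * (4 * e * a - 2 * e) + (2 - 4 * e) +
      (4 * e - 1) * (-(4 * e - 1) * (1 + (4 * e - 1) * (4 * e * a - 2 * e))))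
      ((2 * e - 1) * (1 + (4 * e - 1) * (4 * e * a - 2 * e))) (by ring)]
  have hxy : x * y ∈ H := by
    have e2 := h2 1 (one_mem _)
    simp only [one_mul, inv_one, mul_one] at e2
    have hdiff : x ^ ((2 : ℤ) * (4 * e * e - 2 * e * b)) ∈ H :=
      hsq _ (Subgroup.mem_zpowers_iff.mpr ⟨_, (zpow_mul x 2 _).symm⟩)
    have h3 := mul_mem hdiff e2
    rw [← mul_assoc, ← zpow_add] at h3
    rwa [show x * y = x ^ (1 : ℤ) * y by simp,
      show x ^ (1 : ℤ) * y = x ^ ((2 : ℤ) * (4 * e * e - 2 * e * b) +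
        (2 * e + 4 * e * b + -(4 * e - 1) * (2 * e + 1))) * y from
        D.b_congr.mpr ⟨0, by ring⟩]
  intro v hv
  obtain ⟨m, rfl | rfl⟩ := D.mem_gquat.mp hv
  · exact hsq _ (Subgroup.mem_zpowers_iff.mpr ⟨m, by rw [← zpow_mul]⟩)
  · have := mul_mem (hsq (x ^ (2 * m : ℤ)) (Subgroup.mem_zpowers_iff.mpr ⟨m, by rw [← zpow_mul]⟩)) hxy
    rwa [← mul_assoc, ← zpow_add_one] at this

theorem dih_le_core
    (h6 : (Subgroup.centralizer (W.qd.four 0 : Set G)).relIndex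
      (Subgroup.normalizer (W.qd.four 0 : Set G)) = 6)
    (H : Subgroup G) (hH : ∀ g : G, Odd (orderOf g) → ∀ v ∈ W.qd.dih, g * v * g⁻¹ * v⁻¹ ∈ H) :
    W.qd.dih ≤ H := by
  have D := W.qd
  rcases W.four_dich with ⟨h2, -⟩ | ⟨-, g, -, hodd, hg1, hg2, hg3⟩
  · omega
  have hcd : x ^ (4 * e : ℤ) ∈ D.dih := D.mem_dih.mpr ⟨2 * e, Or.inl (by ring_nf)⟩
  have hc : x ^ (4 * e : ℤ) ∈ H := by
    have := hH g hodd y D.y_mem_dih
    rwa [hg2, mul_inv_cancel_right] at this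
  have hy : y ∈ H := by
    have := hH g hodd _ hcd
    rw [hg1] at this
    have h2 := mul_mem this hc
    rwa [inv_mul_cancel_right] at h2
  have hxyx : x * y * x⁻¹ ∈ H := by
    have hodd' : Odd (orderOf (x * g * x⁻¹)) := by
      rw [← MulAut.conj_apply, MulEquiv.orderOf_eq]; exact hodd
    have := hH _ hodd' _ hcd
    have hxc : x * x ^ (4 * e : ℤ) * x⁻¹ = x ^ (4 * e : ℤ) := by group
    have e1 : x * g * x⁻¹ * x ^ (4 * e : ℤ) * (x * g * x⁻¹)⁻¹ * (x ^ (4 * e : ℤ))⁻¹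
        = x * y * x⁻¹ * (x ^ (4 * e : ℤ))⁻¹ := by
      rw [← hg1]
      conv_lhs => arg 1; rw [← hxc]
      group
    rw [e1] at this
    have h2 := mul_mem this hc
    rwa [inv_mul_cancel_right] at h2
  have hsq : x ^ (2 - 4 * (e : ℤ)) ∈ H := by
    have h2 := mul_mem hxyx hy
    rwa [show x * y * x⁻¹ = x ^ (1 : ℤ) * (x ^ (0 : ℤ) * y) * (x ^ (1 : ℤ))⁻¹ by simp,
      D.a_conj_b, zero_add, one_mul, mul_assoc, D.yy, mul_one] at h2
  intro v hv
  have key : ∀ m : ℤ, x ^ (2 * m) ∈ H := by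
    intro m
    have := zpow_mem hsq ((1 + 2 * (e : ℤ)) * m)
    rw [← zpow_mul] at this
    rwa [D.zpow_eq_of (j := (2 - 4 * (e : ℤ)) * ((1 + 2 * e) * m)) ((e : ℤ) * m) (by ring)]
  obtain ⟨m, rfl | rfl⟩ := D.mem_dih.mp hv
  · exact key m
  · exact mul_mem (key m) hy

theorem no_index_two_66
    (h1 : (Subgroup.centralizer (W.qd.four 0 : Set G)).relIndex
      (Subgroup.normalizer (W.qd.four 0 : Set G)) = 6)
    (h2 : (W.qd.quat 0 ⊔ Subgroup.centralizer (W.qd.quat 0 : Set G)).relIndex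
      (Subgroup.normalizer (W.qd.quat 0 : Set G)) = 6) :
    ∀ H : Subgroup G, H.index ≠ 2 := by
  refine no_index_two S fun H hH v hv => ?_
  have hd := W.dih_le_core h1 H fun g hg v _ => comm_mem_of_index_two hH hg v
  have hq := W.gquat_le_core h2 H fun g hg v _ => comm_mem_of_index_two hH hg v
  have hy : y ∈ H := hd W.qd.y_mem_dih
  have hxy : x * y ∈ H := hq W.qd.xy_mem_gquat
  have hx : x ∈ H := by
    have := mul_mem hxy hy
    rwa [mul_assoc, W.qd.yy, mul_one] at this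
  obtain ⟨i, rfl | rfl⟩ := W.qd.cases hv
  · exact zpow_mem hx i
  · exact mul_mem (zpow_mem hx i) hy

/-- In a normal subgroup of index two, an index-two subgroup absorbs odd commutators. -/
theorem core_aux {K : Subgroup G} [K.Normal] (hK : K.index = 2) {M : Subgroup G} (hM : M ≤ K)
    (H : Subgroup K) (hH : H.index = 2) :
    ∀ g : G, Odd (orderOf g) → ∀ v ∈ M, g * v * g⁻¹ * v⁻¹ ∈ H.map K.subtype := by
  intro g hg v hv
  exact ⟨_, comm_mem_of_index_two hH (g := ⟨g, odd_mem_of_index_two hK hg⟩)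
    (by rw [← Subgroup.orderOf_coe]; exact hg) ⟨v, hM hv⟩, rfl⟩

theorem no_index_two_ker {K : Subgroup G} [K.Normal] {M : Subgroup G}
    (hSK : (S : Subgroup G) ⊓ K = M)
    (hcore : ∀ H : Subgroup K, H.index = 2 → M ≤ H.map K.subtype) :
    ∀ H : Subgroup K, H.index ≠ 2 := by
  refine no_index_two_normal S K fun H hH v hv => ?_
  obtain ⟨u, hu, huv⟩ := hcore H hH (hSK ▸ Subgroup.mem_inf.mpr ⟨hv, v.2⟩)
  exact Subtype.ext (huv : (u : G) = (v : G)) ▸ hu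

theorem center_weakly_closed (hc : ¬ IsConj (x ^ (4 * e : ℤ)) y) :
    Cfsg.IsWeaklyClosed ((Subgroup.center (S : Subgroup G)).map (S : Subgroup G).subtype)
      (S : Subgroup G) := by
  have D := W.qd
  have hcen : (Subgroup.center (S : Subgroup G)).map (S : Subgroup G).subtype =
      Subgroup.zpowers (x ^ (4 * e : ℤ)) := by
    ext v
    constructor
    · rintro ⟨u, hu, rfl⟩
      have h := Subgroup.mem_center_iff.mp hu
      have hy' : Commute (u : G) (x ^ (2 * (0 : ℤ)) * y) := by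
        simpa [Commute, SemiconjBy] using (congrArg Subtype.val (h ⟨y, D.hy⟩)).symm
      have hx' : Commute (u : G) (x ^ (1 : ℤ)) := by
        simpa [Commute, SemiconjBy] using (congrArg Subtype.val (h ⟨x, D.hx⟩)).symm
      obtain ⟨j, hj⟩ := D.commute_x_pow u.2 (fun ⟨k, hk⟩ => by rw [mul_assoc] at hk; omega) hx'
      obtain ⟨m, hm | hm⟩ := D.mem_four.mp (D.mem_four_of_commute u.2 hy')
      · exact W.mem_zc.mpr ⟨m, hm⟩
      · exact absurd (hj.symm.trans hm) (D.a_ne_b _ _)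
    · intro hv
      obtain ⟨m, rfl⟩ := Subgroup.mem_zpowers_iff.mp hv
      refine zpow_mem ?_ m
      exact ⟨⟨_, D.a_mem _⟩, Subgroup.mem_center_iff.mpr fun s =>
        Subtype.ext (D.c_comm s.2).eq.symm, rfl⟩
  rw [hcen]
  refine ⟨Subgroup.zpowers_le.mpr (D.a_mem _), fun g hg => ?_⟩
  rw [MonoidHom.map_zpowers]
  have hmem : g * x ^ (4 * e : ℤ) * g⁻¹ ∈ (S : Subgroup G) :=
    hg ⟨_, Subgroup.mem_zpowers _, rfl⟩
  have h2 : orderOf (g * x ^ (4 * e : ℤ) * g⁻¹) = 2 :=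
    ((MulAut.conj g).orderOf_eq _).trans D.orderOf_c
  rcases D.invol_class hmem h2 with h | ⟨k, h⟩
  · show Subgroup.zpowers (g * x ^ (4 * e : ℤ) * g⁻¹) = _
    rw [h]
  · obtain ⟨s, -, hs⟩ := D.conj_rep_even k
    exact absurd ((isConj_iff.mpr ⟨g, h⟩).trans (isConj_iff.mpr ⟨s, hs⟩)) hc

end Cfsg.Agent.TwoFusion36.QDSylow

namespace Cfsg.Agent.TwoFusion36

theorem exists_qdSylow {G : Type*} [Group G] [Finite G] (S : Sylow 2 G)
    (hS : Cfsg.IsQuasiDihedral (S : Subgroup G)) : ∃ e x y, QDSylow S e x y := by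
  obtain ⟨e, x, y, D⟩ := exists_isQD hS
  exact ⟨e, x, y, ⟨D⟩⟩

/-- The standing hypotheses of the statements, moved to the standard four and quaternion group. -/
theorem QDSylow.transfer {G : Type*} [Group G] [Finite G] {S : Sylow 2 G} {e : ℕ} {x y : G}
    (W : QDSylow S e x y) (T : Subgroup G) (hT : IsKleinFour T) (hTS : T ≤ S) (Q : Subgroup G)
    (hQS : Q ≤ S) (eQ : Q ≃* QuaternionGroup 2) :
    (Subgroup.centralizer (T : Set G)).relIndex (Subgroup.normalizer (T : Set G)) =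
      (Subgroup.centralizer (W.qd.four 0 : Set G)).relIndex
        (Subgroup.normalizer (W.qd.four 0 : Set G)) ∧
    (Q ⊔ Subgroup.centralizer (Q : Set G)).relIndex (Subgroup.normalizer (Q : Set G)) =
      (W.qd.quat 0 ⊔ Subgroup.centralizer (W.qd.quat 0 : Set G)).relIndex
        (Subgroup.normalizer (W.qd.quat 0 : Set G)) := by
  obtain ⟨k, rfl⟩ := W.qd.eq_four hTS hT.card_four fun v hv => by
    have h := Monoid.pow_exponent_eq_one (⟨v, hv⟩ : T)
    rw [hT.exponent_two] at h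
    simpa [sq] using congrArg Subtype.val h
  obtain ⟨l, rfl⟩ := W.qd.eq_quat hQS eQ
  obtain ⟨s, -, hs⟩ := W.qd.four_map_conj k
  obtain ⟨t, -, ht⟩ := W.qd.quat_map_conj l
  rw [← hs, relIndex_centralizer_map_conj, ← ht, relIndex_sup_centralizer_map_conj]
  exact ⟨rfl, rfl⟩

end Cfsg.Agent.TwoFusion36
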