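import Cfsg.Agent.TwoFusion36.WrFusion3
import Cfsg.Agent.TwoFusion36.QDFusion2

/-!
# Centralisers of involutions, quasi-dihedral and wreathed case (helper36)
-/

set_option linter.unusedSectionVars false

namespace Cfsg.Agent.TwoFusion36

/-- What is wanted of the centraliser of an involution. -/
def CentralizerShape (C : Type*) [Group C] (N : ℕ) : Prop :=
  ∃ R : Sylow 2 C, Nat.card R = N ∧
    (∃ K : Subgroup C, K.Normal ∧ (∃ a : ℕ, K.index = 2 ^ a) ∧ (∀ H : Subgroup K, H.index ≠ 2) ∧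
      (∀ P : Sylow 2 K, ∃ m : ℕ, 1 ≤ m ∧ Nonempty ((P : Subgroup K) ≃* QuaternionGroup (2 ^ m)))) ∧
    (∀ Z₀ : Subgroup C, Z₀ ≤ (Subgroup.center (R : Subgroup C)).map (R : Subgroup C).subtype →
      Cfsg.IsWeaklyClosed Z₀ (R : Subgroup C))

theorem CentralizerShape.map {C C' : Type*} [Group C] [Group C'] [Finite C] (e : C ≃* C') {N : ℕ}
    (h : CentralizerShape C N) : CentralizerShape C' N := by
  haveI : Finite C' := Finite.of_equiv C e.toEquiv
  obtain ⟨R, hR, ⟨K, hK, ⟨a, ha⟩, hH, hP⟩, hZ⟩ := h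
  let R' : Sylow 2 C' := R.mapSurjective (f := e.toMonoidHom) e.surjective
  have hR' : (R' : Subgroup C') = (R : Subgroup C).map e.toMonoidHom := rfl
  let eK : K ≃* K.map e.toMonoidHom := Subgroup.equivMapOfInjective K e.toMonoidHom e.injective
  refine ⟨R', ?_, ⟨K.map e.toMonoidHom, hK.map _ e.surjective, ⟨a, ?_⟩, fun H hH' => ?_,
    fun P => ?_⟩, fun Z₀ hZ₀ => ?_⟩
  · show Nat.card (R' : Subgroup C') = N
    rw [hR', Subgroup.card_map_of_injective (f := e.toMonoidHom) e.injective]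
    exact hR
  · rw [← ha]; exact Subgroup.index_map_equiv K e
  · refine hH (H.comap eK.toMonoidHom) ?_
    rw [Subgroup.index_comap_of_surjective _ eK.surjective]; exact hH'
  · let Q : Sylow 2 K := P.mapSurjective (f := eK.symm.toMonoidHom) eK.symm.surjective
    obtain ⟨m, hm, ⟨f⟩⟩ := hP Q
    exact ⟨m, hm, ⟨(Subgroup.equivMapOfInjective (P : Subgroup (K.map e.toMonoidHom))
      eK.symm.toMonoidHom eK.symm.injective).trans f⟩⟩
  · set Z₁ := Z₀.comap e.toMonoidHom with hZ₁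
    have hback : Z₁.map e.toMonoidHom = Z₀ := Subgroup.map_comap_eq_self_of_surjective e.surjective _
    have hle : Z₁ ≤ (Subgroup.center (R : Subgroup C)).map (R : Subgroup C).subtype := by
      intro v hv
      obtain ⟨⟨w, hwR⟩, hw, hwv⟩ := hZ₀ hv
      rw [hR'] at hwR
      obtain ⟨u, hu, rfl⟩ := hwR
      obtain rfl : u = v := e.injective hwv
      refine ⟨⟨u, hu⟩, Subgroup.mem_center_iff.mpr fun r => Subtype.ext (e.injective ?_), rfl⟩
      have := congrArg Subtype.val (Subgroup.mem_center_iff.mp hw ⟨e r, ⟨(r : C), r.2, rfl⟩⟩)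
      simpa using this
    obtain ⟨h1, h2⟩ := hZ Z₁ hle
    refine ⟨by rw [← hback, hR']; exact Subgroup.map_mono h1, fun g hg => ?_⟩
    have hcomm : Z₀.map (MulAut.conj g).toMonoidHom =
        (Z₁.map (MulAut.conj (e.symm g)).toMonoidHom).map e.toMonoidHom := by
      rw [← hback, Subgroup.map_map, Subgroup.map_map]
      congr 1
      ext v
      simp
    rw [hcomm, hR', Subgroup.map_le_map_iff_of_injective (f := e.toMonoidHom) e.injective] at hg
    rw [hcomm, h2 _ hg, hback]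

variable {G : Type*} [Group G] [Finite G]

/-- Centralisers of conjugate elements are isomorphic. -/
theorem centralizer_equiv_of_isConj {a b : G} (h : IsConj a b) :
    Nonempty (↥(Subgroup.centralizer ({a} : Set G)) ≃* ↥(Subgroup.centralizer ({b} : Set G))) := by
  obtain ⟨g, rfl⟩ := isConj_iff.mp h
  refine ⟨((MulAut.conj g).subgroupMap _).trans (MulEquiv.subgroupCongr ?_)⟩
  ext v
  rw [Subgroup.mem_centralizer_singleton_iff]
  constructor
  · rintro ⟨w, hw, rfl⟩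
    show g * w * g⁻¹ * (g * a * g⁻¹) = g * a * g⁻¹ * (g * w * g⁻¹)
    calc g * w * g⁻¹ * (g * a * g⁻¹) = g * (w * a) * g⁻¹ := by group
      _ = g * (a * w) * g⁻¹ := by rw [Subgroup.mem_centralizer_singleton_iff.mp hw]
      _ = _ := by group
  · intro hv
    refine ⟨g⁻¹ * v * g, Subgroup.mem_centralizer_singleton_iff.mpr ?_, by simp [mul_assoc]⟩
    calc g⁻¹ * v * g * a = g⁻¹ * (v * (g * a * g⁻¹)) * g := by group
      _ = g⁻¹ * (g * a * g⁻¹ * v) * g := by rw [hv]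
      _ = _ := by group

theorem normalizer_subgroupOf_mem {K A : Subgroup G} {g : K}
    (hg : (g : G) ∈ Subgroup.normalizer (A : Set G)) {B : Subgroup K}
    (hB : ∀ v : K, v ∈ B ↔ (v : G) ∈ A) : g ∈ Subgroup.normalizer (B : Set K) := by
  rw [Subgroup.mem_normalizer_iff]
  intro v
  rw [hB, hB]
  exact Subgroup.mem_normalizer_iff.mp hg v

/-! ### The wreathed case -/

theorem IsWr.restrict {S : Sylow 2 G} {f : ℕ} {x y z : G} (D : IsWr (S : Subgroup G) f x y z)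
    {K : Subgroup G} (hSK : (S : Subgroup G) ≤ K) :
    IsWr ((S.subtype hSK : Sylow 2 K) : Subgroup K) f ⟨x, hSK D.hx⟩ ⟨y, hSK D.hy⟩ ⟨z, hSK D.hz⟩ where
  hx := D.hx
  hy := D.hy
  hz := D.hz
  hpow := D.hpow
  ordx := by rw [← Subgroup.orderOf_coe]; exact D.ordx
  comm := Subtype.ext D.comm.eq
  disj := by
    rw [eq_bot_iff]
    rintro v ⟨h1, h2⟩
    obtain ⟨i, rfl⟩ := Subgroup.mem_zpowers_iff.mp h1
    obtain ⟨j, hj⟩ := Subgroup.mem_zpowers_iff.mp h2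
    have hm : x ^ i ∈ Subgroup.zpowers x ⊓ Subgroup.zpowers y :=
      Subgroup.mem_inf.mpr ⟨zpow_mem (Subgroup.mem_zpowers x) i,
        Subgroup.mem_zpowers_iff.mpr ⟨j, by simpa using congrArg Subtype.val hj⟩⟩
    rw [D.disj, Subgroup.mem_bot] at hm
    rw [Subgroup.mem_bot]
    exact Subtype.ext (by simpa using hm)
  zz := Subtype.ext D.zz
  rel := Subtype.ext D.rel
  card := by
    rw [Sylow.coe_subtype, Nat.card_congr (Subgroup.subgroupOfEquivOfLe hSK).toEquiv]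
    exact D.card

namespace WrSylow

variable {S : Sylow 2 G} {f : ℕ} {x y z : G} (W : WrSylow S f x y z)
include W

theorem centralizer_shape (hV : W.VMove) :
    CentralizerShape ↥(Subgroup.centralizer ({x ^ (2 * f : ℤ) * y ^ (2 * f : ℤ)} : Set G))
      (Nat.card S) := by
  have D := W.wr
  set C₀ := Subgroup.centralizer ({x ^ (2 * f : ℤ) * y ^ (2 * f : ℤ)} : Set G) with hC₀
  have hSC : (S : Subgroup G) ≤ C₀ := W.centralizer_diag _
  set x' : C₀ := ⟨x, hSC D.hx⟩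
  set y' : C₀ := ⟨y, hSC D.hy⟩
  set z' : C₀ := ⟨z, hSC D.hz⟩
  have W' : WrSylow (S.subtype hSC) f x' y' z' := ⟨D.restrict hSC⟩
  have hU' : W'.UFix := by
    refine W'.uFix_or_uMove.resolve_right fun ⟨g, _, _, hg, _⟩ => W'.u1_ne_c ?_
    rw [← hg]
    have hc : ((x' ^ (2 * f : ℤ) * y' ^ (2 * f : ℤ) : C₀) : G) =
      x ^ (2 * f : ℤ) * y ^ (2 * f : ℤ) := rfl
    apply Subtype.ext
    rw [Subgroup.coe_mul, Subgroup.coe_mul, Subgroup.coe_inv, hc,
      Subgroup.mem_centralizer_singleton_iff.mp g.2, mul_inv_cancel_right]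
  have hV' : W'.VMove := by
    refine W'.vFix_or_vMove.resolve_left fun hfix => ?_
    obtain ⟨g, hgN, -, hg, -, -⟩ := hV
    have hgC : g ∈ C₀ := Subgroup.mem_centralizer_singleton_iff.mpr (by
      conv_rhs => rw [← W.NV_c hgN]
      group)
    have hgN' : (⟨g, hgC⟩ : C₀) ∈
        Subgroup.normalizer (W'.wr.dsub (2 * f : ℕ) 0 : Set C₀) := by
      refine normalizer_subgroupOf_mem (A := D.dsub (2 * f : ℕ) 0) hgN fun v => ⟨?_, ?_⟩
      · rintro ⟨i, j, ⟨h, hd⟩ | ⟨h, hd⟩⟩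
        · exact ⟨i, j, Or.inl ⟨congrArg Subtype.val h, hd⟩⟩
        · exact ⟨i, j, Or.inr ⟨congrArg Subtype.val h, hd⟩⟩
      · rintro ⟨i, j, ⟨h, hd⟩ | ⟨h, hd⟩⟩
        · exact ⟨i, j, Or.inl ⟨Subtype.ext h, hd⟩⟩
        · exact ⟨i, j, Or.inr ⟨Subtype.ext h, hd⟩⟩
    obtain ⟨m, hm⟩ := Subgroup.mem_zpowers_iff.mp (hfix _ hgN')
    have h1 : (x ^ (2 * f : ℤ) * y ^ (0 : ℤ))⁻¹ * (g * (x ^ (2 * f : ℤ) * y ^ (0 : ℤ)) * g⁻¹) ∈
        Subgroup.zpowers (x * y) :=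
      Subgroup.mem_zpowers_iff.mpr ⟨m, congrArg Subtype.val hm⟩
    have h2 := mul_mem h1 (inv_mem hg)
    rw [show (x ^ (2 * f : ℤ) * y ^ (0 : ℤ))⁻¹ * (g * (x ^ (2 * f : ℤ) * y ^ (0 : ℤ)) * g⁻¹) *
      ((x ^ (0 : ℤ) * y ^ (0 : ℤ) * z)⁻¹ * (g * (x ^ (2 * f : ℤ) * y ^ (0 : ℤ)) * g⁻¹))⁻¹ =
      (x ^ (2 * f : ℤ) * y ^ (0 : ℤ))⁻¹ * (x ^ (0 : ℤ) * y ^ (0 : ℤ) * z) by group,
      D.u_inv, D.u_mul_v] at h2
    exact W.v_notMem_diag _ _ h2
  obtain ⟨K, hK, hKi, hP, hH⟩ := W'.quaternion_conclusion hU' hV'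
  obtain ⟨k, hk⟩ := D.hpow
  refine ⟨S.subtype hSC, ?_, ⟨K, hK, ⟨k + 2, by rw [hKi, hk]; ring⟩, hH, hP⟩,
    W'.center_weakly_closed hU'⟩
  exact Nat.card_congr (Subgroup.subgroupOfEquivOfLe hSC).toEquiv

theorem centralizer_shape_of_no_index_two (hG : ∀ H : Subgroup G, H.index ≠ 2) {v : G}
    (hv : orderOf v = 2) :
    CentralizerShape ↥(Subgroup.centralizer ({v} : Set G)) (Nat.card S) := by
  obtain ⟨hU, hV⟩ := W.UV_of_no_index_two hG
  have hc : IsConj (x ^ (2 * f : ℤ) * y ^ (2 * f : ℤ)) v := by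
    rcases W.invol_conj hv with h | h | h
    · exact h.symm
    · exact (W.isConj_c_u1 hU).trans h.symm
    · exact ((W.isConj_c_u1 hU).trans (W.isConj_u1_z hV)).trans h.symm
  obtain ⟨e⟩ := centralizer_equiv_of_isConj hc
  exact (W.centralizer_shape hV).map e

end WrSylow

/-! ### The quasi-dihedral case -/

theorem IsQD.restrict {S : Sylow 2 G} {e : ℕ} {x y : G} (D : IsQD (S : Subgroup G) e x y)
    {K : Subgroup G} (hSK : (S : Subgroup G) ≤ K) :
    IsQD ((S.subtype hSK : Sylow 2 K) : Subgroup K) e ⟨x, hSK D.hx⟩ ⟨y, hSK D.hy⟩ where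
  hx := D.hx
  hy := D.hy
  hpow := D.hpow
  ordx := by rw [← Subgroup.orderOf_coe]; exact D.ordx
  yy := Subtype.ext D.yy
  rel := Subtype.ext (by simpa using D.rel)
  card := by
    rw [Sylow.coe_subtype, Nat.card_congr (Subgroup.subgroupOfEquivOfLe hSK).toEquiv]
    exact D.card

namespace QDSylow

variable {S : Sylow 2 G} {e : ℕ} {x y : G} (W : QDSylow S e x y)
include W

theorem center_weakly_closed_sub (hc : ¬ IsConj (x ^ (4 * e : ℤ)) y) (Z₀ : Subgroup G)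
    (hZ₀ : Z₀ ≤ (Subgroup.center (S : Subgroup G)).map (S : Subgroup G).subtype) :
    Cfsg.IsWeaklyClosed Z₀ (S : Subgroup G) := by
  have D := W.qd
  refine ⟨hZ₀.trans (Subgroup.map_subtype_le _), fun g hg => ?_⟩
  have key : ∀ v ∈ Z₀, g * v * g⁻¹ = v := by
    intro v hv
    obtain ⟨u, hu, rfl⟩ := hZ₀ hv
    have hvS : g * (u : G) * g⁻¹ ∈ (S : Subgroup G) := hg ⟨_, hv, rfl⟩
    have h := Subgroup.mem_center_iff.mp hu
    have hy' : Commute (u : G) (x ^ (2 * (0 : ℤ)) * y) := by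
      simpa [Commute, SemiconjBy] using (congrArg Subtype.val (h ⟨y, D.hy⟩)).symm
    have hx' : Commute (u : G) (x ^ (1 : ℤ)) := by
      simpa [Commute, SemiconjBy] using (congrArg Subtype.val (h ⟨x, D.hx⟩)).symm
    obtain ⟨j, hj⟩ := D.commute_x_pow u.2 (fun ⟨k, hk⟩ => by rw [mul_assoc] at hk; omega) hx'
    obtain ⟨m, hm | hm⟩ := D.mem_four.mp (D.mem_four_of_commute u.2 hy')
    swap
    · exact absurd (hj.symm.trans hm) (D.a_ne_b _ _)
    change g * (u : G) * g⁻¹ = (u : G)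
    rcases eq_or_ne (u : G) 1 with h1 | h1
    · rw [h1, mul_one, mul_inv_cancel]
    have ho : orderOf (u : G) = 2 := by
      refine orderOf_eq_prime ?_ h1
      rw [hm, sq, ← zpow_add, D.zpow_eq_one]
      exact ⟨m, by ring⟩
    have hu' : (u : G) = x ^ (4 * e : ℤ) := by
      rcases D.invol_class u.2 ho with h | ⟨k, h⟩
      · exact h
      · exact absurd (hm.symm.trans h) (D.a_ne_b _ _)
    have h2 : orderOf (g * (u : G) * g⁻¹) = 2 := ((MulAut.conj g).orderOf_eq _).trans ho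
    rcases D.invol_class hvS h2 with h | ⟨k, h⟩
    · rw [h, hu']
    · obtain ⟨s, -, hs⟩ := D.conj_rep_even k
      rw [hu'] at h
      exact absurd ((isConj_iff.mpr ⟨g, h⟩).trans (isConj_iff.mpr ⟨s, hs⟩)) hc
  ext w
  constructor
  · rintro ⟨v, hv, rfl⟩
    show g * v * g⁻¹ ∈ Z₀
    rw [key v hv]; exact hv
  · exact fun hw => ⟨w, hw, key w hw⟩

theorem centralizer_shape
    (hQ : ∃ g ∈ Subgroup.normalizer (W.qd.quat 0 : Set G),
      (x * y)⁻¹ * (g * x ^ (2 * e : ℤ) * g⁻¹) ∈ Subgroup.zpowers (x ^ (4 * e : ℤ))) :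
    CentralizerShape ↥(Subgroup.centralizer ({x ^ (4 * e : ℤ)} : Set G)) (Nat.card S) := by
  have D := W.qd
  set C₀ := Subgroup.centralizer ({x ^ (4 * e : ℤ)} : Set G) with hC₀
  have hSC : (S : Subgroup G) ≤ C₀ := fun s hs =>
    Subgroup.mem_centralizer_singleton_iff.mpr (D.c_comm hs).eq.symm
  set x' : C₀ := ⟨x, hSC D.hx⟩
  set y' : C₀ := ⟨y, hSC D.hy⟩
  have W' : QDSylow (S.subtype hSC) e x' y' := ⟨D.restrict hSC⟩
  have hc' : ¬ IsConj (x' ^ (4 * e : ℤ)) y' := fun h => by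
    obtain ⟨g, hg⟩ := isConj_iff.mp h
    apply W.y_ne_c
    have h1 : (g : G) * x ^ (4 * e : ℤ) * (g : G)⁻¹ = y := congrArg Subtype.val hg
    rw [Subgroup.mem_centralizer_singleton_iff.mp g.2, mul_inv_cancel_right] at h1
    exact h1.symm
  obtain ⟨g, hgN, hg⟩ := hQ
  have hc1 : g * x ^ (4 * e : ℤ) * g⁻¹ = x ^ (4 * e : ℤ) := by
    have hcQ : x ^ (4 * e : ℤ) ∈ D.quat 0 := by
      rw [show (4 * e : ℤ) = 2 * e + 2 * e by ring, zpow_add]
      exact mul_mem W.i_mem_quat W.i_mem_quat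
    refine W.quat0_invol ((Subgroup.mem_normalizer_iff.mp hgN _).mp hcQ) ?_ ?_
    · rw [show g * x ^ (4 * e : ℤ) * g⁻¹ * (g * x ^ (4 * e : ℤ) * g⁻¹) =
        g * (x ^ (4 * e : ℤ) * x ^ (4 * e : ℤ)) * g⁻¹ by group, D.c_sq]
      group
    · rw [Ne, conj_eq_one_iff]; exact D.c_ne_one
  have hgC : g ∈ C₀ := Subgroup.mem_centralizer_singleton_iff.mpr (by
    conv_rhs => rw [← hc1]
    group)
  have hQ' : (W'.qd.quat 0 ⊔ Subgroup.centralizer (W'.qd.quat 0 : Set C₀)).relIndex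
      (Subgroup.normalizer (W'.qd.quat 0 : Set C₀)) = 6 := by
    rcases W'.quat_dich with ⟨-, hfix⟩ | ⟨h6, -⟩
    swap
    · exact h6
    exfalso
    have hgN' : (⟨g, hgC⟩ : C₀) ∈ Subgroup.normalizer (W'.qd.quat 0 : Set C₀) := by
      refine normalizer_subgroupOf_mem (A := D.quat 0) hgN fun v => ?_
      rw [W'.qd.mem_quat, D.mem_quat]
      simp [Subtype.ext_iff, x', y']
    obtain ⟨m, hm⟩ := Subgroup.mem_zpowers_iff.mp (hfix _ hgN')
    have h1 : (x ^ (2 * e : ℤ))⁻¹ * (g * x ^ (2 * e : ℤ) * g⁻¹) ∈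
        Subgroup.zpowers (x ^ (4 * e : ℤ)) :=
      Subgroup.mem_zpowers_iff.mpr ⟨m, congrArg Subtype.val hm⟩
    have h2 := mul_mem h1 (inv_mem hg)
    rw [show (x ^ (2 * e : ℤ))⁻¹ * (g * x ^ (2 * e : ℤ) * g⁻¹) *
      ((x * y)⁻¹ * (g * x ^ (2 * e : ℤ) * g⁻¹))⁻¹ = x ^ (-(2 * e : ℤ) + 1) * y by group] at h2
    obtain ⟨p, hp⟩ := W.mem_zc.mp h2
    exact D.a_ne_b _ _ hp.symm
  obtain ⟨K, hK, hKi, hKS⟩ := W'.exists_ker_gquat hc'
  obtain ⟨k, hk⟩ := D.hpow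
  refine ⟨S.subtype hSC, Nat.card_congr (Subgroup.subgroupOfEquivOfLe hSC).toEquiv,
    ⟨K, hK, ⟨1, by rw [hKi, pow_one]⟩, W'.no_index_two_ker hKS fun H hH =>
      W'.gquat_le_core hQ' _ (W'.core_aux hKi (hKS ▸ inf_le_right) H hH), fun P => ⟨k + 1, by omega, ?_⟩⟩,
    W'.center_weakly_closed_sub hc'⟩
  obtain ⟨f⟩ := sylow_normal_equiv (S.subtype hSC) K P
  obtain ⟨g'⟩ := W'.qd.gquat_equiv
  rw [show 2 ^ (k + 1) = 2 * e by rw [hk]; ring]
  exact ⟨f.trans ((MulEquiv.subgroupCongr hKS).trans g')⟩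

theorem centralizer_shape_of_no_index_two (hG : ∀ H : Subgroup G, H.index ≠ 2) {v : G}
    (hv : orderOf v = 2) :
    CentralizerShape ↥(Subgroup.centralizer ({v} : Set G)) (Nat.card S) := by
  have hcy : IsConj (x ^ (4 * e : ℤ)) y := by
    by_contra h
    obtain ⟨K, -, hK, -⟩ := W.exists_ker_gquat h
    exact hG K hK
  have hij : IsConj (x ^ (2 * e : ℤ)) (x * y) := by
    by_contra h
    obtain ⟨K, -, hK, -⟩ := W.exists_ker_dih h
    exact hG K hK
  have hc : IsConj (x ^ (4 * e : ℤ)) v := by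
    rcases W.invol_conj hv with h | h
    · exact h.symm
    · exact hcy.trans h.symm
  have hQ : ∃ g ∈ Subgroup.normalizer (W.qd.quat 0 : Set G),
      (x * y)⁻¹ * (g * x ^ (2 * e : ℤ) * g⁻¹) ∈ Subgroup.zpowers (x ^ (4 * e : ℤ)) := by
    rcases W.quat_dich with ⟨h2, -⟩ | ⟨-, g, hg, -, hg1, -, -⟩
    · have := W.quat6_of_isConj hij
      omega
    · exact ⟨g, hg, hg1⟩
  obtain ⟨ε⟩ := centralizer_equiv_of_isConj hc
  exact (W.centralizer_shape hQ).map ε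

end QDSylow

end Cfsg.Agent.TwoFusion36
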