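import Cfsg.Agent.TwoFusion36.Basic
import Cfsg.Prelude.Def_Transfer

/-!
# Tools for the fusion arguments in groups with quasi-dihedral or wreathed Sylow 2-subgroups
(helper36)
-/

set_option linter.unusedSectionVars false

namespace Cfsg.Agent.TwoFusion36

open scoped commutatorElement

variable {G : Type*} [Group G]

/-- A group permuting three cosets, with an element swapping two of them, acts on them as
a group of order two or as the full symmetric group. -/
theorem three_dichotomy [Finite G] {N C : Subgroup G} (Z : Subgroup G) (v : Fin 3 → G)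
    (hdist : ∀ k l, (v k)⁻¹ * v l ∈ Z → k = l)
    (hZ : ∀ n ∈ N, ∀ w ∈ Z, n * w * n⁻¹ ∈ Z)
    (hperm : ∀ n ∈ N, ∀ k, ∃ l, (v l)⁻¹ * (n * v k * n⁻¹) ∈ Z)
    (hker : ∀ n ∈ N, (∀ k, (v k)⁻¹ * (n * v k * n⁻¹) ∈ Z) → n ∈ C)
    (hC : ∀ c ∈ C, c ∈ N → ∀ k, (v k)⁻¹ * (c * v k * c⁻¹) ∈ Z)
    (r : G) (hr : r ∈ N) (hr0 : (v 0)⁻¹ * (r * v 0 * r⁻¹) ∈ Z)
    (hr1 : (v 2)⁻¹ * (r * v 1 * r⁻¹) ∈ Z) :
    (C.relIndex N = 2 ∧ ∀ n ∈ N, (v 0)⁻¹ * (n * v 0 * n⁻¹) ∈ Z) ∨
      (C.relIndex N = 6 ∧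
        ∃ g ∈ N, Odd (orderOf g) ∧ ∀ k, (v (k + 1))⁻¹ * (g * v k * g⁻¹) ∈ Z) := by
  classical
  choose! σ hσ using fun n (hn : n ∈ N) k => hperm n hn k
  have huniq : ∀ n ∈ N, ∀ k l, (v l)⁻¹ * (n * v k * n⁻¹) ∈ Z → σ n k = l := by
    intro n hn k l hl
    apply hdist
    have := mul_mem (hσ n hn k) (inv_mem hl)
    simpa [mul_assoc] using this
  have hmul : ∀ m ∈ N, ∀ n ∈ N, ∀ k, σ (m * n) k = σ m (σ n k) := by
    intro m hm n hn k
    apply huniq _ (mul_mem hm hn)
    have h1 := hσ m hm (σ n k)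
    have h2 := hZ m hm _ (hσ n hn k)
    have := mul_mem h1 h2
    simpa [mul_assoc] using this
  have hone : ∀ k, σ 1 k = k := fun k => huniq 1 N.one_mem k k (by simp)
  let ρ : N →* Equiv.Perm (Fin 3) :=
    { toFun := fun n => ⟨σ (n : G), σ ((n : G)⁻¹),
        fun k => by rw [← hmul _ (inv_mem n.2) _ n.2, inv_mul_cancel, hone],
        fun k => by rw [← hmul _ n.2 _ (inv_mem n.2), mul_inv_cancel, hone]⟩
      map_one' := Equiv.ext fun k => hone k
      map_mul' := fun m n => Equiv.ext fun k => hmul _ m.2 _ n.2 k }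
  have hρ : ∀ (n : N) k, ρ n k = σ (n : G) k := fun _ _ => rfl
  have hkerρ : ρ.ker = C.subgroupOf N := by
    ext n
    rw [MonoidHom.mem_ker, Subgroup.mem_subgroupOf]
    constructor
    · intro h
      refine hker n n.2 fun k => ?_
      have := hσ n n.2 k
      rwa [← hρ n k, h] at this
    · intro h
      exact Equiv.ext fun k => huniq n n.2 k k (hC n h n.2 k)
  have hidx : C.relIndex N = Nat.card ρ.range := by
    rw [Subgroup.relIndex, ← hkerρ, Subgroup.index_ker]
  set H := ρ.range with hH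
  have hs : Equiv.swap (1 : Fin 3) 2 ∈ H := by
    refine ⟨⟨r, hr⟩, ?_⟩
    have h0 : ρ ⟨r, hr⟩ 0 = 0 := huniq r hr 0 0 hr0
    have h1 : ρ ⟨r, hr⟩ 1 = 2 := huniq r hr 1 2 hr1
    have key : ∀ p : Equiv.Perm (Fin 3), p 0 = 0 → p 1 = 2 → p = Equiv.swap (1 : Fin 3) 2 := by
      decide
    exact key _ h0 h1
  by_cases hfix : ∀ p ∈ H, p 0 = 0
  · refine Or.inl ⟨?_, fun n hn => ?_⟩
    · rw [hidx]
      have hset : (H : Set (Equiv.Perm (Fin 3))) = {1, Equiv.swap (1 : Fin 3) 2} := by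
        ext p
        constructor
        · intro hp
          have key : ∀ q : Equiv.Perm (Fin 3), q 0 = 0 → q = 1 ∨ q = Equiv.swap (1 : Fin 3) 2 := by
            decide
          exact key p (hfix p hp)
        · rintro (rfl | rfl)
          exacts [H.one_mem, hs]
      rw [show Nat.card H = (H : Set (Equiv.Perm (Fin 3))).ncard from (Nat.card_coe_set_eq _),
        hset, Set.ncard_pair (by decide)]
    · have h := hσ n hn 0
      have h0 := hfix _ ⟨⟨n, hn⟩, rfl⟩
      rw [hρ] at h0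
      rwa [h0] at h
  · push Not at hfix
    obtain ⟨p, hp, hp0⟩ := hfix
    have h6 : Nat.card H = 6 := by
      have hdvd : Nat.card H ∣ 6 := by
        have := Subgroup.card_subgroup_dvd_card H
        rwa [Nat.card_eq_fintype_card (α := Equiv.Perm (Fin 3)), Fintype.card_perm,
          Fintype.card_fin, show Nat.factorial 3 = 6 from rfl] at this
      have h3 : 3 ≤ Nat.card H := by
        rw [show Nat.card H = (H : Set (Equiv.Perm (Fin 3))).ncard from (Nat.card_coe_set_eq _)]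
        have hsub : ({1, Equiv.swap (1 : Fin 3) 2, p} : Set (Equiv.Perm (Fin 3))) ⊆ H := by
          rintro q (rfl | rfl | rfl)
          exacts [H.one_mem, hs, hp]
        refine le_trans (le_of_eq ?_) (Set.ncard_le_ncard hsub)
        rw [Set.ncard_eq_three.mpr ⟨1, Equiv.swap (1 : Fin 3) 2, p, by decide,
          fun h => hp0 (by rw [← h]; rfl), fun h => hp0 (by rw [← h]; rfl), rfl⟩]
      have h2 : 2 ∣ Nat.card H := by
        have := Subgroup.orderOf_dvd_natCard H hs
        rwa [orderOf_eq_prime (p := 2) (by decide) (by decide)] at this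
      have := Nat.le_of_dvd (by norm_num) hdvd
      interval_cases h : Nat.card H <;> omega
    refine Or.inr ⟨hidx.trans h6, ?_⟩
    have htop : H = ⊤ := Subgroup.eq_top_of_card_eq H (by
      rw [h6, Nat.card_eq_fintype_card, Fintype.card_perm, Fintype.card_fin]; rfl)
    obtain ⟨c, hc⟩ : finRotate 3 ∈ H := htop ▸ Subgroup.mem_top _
    obtain ⟨a, m, hm, hcm⟩ := Nat.exists_eq_two_pow_mul_odd (orderOf_pos c).ne'
    have hgodd : Odd (orderOf (c ^ 2 ^ a)) := by
      refine hm.of_dvd_nat (orderOf_dvd_of_pow_eq_one ?_)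
      rw [← pow_mul, ← hcm, pow_orderOf_eq_one]
    obtain ⟨g, hg, hgc⟩ : ∃ g : N, Odd (orderOf g) ∧ ρ g = finRotate 3 := by
      have hrot3 : (finRotate 3) ^ 3 = 1 := by decide
      have hcase : (2 ^ a) % 3 = 1 ∨ (2 ^ a) % 3 = 2 := by
        clear hgodd hcm
        induction a with
        | zero => exact Or.inl rfl
        | succ a ih => rw [pow_succ, Nat.mul_mod]; rcases ih with h | h <;> rw [h] <;> simp
      have hpow : ∀ t : ℕ, ρ (c ^ t) = finRotate 3 ^ (t % 3) := by
        intro t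
        rw [map_pow, hc]
        conv_lhs => rw [← Nat.mod_add_div t 3, pow_add, pow_mul, hrot3, one_pow, mul_one]
      rcases hcase with h | h
      · exact ⟨_, hgodd, by rw [hpow, h, pow_one]⟩
      · refine ⟨(c ^ 2 ^ a) ^ 2, hgodd.of_dvd_nat (orderOf_pow_dvd _), ?_⟩
        rw [← pow_mul, hpow, Nat.mul_mod, h]
        simp
    refine ⟨g, g.2, by rwa [Subgroup.orderOf_coe], fun k => ?_⟩
    have := hσ g g.2 k
    rw [← hρ g k, hgc] at this
    have key : ∀ k : Fin 3, finRotate 3 k = k + 1 := by decide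
    rwa [key] at this

variable [Finite G]

/-- A 2-subgroup of `M` is conjugate in `M` into a subgroup of odd index of `M`. -/
theorem exists_conj_into {M P R : Subgroup G} (hPM : P ≤ M) (hP : IsPGroup 2 P)
    (hidx : ¬ 2 ∣ P.relIndex M) (hRM : R ≤ M) (hR : IsPGroup 2 R) :
    ∃ m ∈ M, ∀ v ∈ R, m * v * m⁻¹ ∈ P := by
  let P₀ : Sylow 2 M := (hP.comap_subtype (K := M)).toSylow hidx
  obtain ⟨Q, hQ⟩ := (hR.comap_subtype (K := M)).exists_le_sylow
  obtain ⟨m, hm⟩ := MulAction.exists_smul_eq M Q P₀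
  refine ⟨m, m.2, fun v hv => ?_⟩
  have h : (m * ⟨v, hRM hv⟩ * m⁻¹ : M) ∈ (P₀ : Subgroup M) := by
    rw [← hm, Sylow.coe_subgroup_smul]
    exact ⟨_, hQ hv, rfl⟩
  exact h

/-- A 2-subgroup of a subgroup containing a Sylow 2-subgroup is conjugate into it. -/
theorem exists_conj_into_sylow (S : Sylow 2 G) {M R : Subgroup G} (hSM : (S : Subgroup G) ≤ M)
    (hRM : R ≤ M) (hR : IsPGroup 2 R) : ∃ m ∈ M, ∀ v ∈ R, m * v * m⁻¹ ∈ (S : Subgroup G) :=
  exists_conj_into hSM S.isPGroup'
    (fun h => S.not_dvd_index (h.trans (Subgroup.relIndex_dvd_index_of_le hSM))) hRM hR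

theorem inf_sylow_normal (S : Sylow 2 G) (K : Subgroup G) [K.Normal] :
    ¬ 2 ∣ ((S : Subgroup G) ⊓ K).relIndex K := by
  rw [Subgroup.inf_relIndex_right]
  intro h
  refine S.not_dvd_index (h.trans ?_)
  have h2 : (S : Subgroup G).relIndex K = (S : Subgroup G).relIndex ((S : Subgroup G) ⊔ K) := by
    have h1 := Subgroup.card_mul_index ((S : Subgroup G).subgroupOf K)
    have h3 := Subgroup.card_mul_index ((S : Subgroup G).subgroupOf ((S : Subgroup G) ⊔ K))
    have h4 : Nat.card ((S : Subgroup G).subgroupOf ((S : Subgroup G) ⊔ K)) = Nat.card S :=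
      Nat.card_congr (Subgroup.subgroupOfEquivOfLe le_sup_left).toEquiv
    have h5 : Nat.card ((S : Subgroup G).subgroupOf K) * (K.relIndex (S : Subgroup G)) = Nat.card S := by
      have h6 := Subgroup.card_mul_index (K.subgroupOf (S : Subgroup G))
      rw [← h6, Subgroup.relIndex]
      congr 1
      rw [← Subgroup.inf_subgroupOf_right, Nat.card_congr
        (Subgroup.subgroupOfEquivOfLe inf_le_right).toEquiv, ← Subgroup.inf_subgroupOf_right K,
        Nat.card_congr (Subgroup.subgroupOfEquivOfLe inf_le_right).toEquiv, inf_comm]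
    have h7 := Subgroup.card_mul_index (K.subgroupOf ((S : Subgroup G) ⊔ K))
    rw [Nat.card_congr (Subgroup.subgroupOfEquivOfLe le_sup_right).toEquiv,
      ← Subgroup.relIndex, Subgroup.relIndex_sup_right] at h7
    rw [Subgroup.relIndex, Subgroup.relIndex]
    rw [h4] at h3
    apply Nat.eq_of_mul_eq_mul_left (Nat.card_pos : 0 < Nat.card S)
    rw [h3, ← h7, ← h5, ← h1]
    ring
  rw [h2]
  exact Subgroup.relIndex_dvd_index_of_le le_sup_left

/-- All Sylow 2-subgroups of a normal subgroup are isomorphic to its trace on `S`. -/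
theorem sylow_normal_equiv (S : Sylow 2 G) (K : Subgroup G) [K.Normal] (P : Sylow 2 K) :
    Nonempty ((P : Subgroup K) ≃* ((S : Subgroup G) ⊓ K : Subgroup G)) := by
  let P₀ : Sylow 2 K := ((S.isPGroup'.to_le (inf_le_left (b := K))).comap_subtype (K := K)).toSylow
    (inf_sylow_normal S K)
  exact ⟨(Sylow.equiv P P₀).trans (Subgroup.subgroupOfEquivOfLe inf_le_right)⟩

/-- Kernel attached to a fusion-invariant homomorphism on a Sylow 2-subgroup. -/
theorem exists_ker {A : Type*} [CommGroup A] [Finite A] (S : Sylow 2 G) (φ : S →* A)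
    (hsurj : Function.Surjective φ)
    (hinv : ∀ (s t : S) (g : G), g * (s : G) * g⁻¹ = t → φ s = φ t) :
    ∃ K : Subgroup G, K.Normal ∧ K.index = Nat.card A ∧ ∀ s : S, (s : G) ∈ K ↔ φ s = 1 := by
  have hker : (S : Subgroup G).focalSubgroupOf ≤ φ.ker := by
    rw [Subgroup.focalSubgroupOf_eq_closure, Subgroup.closure_le]
    rintro s ⟨x, hx, u, hs⟩
    have h := hinv ⟨x, hx⟩⁻¹ (⟨x, hx⟩⁻¹ * s) u (by
      show u * x⁻¹ * u⁻¹ = x⁻¹ * (s : G)
      rw [hs, commutatorElement_def]; group)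
    rw [map_mul] at h
    exact MonoidHom.mem_ker.mpr (mul_eq_left.mp h.symm)
  let ψ : (S : Subgroup G) ⧸ (S : Subgroup G).focalSubgroupOf →* A := QuotientGroup.lift _ φ hker
  let Φ : G →* A := ψ.comp (S : Subgroup G).transferFocal
  refine ⟨Φ.ker, inferInstance, ?_, fun s => ?_⟩
  · rw [Subgroup.index_ker]
    have : Φ.range = ⊤ := MonoidHom.range_eq_top.mpr (fun a => by
      obtain ⟨s, rfl⟩ := hsurj a
      obtain ⟨g, hg⟩ := Subgroup.transferFocal_surjective S (QuotientGroup.mk s)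
      exact ⟨g, by show ψ _ = _; rw [hg]; rfl⟩)
    rw [this, Nat.card_congr Subgroup.topEquiv.toEquiv]
  · rw [MonoidHom.mem_ker]
    show ψ ((S : Subgroup G).transferFocal (s : G)) = 1 ↔ _
    rw [Subgroup.transferFocal_eq_pow, map_pow]
    show φ s ^ _ = 1 ↔ _
    refine ⟨fun h => ?_, fun h => by rw [h, one_pow]⟩
    obtain ⟨k, hk⟩ := S.isPGroup' s
    have h2 : φ s ^ 2 ^ k = 1 := by rw [← map_pow, hk, map_one]
    have hco : Nat.Coprime (S : Subgroup G).index (2 ^ k) :=
      Nat.Coprime.pow_right k (Nat.coprime_two_right.mpr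
        (Nat.odd_iff.mpr (Nat.two_dvd_ne_zero.mp S.not_dvd_index)))
    have h3 := Nat.dvd_gcd (orderOf_dvd_of_pow_eq_one h) (orderOf_dvd_of_pow_eq_one h2)
    rw [hco.gcd_eq_one, Nat.dvd_one, orderOf_eq_one_iff] at h3
    exact h3

/-- An element of odd order lies in every subgroup of index two. -/
theorem odd_mem_of_index_two {H : Subgroup G} (hH : H.index = 2) {g : G} (hg : Odd (orderOf g)) :
    g ∈ H := by
  obtain ⟨m, hm⟩ := hg
  have h1 : (g * g) ^ (m + 1) = g := by
    rw [← sq, ← pow_mul, show 2 * (m + 1) = 2 * m + 1 + 1 by ring, pow_succ, ← hm,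
      pow_orderOf_eq_one, one_mul]
  rw [← h1]
  exact pow_mem (Subgroup.mul_self_mem_of_index_two hH g) _

theorem comm_mem_of_index_two {H : Subgroup G} (hH : H.index = 2) {g : G} (hg : Odd (orderOf g))
    (v : G) : g * v * g⁻¹ * v⁻¹ ∈ H := by
  have hgH := odd_mem_of_index_two hH hg
  have h2 := (Subgroup.normal_of_index_eq_two hH).conj_mem _ (inv_mem hgH) v
  have := mul_mem hgH h2
  rwa [show g * (v * g⁻¹ * v⁻¹) = g * v * g⁻¹ * v⁻¹ by group] at this

theorem no_index_two (S : Sylow 2 G)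
    (h : ∀ H : Subgroup G, H.index = 2 → (S : Subgroup G) ≤ H) : ∀ H : Subgroup G, H.index ≠ 2 :=
  fun H hH => S.not_dvd_index (hH.symm.dvd.trans (Subgroup.index_dvd_of_le (h H hH)))

/-- Version of `no_index_two` for a normal subgroup `K`, stated inside `G`. -/
theorem no_index_two_normal (S : Sylow 2 G) (K : Subgroup G) [K.Normal]
    (h : ∀ H : Subgroup K, H.index = 2 → ∀ v : K, (v : G) ∈ (S : Subgroup G) → v ∈ H) :
    ∀ H : Subgroup K, H.index ≠ 2 := by
  intro H hH
  apply inf_sylow_normal S K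
  rw [Subgroup.relIndex]
  refine hH.symm.dvd.trans (Subgroup.index_dvd_of_le fun v hv => h H hH v ?_)
  exact (Subgroup.mem_subgroupOf.mp hv).1

theorem hasNormalPComplement_of_cyclic (S : Sylow 2 G) (K : Subgroup G) [K.Normal] {a : ℕ}
    (hidx : K.index = 2 ^ a) (hcyc : IsCyclic ((S : Subgroup G) ⊓ K : Subgroup G)) :
    Cfsg.HasNormalPComplement 2 G := by
  let P : Sylow 2 K := ((S.isPGroup'.to_le (inf_le_left (b := K))).comap_subtype (K := K)).toSylow
    (inf_sylow_normal S K)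
  let e := Subgroup.subgroupOfEquivOfLe (inf_le_right : (S : Subgroup G) ⊓ K ≤ K)
  have hP : IsCyclic P := isCyclic_of_surjective e.symm e.symm.surjective
  obtain ⟨M, hMn, hMc⟩ : ∃ M : Subgroup K, M.Normal ∧ M.IsComplement' (P : Subgroup K) := by
    by_cases heven : 2 ∣ Nat.card K
    · exact ⟨_, inferInstance,
        hP.isComplement' ((Nat.minFac_eq_two_iff _).mpr heven)⟩
    · refine ⟨⊤, inferInstance, ?_⟩
      obtain ⟨k, hk⟩ := IsPGroup.iff_card.mp P.isPGroup'
      have hk0 : k = 0 := by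
        by_contra h0
        exact heven ((dvd_pow_self 2 h0).trans (hk ▸ Subgroup.card_subgroup_dvd_card _))
      rw [Subgroup.card_eq_one.mp (by rw [hk, hk0, pow_zero] : Nat.card (P : Subgroup K) = 1)]
      exact Subgroup.isComplement'_top_bot
  haveI := hMn
  have hModd : Odd (Nat.card M) := by
    rw [← hMc.index_eq_card]
    exact Nat.odd_iff.mpr (Nat.two_dvd_ne_zero.mp P.not_dvd_index)
  have hmem : ∀ k : K, Odd (orderOf k) → k ∈ M := by
    intro k hk
    have hdvd : orderOf (QuotientGroup.mk k : K ⧸ M) ∣ orderOf k :=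
      orderOf_map_dvd (QuotientGroup.mk' M) k
    obtain ⟨j, hj⟩ := IsPGroup.iff_card.mp P.isPGroup'
    have h2 : orderOf (QuotientGroup.mk k : K ⧸ M) ∣ 2 ^ j := by
      rw [← hj, ← hMc.symm.index_eq_card]
      exact orderOf_dvd_natCard _
    have h3 := Nat.dvd_gcd hdvd h2
    rw [(Nat.Coprime.pow_right j (Nat.coprime_two_right.mpr hk)).gcd_eq_one, Nat.dvd_one,
      orderOf_eq_one_iff, QuotientGroup.eq_one_iff] at h3
    exact h3
  refine ⟨S, M.map K.subtype, ⟨fun n hn g => ?_⟩, ?_⟩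
  · obtain ⟨m, hm, rfl⟩ := hn
    have hgm : g * (m : G) * g⁻¹ ∈ K := ‹K.Normal›.conj_mem _ m.2 g
    refine ⟨⟨_, hgm⟩, hmem _ ?_, rfl⟩
    have e : orderOf (g * (m : G) * g⁻¹) = orderOf (m : G) := (MulAut.conj g).orderOf_eq (m : G)
    rw [← Subgroup.orderOf_coe]
    show Odd (orderOf (g * (m : G) * g⁻¹))
    rw [e, Subgroup.orderOf_coe]
    exact hModd.of_dvd_nat (M.orderOf_dvd_natCard hm)
  · have hcard : Nat.card (M.map K.subtype) = Nat.card M :=
      Subgroup.card_map_of_injective K.subtype_injective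
    have hco : (Nat.card M).Coprime (Nat.card (S : Subgroup G)) := by
      obtain ⟨j, hj⟩ := IsPGroup.iff_card.mp S.isPGroup'
      rw [hj]; exact Nat.Coprime.pow_right j (Nat.coprime_two_right.mpr hModd)
    refine Subgroup.isComplement'_of_coprime ?_ (by rw [hcard]; exact hco)
    rw [hcard]
    -- both sides have the same 2-part and the same odd part
    have h1 : Nat.card M * Nat.card (P : Subgroup K) * 2 ^ a = Nat.card G := by
      rw [hMc.card_mul, ← hidx, K.card_mul_index]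
    have h2 : Nat.card (S : Subgroup G) * (S : Subgroup G).index = Nat.card G :=
      (S : Subgroup G).card_mul_index
    obtain ⟨j, hj⟩ := IsPGroup.iff_card.mp S.isPGroup'
    obtain ⟨i, hi⟩ := IsPGroup.iff_card.mp P.isPGroup'
    rw [hi, mul_assoc, ← pow_add] at h1
    rw [hj, ← h1] at h2
    have hodd : Odd (S : Subgroup G).index :=
      Nat.odd_iff.mpr (Nat.two_dvd_ne_zero.mp S.not_dvd_index)
    have hji : 2 ^ j = 2 ^ (i + a) := by
      apply Nat.dvd_antisymm
      · exact (Nat.Coprime.pow_left j (Nat.coprime_two_left.mpr hModd)).dvd_of_dvd_mul_left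
          ⟨_, h2.symm⟩
      · exact (Nat.Coprime.pow_left (i + a) (Nat.coprime_two_left.mpr hodd)).dvd_of_dvd_mul_right
          ⟨Nat.card M, by rw [h2, mul_comm]⟩
    rw [hj, hji, h1]

end Cfsg.Agent.TwoFusion36
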