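import Mathlib

/-!
# Small tools: subgroups generated by an element and an inverting element, dihedral and
quaternion lifts, class counting (helper36)
-/

set_option linter.unusedSectionVars false

namespace Cfsg.Agent.TwoFusion36

variable {G : Type*} [Group G]

theorem conj_zpow_inv {a b : G} (hab : b * a * b⁻¹ = a⁻¹) (k : ℤ) :
    b * a ^ k = a ^ (-k) * b := by
  have h : b * a ^ k * b⁻¹ = a ^ (-k) := by rw [← conj_zpow, hab, inv_zpow, zpow_neg]
  rw [← h]; group

/-- The subgroup `⟨a⟩ ∪ b⟨a⟩` when `b` inverts `a` and `b * b ∈ ⟨a⟩`. -/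
def sub2 (a b : G) (hab : b * a * b⁻¹ = a⁻¹) (hb : ∃ m : ℤ, b * b = a ^ m) : Subgroup G where
  carrier := {v | ∃ k : ℤ, v = a ^ k ∨ v = b * a ^ k}
  one_mem' := ⟨0, Or.inl (zpow_zero a).symm⟩
  mul_mem' := by
    rintro u v ⟨k, hk | hk⟩ ⟨l, hl | hl⟩ <;> subst hk hl
    · exact ⟨k + l, Or.inl (zpow_add a k l).symm⟩
    · refine ⟨-k + l, Or.inr ?_⟩
      calc a ^ k * (b * a ^ l) = a ^ k * b * a ^ l := (mul_assoc _ _ _).symm
        _ = b * a ^ (-k) * a ^ l := by rw [conj_zpow_inv hab (-k), neg_neg]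
        _ = b * a ^ (-k + l) := by rw [mul_assoc, zpow_add]
    · exact ⟨k + l, Or.inr (by rw [zpow_add, mul_assoc])⟩
    · obtain ⟨m, hm⟩ := hb
      refine ⟨m + (-k) + l, Or.inl ?_⟩
      calc b * a ^ k * (b * a ^ l) = b * (a ^ k * b) * a ^ l := by group
        _ = b * (b * a ^ (-k)) * a ^ l := by rw [conj_zpow_inv hab (-k), neg_neg]
        _ = (b * b) * a ^ (-k) * a ^ l := by group
        _ = _ := by rw [hm, zpow_add, zpow_add]
  inv_mem' := by
    rintro u ⟨k, hk | hk⟩ <;> subst hk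
    · exact ⟨-k, Or.inl (zpow_neg a k).symm⟩
    · obtain ⟨m, hm⟩ := hb
      refine ⟨k - m, Or.inr ?_⟩
      apply inv_eq_of_mul_eq_one_right
      calc b * a ^ k * (b * a ^ (k - m)) = b * (a ^ k * b) * a ^ (k - m) := by group
        _ = b * (b * a ^ (-k)) * a ^ (k - m) := by rw [conj_zpow_inv hab (-k), neg_neg]
        _ = (b * b) * a ^ (-k) * a ^ (k - m) := by group
        _ = 1 := by rw [hm, ← zpow_add, ← zpow_add, show m + -k + (k - m) = 0 by ring, zpow_zero]

theorem mem_sub2 {a b : G} {hab : b * a * b⁻¹ = a⁻¹} {hb : ∃ m : ℤ, b * b = a ^ m} {v : G} :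
    v ∈ sub2 a b hab hb ↔ ∃ k : ℤ, v = a ^ k ∨ v = b * a ^ k := Iff.rfl

/-- The powers of `a` indexed by `ZMod m`. -/
noncomputable def zpw {m : ℕ} (a : G) (ha : a ^ m = 1) : ZMod m →+ Additive G :=
  ZMod.lift m ⟨(zpowersHom G a).toAdditiveRight, by
    show Additive.ofMul (a ^ ((m : ℤ))) = 0
    rw [zpow_natCast, ha]; rfl⟩

theorem zpw_intCast {m : ℕ} (a : G) (ha : a ^ m = 1) (k : ℤ) :
    (zpw a ha (k : ZMod m)).toMul = a ^ k := by
  rw [zpw, ZMod.lift_coe]; rfl

/-- Lift of a dihedral relation to a homomorphism. -/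
noncomputable def dihLift {m : ℕ} (a b : G) (ha : a ^ m = 1) (hb : b * b = 1)
    (hab : b * a * b⁻¹ = a⁻¹) : DihedralGroup m →* G where
  toFun
    | .r i => (zpw a ha i).toMul
    | .sr i => b * (zpw a ha i).toMul
  map_one' := by
    show (zpw a ha (0 : ZMod m)).toMul = 1
    rw [map_zero]; rfl
  map_mul' := by
    rintro (i | i) (j | j) <;>
      obtain ⟨i, rfl⟩ := ZMod.intCast_surjective i <;>
      obtain ⟨j, rfl⟩ := ZMod.intCast_surjective j
    · rw [DihedralGroup.r_mul_r]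
      simp only [← Int.cast_add, zpw_intCast, zpow_add]
    · rw [DihedralGroup.r_mul_sr]
      simp only [← Int.cast_sub, zpw_intCast]
      calc b * a ^ (j - i) = b * a ^ (-i) * a ^ j := by rw [mul_assoc, ← zpow_add]; ring_nf
        _ = a ^ i * b * a ^ j := by rw [conj_zpow_inv hab, neg_neg]
        _ = _ := mul_assoc _ _ _
    · rw [DihedralGroup.sr_mul_r]
      simp only [← Int.cast_add, zpw_intCast, zpow_add, mul_assoc]
    · rw [DihedralGroup.sr_mul_sr]
      simp only [← Int.cast_sub, zpw_intCast]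
      calc a ^ (j - i) = (b * b) * a ^ (-i) * a ^ j := by
            rw [hb, one_mul, ← zpow_add]; ring_nf
        _ = b * (b * a ^ (-i)) * a ^ j := by group
        _ = b * (a ^ i * b) * a ^ j := by rw [conj_zpow_inv hab, neg_neg]
        _ = _ := by group

/-- Lift of a quaternion relation to a homomorphism. -/
noncomputable def quatLift {m : ℕ} (a b : G) (ha : a ^ (2 * m) = 1) (hb : b * b = a ^ m)
    (hab : b * a * b⁻¹ = a⁻¹) : QuaternionGroup m →* G where
  toFun
    | .a i => (zpw a ha i).toMul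
    | .xa i => b * (zpw a ha i).toMul
  map_one' := by
    show (zpw a ha (0 : ZMod (2 * m))).toMul = 1
    rw [map_zero]; rfl
  map_mul' := by
    rintro (i | i) (j | j) <;>
      obtain ⟨i, rfl⟩ := ZMod.intCast_surjective i <;>
      obtain ⟨j, rfl⟩ := ZMod.intCast_surjective j
    · rw [QuaternionGroup.a_mul_a]
      simp only [← Int.cast_add, zpw_intCast, zpow_add]
    · rw [QuaternionGroup.a_mul_xa]
      simp only [← Int.cast_sub, zpw_intCast]
      calc b * a ^ (j - i) = b * a ^ (-i) * a ^ j := by rw [mul_assoc, ← zpow_add]; ring_nf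
        _ = a ^ i * b * a ^ j := by rw [conj_zpow_inv hab, neg_neg]
        _ = _ := mul_assoc _ _ _
    · rw [QuaternionGroup.xa_mul_a]
      simp only [← Int.cast_add, zpw_intCast, zpow_add, mul_assoc]
    · rw [QuaternionGroup.xa_mul_xa]
      rw [show ((m : ZMod (2 * m))) = (((m : ℕ) : ℤ) : ZMod (2 * m)) from (Int.cast_natCast m).symm]
      simp only [← Int.cast_add, ← Int.cast_sub, zpw_intCast]
      calc a ^ ((m : ℤ) + j - i) = (b * b) * a ^ (-i) * a ^ j := by
            rw [hb, ← zpow_natCast, ← zpow_add, ← zpow_add]; ring_nf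
        _ = b * (b * a ^ (-i)) * a ^ j := by group
        _ = b * (a ^ i * b) * a ^ j := by rw [conj_zpow_inv hab, neg_neg]
        _ = _ := by group

theorem nonempty_equiv_dihedral {m : ℕ} [NeZero m] (a b : G) (ha : orderOf a = m)
    (hb : b * b = 1) (hab : b * a * b⁻¹ = a⁻¹) (hbn : ∀ k : ℤ, b ≠ a ^ k) (M : Subgroup G)
    (hM : ∀ v, v ∈ M ↔ ∃ k : ℤ, v = a ^ k ∨ v = b * a ^ k) :
    Nonempty (M ≃* DihedralGroup m) := by
  have hpow : a ^ m = 1 := ha ▸ pow_orderOf_eq_one a
  let f := dihLift a b hpow hb hab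
  have hr : ∀ k : ℤ, f (.r (k : ZMod m)) = a ^ k := fun k => zpw_intCast a hpow k
  have hsr : ∀ k : ℤ, f (.sr (k : ZMod m)) = b * a ^ k := fun k => by
    show b * (zpw a hpow (k : ZMod m)).toMul = _
    rw [zpw_intCast]
  have hinj : Function.Injective f := by
    rw [injective_iff_map_eq_one]
    rintro (i | i) <;> obtain ⟨i, rfl⟩ := ZMod.intCast_surjective i
    · intro h
      rw [hr, ← orderOf_dvd_iff_zpow_eq_one, ha, ← ZMod.intCast_zmod_eq_zero_iff_dvd] at h
      rw [h]; rfl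
    · intro h
      rw [hsr, mul_eq_one_iff_eq_inv, ← zpow_neg] at h
      exact absurd h (hbn _)
  have hrange : f.range = M := by
    ext v
    rw [hM]
    constructor
    · rintro ⟨(i | i), rfl⟩ <;> obtain ⟨i, rfl⟩ := ZMod.intCast_surjective i
      · exact ⟨i, Or.inl (hr i)⟩
      · exact ⟨i, Or.inr (hsr i)⟩
    · rintro ⟨k, rfl | rfl⟩
      · exact ⟨_, hr k⟩
      · exact ⟨_, hsr k⟩
  exact ⟨((MonoidHom.ofInjective hinj).trans (MulEquiv.subgroupCongr hrange)).symm⟩

theorem nonempty_equiv_quaternion {m : ℕ} [NeZero m] (a b : G) (ha : orderOf a = 2 * m)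
    (hb : b * b = a ^ m) (hab : b * a * b⁻¹ = a⁻¹) (hbn : ∀ k : ℤ, b ≠ a ^ k) (M : Subgroup G)
    (hM : ∀ v, v ∈ M ↔ ∃ k : ℤ, v = a ^ k ∨ v = b * a ^ k) :
    Nonempty (M ≃* QuaternionGroup m) := by
  have hpow : a ^ (2 * m) = 1 := ha ▸ pow_orderOf_eq_one a
  let f := quatLift a b hpow hb hab
  have hr : ∀ k : ℤ, f (.a (k : ZMod (2 * m))) = a ^ k := fun k => zpw_intCast a hpow k
  have hsr : ∀ k : ℤ, f (.xa (k : ZMod (2 * m))) = b * a ^ k := fun k => by
    show b * (zpw a hpow (k : ZMod (2 * m))).toMul = _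
    rw [zpw_intCast]
  have hinj : Function.Injective f := by
    rw [injective_iff_map_eq_one]
    rintro (i | i) <;> obtain ⟨i, rfl⟩ := ZMod.intCast_surjective i
    · intro h
      rw [hr, ← orderOf_dvd_iff_zpow_eq_one, ha, ← ZMod.intCast_zmod_eq_zero_iff_dvd] at h
      rw [h]; rfl
    · intro h
      rw [hsr, mul_eq_one_iff_eq_inv, ← zpow_neg] at h
      exact absurd h (hbn _)
  have hrange : f.range = M := by
    ext v
    rw [hM]
    constructor
    · rintro ⟨(i | i), rfl⟩ <;> obtain ⟨i, rfl⟩ := ZMod.intCast_surjective i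
      · exact ⟨i, Or.inl (hr i)⟩
      · exact ⟨i, Or.inr (hsr i)⟩
    · rintro ⟨k, rfl | rfl⟩
      · exact ⟨_, hr k⟩
      · exact ⟨_, hsr k⟩
  exact ⟨((MonoidHom.ofInjective hinj).trans (MulEquiv.subgroupCongr hrange)).symm⟩

/-- Number of conjugacy classes meeting a conjugation-invariant predicate, from representatives. -/
theorem card_classes {ι : Type*} (P : G → Prop) (rep : ι → G) (hP : ∀ i, P (rep i))
    (hinj : ∀ i j, IsConj (rep i) (rep j) → i = j)
    (hcov : ∀ t, P t → ∃ i, IsConj t (rep i)) :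
    Nat.card {C : ConjClasses G // ∃ t : G, P t ∧ ConjClasses.mk t = C} = Nat.card ι := by
  refine (Nat.card_eq_of_bijective
    (fun i => (⟨ConjClasses.mk (rep i), rep i, hP i, rfl⟩ :
      {C : ConjClasses G // ∃ t : G, P t ∧ ConjClasses.mk t = C})) ⟨?_, ?_⟩).symm
  · intro i j h
    exact hinj i j (ConjClasses.mk_eq_mk_iff_isConj.mp (congrArg Subtype.val h))
  · rintro ⟨C, t, ht, rfl⟩
    obtain ⟨i, hi⟩ := hcov t ht
    exact ⟨i, Subtype.ext (ConjClasses.mk_eq_mk_iff_isConj.mpr hi.symm)⟩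

theorem card_classes_one (P : G → Prop) (a : G) (ha : P a) (hcov : ∀ t, P t → IsConj t a) :
    Nat.card {C : ConjClasses G // ∃ t : G, P t ∧ ConjClasses.mk t = C} = 1 := by
  rw [card_classes P (fun _ : Unit => a) (fun _ => ha) (fun _ _ _ => rfl)
    (fun t ht => ⟨(), hcov t ht⟩), Nat.card_unique]

theorem card_classes_two (P : G → Prop) (a b : G) (ha : P a) (hb : P b) (hab : ¬ IsConj a b)
    (hcov : ∀ t, P t → IsConj t a ∨ IsConj t b) :
    Nat.card {C : ConjClasses G // ∃ t : G, P t ∧ ConjClasses.mk t = C} = 2 := by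
  rw [card_classes P ![a, b] (Fin.forall_fin_two.mpr ⟨ha, hb⟩) ?_ ?_, Nat.card_fin]
  · intro i j h
    fin_cases i <;> fin_cases j
    · rfl
    · exact absurd h hab
    · exact absurd h.symm hab
    · rfl
  · intro t ht
    exact (hcov t ht).elim (fun h => ⟨0, h⟩) (fun h => ⟨1, h⟩)

theorem card_classes_three (P : G → Prop) (a b c : G) (ha : P a) (hb : P b) (hc : P c)
    (hab : ¬ IsConj a b) (hac : ¬ IsConj a c) (hbc : ¬ IsConj b c)
    (hcov : ∀ t, P t → IsConj t a ∨ IsConj t b ∨ IsConj t c) :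
    Nat.card {C : ConjClasses G // ∃ t : G, P t ∧ ConjClasses.mk t = C} = 3 := by
  rw [card_classes P ![a, b, c] (fun i => by fin_cases i <;> assumption) ?_ ?_, Nat.card_fin]
  · intro i j h
    fin_cases i <;> fin_cases j
    · rfl
    · exact absurd h hab
    · exact absurd h hac
    · exact absurd h.symm hab
    · rfl
    · exact absurd h hbc
    · exact absurd h.symm hac
    · exact absurd h.symm hbc
    · rfl
  · intro t ht
    rcases hcov t ht with h | h | h
    · exact ⟨0, h⟩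
    · exact ⟨1, h⟩
    · exact ⟨2, h⟩

/-- In a commuting pair of distinct involutions, conjugation sends a four-group description along. -/
theorem eq_of_forall_mem_iff {A B : Subgroup G} {P : G → Prop} (hA : ∀ v, v ∈ A ↔ P v)
    (hB : ∀ v, v ∈ B ↔ P v) : A = B :=
  SetLike.ext fun v => (hA v).trans (hB v).symm

theorem relIndex_eq_two_of {H N : Subgroup G} (a : G) (ha : a ∈ N)
    (h : ∀ v ∈ N, Xor (v * a ∈ H) (v ∈ H)) : H.relIndex N = 2 := by
  rw [Subgroup.relIndex, Subgroup.index_eq_two_iff]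
  exact ⟨⟨a, ha⟩, fun v => h v.1 v.2⟩

theorem mem_map_conj {A : Subgroup G} {g v : G} :
    v ∈ A.map (MulAut.conj g).toMonoidHom ↔ g⁻¹ * v * g ∈ A := by
  rw [Subgroup.map_equiv_eq_comap_symm', Subgroup.mem_comap]
  simp

theorem map_conj_mul (A : Subgroup G) (g h : G) :
    A.map (MulAut.conj (g * h)).toMonoidHom =
      (A.map (MulAut.conj h).toMonoidHom).map (MulAut.conj g).toMonoidHom := by
  rw [Subgroup.map_map, map_mul]; rfl

end Cfsg.Agent.TwoFusion36
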