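import Mathlib

/-!
# Automorphisms stabilising a chain of a 2-group are 2-elements (helper36)
-/

set_option linter.unusedSectionVars false

namespace Cfsg.Agent.TwoFusion36

variable {X : Type*} [Group X]

/-- Some 2-power of `α` fixes `A` pointwise. -/
def EvFix (α : MulAut X) (A : Subgroup X) : Prop := ∃ t : ℕ, ∀ v ∈ A, (α ^ 2 ^ t) v = v

theorem mulAut_pow_succ_apply (β : MulAut X) (k : ℕ) (u : X) :
    (β ^ (k + 1)) u = (β ^ k) (β u) := by
  rw [pow_succ]; rfl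

theorem mulAut_pow_mem {α : MulAut X} {B : Subgroup X} (hB : ∀ v ∈ B, α v ∈ B) :
    ∀ (k : ℕ), ∀ v ∈ B, (α ^ k) v ∈ B := by
  intro k
  induction k with
  | zero => intro v hv; simpa using hv
  | succ k ih => intro v hv; rw [mulAut_pow_succ_apply]; exact ih _ (hB v hv)

theorem EvFix.step {α : MulAut X} {A B : Subgroup X} (hX : IsPGroup 2 X)
    (hB : ∀ v ∈ B, α v ∈ B) (hpair : ∀ u ∈ B, ∀ v ∈ B, u ∉ A → v ∉ A → u⁻¹ * v ∈ A)
    (hA : EvFix α A) : EvFix α B := by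
  obtain ⟨t, ht⟩ := hA
  by_cases hBA : B ≤ A
  · exact ⟨t, fun v hv => ht v (hBA hv)⟩
  obtain ⟨u, hu, huA⟩ := SetLike.not_le_iff_exists.mp hBA
  set β := α ^ 2 ^ t with hβ
  have hbu : β u ∉ A := fun h => huA (by
    have := β.injective (ht _ h)
    rwa [this] at h)
  have ha := hpair u hu (β u) (mulAut_pow_mem hB _ u hu) huA hbu
  set a := u⁻¹ * β u with hadef
  obtain ⟨s, hs⟩ := hX a
  have hk : ∀ k : ℕ, (β ^ k) u = u * a ^ k := by
    intro k
    induction k with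
    | zero => simp
    | succ k ih =>
      have hfix : ∀ w ∈ A, (β ^ k) w = w := by
        intro w hw
        clear ih
        induction k with
        | zero => simp
        | succ k ih2 => rw [mulAut_pow_succ_apply, ht w hw]; exact ih2
      rw [mulAut_pow_succ_apply, show β u = u * a by rw [hadef]; group, map_mul, hfix a ha, ih,
        pow_succ, mul_assoc]
  refine ⟨t + s, fun v hv => ?_⟩
  rw [pow_add, pow_mul, ← hβ]
  have hfix : ∀ k : ℕ, ∀ w ∈ A, (β ^ k) w = w := by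
    intro k w hw
    induction k with
    | zero => simp
    | succ k ih2 => rw [mulAut_pow_succ_apply, ht w hw]; exact ih2
  by_cases hvA : v ∈ A
  · exact hfix _ v hvA
  · have h2 := hpair u hu v hv huA hvA
    have e : v = u * (u⁻¹ * v) := by group
    rw [e, map_mul, hfix _ _ h2, hk, hs, mul_one]

/-- The subgroup `A⟨g^k⟩` for `g` centralising `A`. -/
def joinPow (A : Subgroup X) (g : X) (hc : ∀ a ∈ A, Commute a g) (k : ℤ) : Subgroup X where
  carrier := {v | ∃ a ∈ A, ∃ i : ℤ, v = a * g ^ (k * i)}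
  one_mem' := ⟨1, A.one_mem, 0, by simp⟩
  mul_mem' := by
    rintro _ _ ⟨a, ha, i, rfl⟩ ⟨b, hb, j, rfl⟩
    refine ⟨a * b, mul_mem ha hb, i + j, ?_⟩
    rw [mul_add, zpow_add, mul_assoc, ← mul_assoc (g ^ (k * i)),
      ((hc b hb).zpow_right (k * i)).symm.eq]
    group
  inv_mem' := by
    rintro _ ⟨a, ha, i, rfl⟩
    refine ⟨a⁻¹, inv_mem ha, -i, ?_⟩
    rw [((hc a ha).zpow_right (k * i)).eq, mul_inv_rev, mul_neg, zpow_neg]

theorem EvFix.cyclic {α : MulAut X} {A B : Subgroup X} (hX : IsPGroup 2 X)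
    (hAinv : ∀ v ∈ A, α v ∈ A) (hB : ∀ v ∈ B, α v ∈ B) {g : X} (hg : g ∈ B)
    (hc : ∀ a ∈ A, Commute a g) (hgen : ∀ v ∈ B, ∃ a ∈ A, ∃ i : ℤ, v = a * g ^ i)
    (hA : EvFix α A) : EvFix α B := by
  obtain ⟨m, hm⟩ := hX g
  obtain ⟨a', ha', r, hr⟩ := hgen _ (hB g hg)
  have hinv : ∀ j : ℕ, ∀ v ∈ joinPow A g hc ((2 ^ j : ℕ) : ℤ),
      α v ∈ joinPow A g hc ((2 ^ j : ℕ) : ℤ) := by
    rintro j _ ⟨a, ha, i, rfl⟩
    rw [map_mul]
    refine mul_mem ⟨α a, hAinv a ha, 0, by simp⟩ ?_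
    refine ⟨a' ^ (((2 ^ j : ℕ) : ℤ) * i), zpow_mem ha' _, r * i, ?_⟩
    rw [map_zpow, hr, ((hc a' ha').zpow_right r).mul_zpow, ← zpow_mul]
    ring_nf
  have key : ∀ d : ℕ, d ≤ m → EvFix α (joinPow A g hc ((2 ^ (m - d) : ℕ) : ℤ)) := by
    intro d
    induction d with
    | zero =>
      intro _
      obtain ⟨t, ht⟩ := hA
      refine ⟨t, ?_⟩
      rintro _ ⟨a, ha, i, rfl⟩
      rw [Nat.sub_zero, zpow_mul, zpow_natCast, hm, one_zpow, mul_one]
      exact ht a ha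
    | succ d ih =>
      intro hd
      refine EvFix.step hX (hinv _) ?_ (ih (by omega))
      rintro _ ⟨a, ha, i, rfl⟩ _ ⟨b, hb, j, rfl⟩ hu hv
      have hpow : ((2 ^ (m - d) : ℕ) : ℤ) = 2 * ((2 ^ (m - (d + 1)) : ℕ) : ℤ) := by
        rw [show m - d = (m - (d + 1)) + 1 by omega, pow_succ]; push_cast; ring
      rw [hpow] at hu hv ⊢
      generalize ((2 ^ (m - (d + 1)) : ℕ) : ℤ) = K at hu hv ⊢
      have hodd : ∀ (a : X) (i : ℤ), a ∈ A → a * g ^ (K * i) ∉ joinPow A g hc (2 * K) → Odd i := by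
        intro a i ha hn
        rcases Int.even_or_odd' i with ⟨l, rfl | rfl⟩
        · exact absurd ⟨a, ha, l, by ring_nf⟩ hn
        · exact ⟨l, rfl⟩
      obtain ⟨p, hp⟩ := hodd a i ha hu
      obtain ⟨q, hq⟩ := hodd b j hb hv
      refine ⟨a⁻¹ * b, mul_mem (inv_mem ha) hb, q - p, ?_⟩
      subst hp hq
      rw [((hc a ha).zpow_right (K * (2 * p + 1))).eq, mul_inv_rev, mul_assoc,
        ← mul_assoc _ b, ← zpow_neg, ((hc b hb).zpow_right (-(K * (2 * p + 1)))).symm.eq]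
      rw [mul_assoc b, ← zpow_add, ← mul_assoc]
      ring_nf
  obtain ⟨t, ht⟩ := key m le_rfl
  refine ⟨t, fun v hv => ht v ?_⟩
  obtain ⟨a, ha, i, rfl⟩ := hgen v hv
  exact ⟨a, ha, i, by simp⟩

/-- An invariant cyclic subgroup is eventually fixed. -/
theorem EvFix.of_cyclic {α : MulAut X} {B : Subgroup X} (hX : IsPGroup 2 X)
    (hB : ∀ v ∈ B, α v ∈ B) {g : X} (hg : g ∈ B) (hgen : ∀ v ∈ B, ∃ i : ℤ, v = g ^ i) :
    EvFix α B :=
  EvFix.cyclic (A := ⊥) hX (fun v hv => by rw [Subgroup.mem_bot] at hv ⊢; rw [hv, map_one]) hB hg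
    (fun a ha => by rw [Subgroup.mem_bot] at ha; rw [ha]; exact Commute.one_left g)
    (fun v hv => by obtain ⟨i, hi⟩ := hgen v hv; exact ⟨1, one_mem _, i, by rw [one_mul]; exact hi⟩)
    ⟨0, fun v hv => by rw [Subgroup.mem_bot] at hv; rw [hv, map_one]⟩

theorem isPGroup_mulAut_of_evFix (h : ∀ α : MulAut X, EvFix α ⊤) : IsPGroup 2 (MulAut X) := by
  intro α
  obtain ⟨t, ht⟩ := h α
  exact ⟨t, MulEquiv.ext fun v => ht v trivial⟩

end Cfsg.Agent.TwoFusion36
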