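import Cfsg.Agent.TwoFusion36.WreathedSub
import Cfsg.Agent.TwoFusion36.AutTwo

/-!
# Automorphism groups of subgroups of the wreathed group (helper36)
-/

set_option linter.unusedSectionVars false

namespace Cfsg.Agent.TwoFusion36.IsWr

variable {G : Type*} [Group G] [Finite G] {S : Subgroup G} {f : ℕ} {x y z : G}
  (D : IsWr S f x y z)
include D

theorem isPGroup_S : IsPGroup 2 S := by
  obtain ⟨k, hk⟩ := D.hpow
  exact IsPGroup.of_card (n := 2 * k + 5) (by rw [D.card, hk]; ring)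

theorem dsub_nc {d : ℕ} {a : ℤ} (hd : (d : ℤ) ∣ (4 * f : ℤ)) (h : ¬ (4 * f : ℤ) ∣ d) :
    ¬ IsMulCommutative (D.dsub (d : ℤ) a) := by
  intro hc
  have hu : x ^ (d : ℤ) * y ^ (0 : ℤ) ∈ D.dsub (d : ℤ) a := (D.u_mem_dsub hd).mpr (by simp)
  have hv : x ^ a * y ^ (0 : ℤ) * z ∈ D.dsub (d : ℤ) a := (D.v_mem_dsub hd).mpr (by simp)
  have := D.commute_u_v.mp (congrArg Subtype.val (hc.is_comm.comm ⟨_, hu⟩ ⟨_, hv⟩))
  rw [sub_zero] at this
  exact h this

theorem diag_mem_dsub {d : ℤ} {a : ℤ} (hd : d ∣ (4 * f : ℤ)) (t : ℤ) :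
    x ^ t * y ^ t ∈ D.dsub d a := (D.u_mem_dsub hd).mpr (by simp)

/-- Unless it is a conjugate of `Q₈ Z(S)`, a subgroup above the centre and outside the abelian
maximal subgroup has a 2-group of automorphisms. -/
theorem isPGroup_mulAut {d : ℕ} {a : ℤ} (hd : (d : ℤ) ∣ (4 * f : ℤ))
    (hne : ¬ (d = 2 * f ∧ 2 ∣ a)) : IsPGroup 2 (MulAut (D.dsub (d : ℤ) a)) := by
  set X := D.dsub (d : ℤ) a with hXdef
  have hXS : X ≤ S := D.dsub_le _ _
  have hX2 : IsPGroup 2 X := D.isPGroup_S.to_le hXS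
  apply isPGroup_mulAut_of_evFix
  intro α
  let g₀ : X := ⟨x ^ (1 : ℤ) * y ^ (1 : ℤ), D.diag_mem_dsub hd 1⟩
  have hg₀ : ∀ t : ℤ, ((g₀ ^ t : X) : G) = x ^ t * y ^ t := by
    intro t
    show (x ^ (1 : ℤ) * y ^ (1 : ℤ)) ^ t = _
    rw [(D.comm.zpow_zpow 1 1).mul_zpow, ← zpow_mul, ← zpow_mul, one_mul]
  let Z : Subgroup X := Subgroup.zpowers g₀
  have hZmem : ∀ v : X, v ∈ Z ↔ ∃ t : ℤ, (v : G) = x ^ t * y ^ t := by
    intro v
    show v ∈ Subgroup.zpowers g₀ ↔ _
    rw [Subgroup.mem_zpowers_iff]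
    exact ⟨fun ⟨t, ht⟩ => ⟨t, by rw [← ht, hg₀]⟩,
      fun ⟨t, ht⟩ => ⟨t, Subtype.ext (by rw [hg₀, ht])⟩⟩
  have hcases : ∀ v : X, ∃ i j : ℤ, ((v : G) = x ^ i * y ^ j ∧ (d : ℤ) ∣ i - j) ∨
      ((v : G) = x ^ i * y ^ j * z ∧ (d : ℤ) ∣ i - j - a) := fun v => v.2
  rcases D.dvd_cases hd with hdf | hd2 | hd4
  -- first the case `d ∣ f`
  · have hfd : (d : ℤ) ∣ (f : ℤ) := by exact_mod_cast hdf
    have hnd : ¬ (4 * f : ℤ) ∣ 2 * d := by
      intro h
      have := Int.le_of_dvd (by have := Nat.pos_of_dvd_of_pos hdf (by have := D.one_le; omega); omega) h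
      have := Nat.le_of_dvd (by have := D.one_le; omega) hdf
      have := D.one_le
      omega
    have hcen : Subgroup.center X = Z := by
      apply le_antisymm
      · intro v hv
        have hnc := D.dsub_nc (a := a) hd fun h => hnd (Dvd.dvd.mul_left h 2)
        exact (hZmem v).mpr (D.mem_diag.mp (D.center_le_diag hXS hnc ⟨v, hv, rfl⟩))
      · intro v hv
        obtain ⟨t, ht⟩ := (hZmem v).mp hv
        rw [Subgroup.mem_center_iff]
        intro w
        apply Subtype.ext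
        show (w : G) * v = v * w
        rw [ht]
        exact (D.diag_comm t (hXS w.2)).eq.symm
    have hZinv : ∀ v ∈ Z, α v ∈ Z := by
      intro v hv
      rw [← hcen] at hv ⊢
      exact Subgroup.mem_center_iff.mpr fun w => by
        obtain ⟨w, rfl⟩ := α.surjective w
        rw [← map_mul, ← map_mul, Subgroup.mem_center_iff.mp hv w]
    let B : Subgroup X := Subgroup.closure {v : X | v * v ∉ Subgroup.center X}
    have hBinv : ∀ v ∈ B, α v ∈ B := by
      intro v hv
      refine Subgroup.closure_induction (fun w hw => Subgroup.subset_closure ?_)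
        (by rw [map_one]; exact B.one_mem) (fun u w _ _ hu hw => by rw [map_mul]; exact mul_mem hu hw)
        (fun u _ hu => by rw [map_inv]; exact inv_mem hu) hv
      intro h
      refine hw (Subgroup.mem_center_iff.mpr fun u => ?_)
      apply α.injective
      rw [map_mul α u, map_mul α _ u, map_mul α w w]
      exact Subgroup.mem_center_iff.mp h (α u)
    let g : X := ⟨x ^ (d : ℤ) * y ^ (0 : ℤ), (D.u_mem_dsub hd).mpr (by simp)⟩
    have hgdiag : ∀ t : ℤ, ¬ (g * g₀ ^ t) * (g * g₀ ^ t) ∈ Subgroup.center X := by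
      intro t h
      rw [hcen, hZmem] at h
      obtain ⟨p, hp⟩ := h
      simp only [Subgroup.coe_mul, hg₀, g, D.u_mul] at hp
      obtain ⟨h1, h2⟩ := D.u_congr.mp hp
      have := dvd_sub h1 h2
      rw [show (d : ℤ) + t + (d + t) - p - (0 + t + (0 + t) - p) = 2 * d by ring] at this
      exact hnd this
    have hgB : g ∈ B := by
      simpa using (Subgroup.subset_closure (hgdiag 0) : g * g₀ ^ (0 : ℤ) ∈ B)
    have hBU : ∀ v ∈ B, (v : G) ∈ D.abel := by
      intro v hv
      refine Subgroup.closure_induction (fun w hw => ?_) (one_mem _)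
        (fun u w _ _ hu hw => mul_mem hu hw) (fun u _ hu => inv_mem hu) hv
      obtain ⟨i, j, ⟨h, -⟩ | ⟨h, -⟩⟩ := hcases w
      · exact ⟨i, j, h⟩
      · refine absurd ?_ hw
        rw [hcen, hZmem]
        exact ⟨i + j, by rw [Subgroup.coe_mul, h, D.v_sq]⟩
    have hBgen : ∀ v ∈ B, ∃ w ∈ Z, ∃ i : ℤ, v = w * g ^ i := by
      intro v hv
      obtain ⟨i, j, ⟨h, hij⟩ | ⟨h, -⟩⟩ := hcases v
      · obtain ⟨p, hp⟩ := hij
        refine ⟨g₀ ^ j, Subgroup.zpow_mem _ (Subgroup.mem_zpowers g₀) j, p, Subtype.ext ?_⟩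
        rw [Subgroup.coe_mul, hg₀, Subgroup.coe_zpow, h]
        show _ = _ * (x ^ (d : ℤ) * y ^ (0 : ℤ)) ^ p
        rw [zpow_zero, mul_one, ← zpow_mul, show x ^ ((d : ℤ) * p) = x ^ ((d : ℤ) * p) * y ^ (0 : ℤ) by simp,
          D.u_mul]
        refine D.u_eq_of 0 0 ?_ ?_ <;> linarith
      · exact absurd (h ▸ hBU v hv) (D.v_notMem_abel i j)
    have hZB : EvFix α B := by
      refine EvFix.cyclic hX2 hZinv hBinv hgB ?_ hBgen
        (EvFix.of_cyclic hX2 hZinv (Subgroup.mem_zpowers g₀) fun v hv => by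
          obtain ⟨i, hi⟩ := Subgroup.mem_zpowers_iff.mp hv; exact ⟨i, hi.symm⟩)
      intro w hw
      rw [← hcen] at hw
      exact (Subgroup.mem_center_iff.mp hw g).symm
    refine hZB.step hX2 (fun v _ => trivial) fun u _ v _ hu hv => ?_
    have hall : ∀ w : X, w ∉ B → ∃ i j : ℤ, (w : G) = x ^ i * y ^ j * z := by
      intro w hw
      obtain ⟨i, j, ⟨h, hij⟩ | ⟨h, -⟩⟩ := hcases w
      · refine absurd ?_ hw
        obtain ⟨p, hp⟩ := hij
        have hw' : w = g ^ p * g₀ ^ j := Subtype.ext (by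
          rw [Subgroup.coe_mul, hg₀, Subgroup.coe_zpow, h]
          show _ = (x ^ (d : ℤ) * y ^ (0 : ℤ)) ^ p * _
          rw [zpow_zero, mul_one, ← zpow_mul, ← mul_assoc, ← zpow_add,
            show (d : ℤ) * p + j = i by linarith])
        rw [hw']
        refine mul_mem (zpow_mem hgB p) ?_
        have h1 : g * g₀ ^ j ∈ B := Subgroup.subset_closure (hgdiag j)
        simpa using mul_mem (inv_mem hgB) h1
      · exact ⟨i, j, h⟩
    obtain ⟨i, j, hi⟩ := hall u hu
    obtain ⟨k, l, hk⟩ := hall v hv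
    by_contra hcon
    obtain ⟨p, q, hp⟩ := hall _ hcon
    rw [Subgroup.coe_mul, Subgroup.coe_inv, hi, hk, D.v_inv, D.v_mul_v] at hp
    exact D.u_ne_v _ _ _ _ hp
  -- the case `d = 2 f`, where `a` is odd
  · have ha : ¬ (2 : ℤ) ∣ a := fun h => hne ⟨hd2, h⟩
    have hd' : (d : ℤ) = 2 * f := by rw [hd2]; push_cast; ring
    have hcen : Subgroup.center X = Z := by
      apply le_antisymm
      · intro v hv
        have hnc := D.dsub_nc (a := a) hd (by rw [hd']; exact D.not_dvd_half)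
        exact (hZmem v).mpr (D.mem_diag.mp (D.center_le_diag hXS hnc ⟨v, hv, rfl⟩))
      · intro v hv
        obtain ⟨t, ht⟩ := (hZmem v).mp hv
        rw [Subgroup.mem_center_iff]
        intro w
        apply Subtype.ext
        show (w : G) * v = v * w
        rw [ht]
        exact (D.diag_comm t (hXS w.2)).eq.symm
    have hZinv : ∀ v ∈ Z, α v ∈ Z := by
      intro v hv
      rw [← hcen] at hv ⊢
      exact Subgroup.mem_center_iff.mpr fun w => by
        obtain ⟨w, rfl⟩ := α.surjective w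
        rw [← map_mul, ← map_mul, Subgroup.mem_center_iff.mp hv w]
    have hkey : ∀ v : X, (v : G) ∈ D.abel ↔ v ^ (4 * f) = 1 := by
      intro v
      obtain ⟨i, j, ⟨h, -⟩ | ⟨h, hij⟩⟩ := hcases v
      · refine iff_of_true ⟨i, j, h⟩ (Subtype.ext ?_)
        rw [Subgroup.coe_pow, h, ← zpow_natCast, (D.comm.zpow_zpow i j).mul_zpow, ← zpow_mul,
          ← zpow_mul, Subgroup.coe_one, D.u_eq_one]
        exact ⟨⟨i, by push_cast; ring⟩, ⟨j, by push_cast; ring⟩⟩
      · refine iff_of_false (h ▸ D.v_notMem_abel i j) fun hv => ha ?_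
        have h1 := congrArg Subtype.val hv
        rw [Subgroup.coe_pow, h, show 4 * f = 2 * (2 * f) by ring, pow_mul, sq, D.v_sq, ← D.xy_zpow,
          ← zpow_natCast, ← zpow_mul, D.xy_zpow, Subgroup.coe_one, D.u_eq_one] at h1
        obtain ⟨⟨p, hp⟩, -⟩ := h1
        obtain ⟨q, hq⟩ := hij
        rw [hd'] at hq
        have h2 : (2 * f : ℤ) * (i + j) = (2 * f) * (2 * p) := by push_cast at hp; linarith
        have h3 := mul_left_cancel₀ (mul_ne_zero two_ne_zero D.f_ne) h2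
        exact ⟨p - j - f * q, by linarith⟩
    have hB : EvFix α (D.abel.subgroupOf X) := by
      refine EvFix.step (A := Z) hX2 (fun v hv => ?_) ?_ (EvFix.of_cyclic hX2 hZinv
        (Subgroup.mem_zpowers g₀) fun v hv => by
          obtain ⟨i, hi⟩ := Subgroup.mem_zpowers_iff.mp hv; exact ⟨i, hi.symm⟩)
      · rw [Subgroup.mem_subgroupOf, hkey] at hv ⊢
        rw [← map_pow, hv, map_one]
      · intro u hu v hv huZ hvZ
        have hodd : ∀ w : X, (w : G) ∈ D.abel → w ∉ Z →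
            ∃ i j l : ℤ, (w : G) = x ^ i * y ^ j ∧ i - j = 2 * f * (2 * l + 1) := by
          intro w hw hwZ
          obtain ⟨i, j, ⟨h, p, hp⟩ | ⟨h, -⟩⟩ := hcases w
          · rw [hd'] at hp
            rcases Int.even_or_odd' p with ⟨l, rfl | rfl⟩
            · exact absurd ((hZmem w).mpr ⟨i, h.trans (D.diag_of_dvd ⟨l, by linarith⟩)⟩) hwZ
            · exact ⟨i, j, l, h, hp⟩
          · exact absurd (h ▸ hw) (D.v_notMem_abel i j)
        obtain ⟨i, j, l, h1, h1'⟩ := hodd u hu huZ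
        obtain ⟨p, q, m, h2, h2'⟩ := hodd v hv hvZ
        rw [hZmem]
        refine ⟨-i + p, ?_⟩
        rw [Subgroup.coe_mul, Subgroup.coe_inv, h1, h2, D.u_inv, D.u_mul]
        exact D.diag_of_dvd ⟨m - l, by linarith⟩
    refine hB.step hX2 (fun v _ => trivial) fun u _ v _ hu hv => ?_
    obtain ⟨i, j, ⟨h1, -⟩ | ⟨h1, -⟩⟩ := hcases u
    · exact absurd (show (u : G) ∈ D.abel from ⟨i, j, h1⟩) hu
    obtain ⟨p, q, ⟨h2, -⟩ | ⟨h2, -⟩⟩ := hcases v
    · exact absurd (show (v : G) ∈ D.abel from ⟨p, q, h2⟩) hv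
    rw [Subgroup.mem_subgroupOf, Subgroup.coe_mul, Subgroup.coe_inv, h1, h2, D.v_inv, D.v_mul_v]
    exact ⟨_, _, rfl⟩
  -- the case `d = 4 f`: `X` is abelian
  · have hd' : (d : ℤ) = 4 * f := by rw [hd4]; push_cast; ring
    have hform : ∀ v : X, (∃ t : ℤ, (v : G) = x ^ t * y ^ t) ∨ ∃ i j : ℤ,
        (v : G) = x ^ i * y ^ j * z ∧ (4 * f : ℤ) ∣ i - j - a := by
      intro v
      obtain ⟨i, j, ⟨h, hij⟩ | ⟨h, hij⟩⟩ := hcases v
      · exact Or.inl ⟨i, h.trans (D.diag_of_dvd (hd' ▸ hij))⟩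
      · exact Or.inr ⟨i, j, h, hd' ▸ hij⟩
    have hpowv : ∀ (i j : ℤ) (m : ℕ), (x ^ i * y ^ j * z) ^ (2 * m) =
        x ^ ((i + j) * m) * y ^ ((i + j) * m) := by
      intro i j m
      rw [pow_mul, sq, D.v_sq, ← D.xy_zpow, ← zpow_natCast, ← zpow_mul, D.xy_zpow]
    have hpowd : ∀ (t : ℤ) (m : ℕ), (x ^ t * y ^ t) ^ m = x ^ (t * m) * y ^ (t * m) := by
      intro t m
      rw [← D.xy_zpow, ← zpow_natCast, ← zpow_mul, D.xy_zpow]
    have hcomm : ∀ u v : X, u * v = v * u := by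
      intro u v
      apply Subtype.ext
      show (u : G) * v = v * u
      rcases hform u with ⟨t, ht⟩ | ⟨i, j, hi, hij⟩
      · rw [ht]; exact (D.diag_comm t (hXS v.2)).eq
      rcases hform v with ⟨t, ht⟩ | ⟨p, q, hp, hpq⟩
      · rw [ht]; exact (D.diag_comm t (hXS u.2)).eq.symm
      rw [hi, hp, D.v_mul_v, D.v_mul_v, D.u_congr]
      have := dvd_sub hij hpq
      rw [show i - j - a - (p - q - a) = i + q - (p + j) by ring] at this
      exact ⟨this, by rw [show j + p - (q + i) = -(i + q - (p + j)) by ring]; exact dvd_neg.mpr this⟩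
    rcases Int.even_or_odd' a with ⟨h0, ha0 | ha0⟩
    · -- `a` even: squares, then elements of order dividing `2 f`
      let A : Subgroup X :=
        { carrier := {v | ∃ u : X, v = u * u}
          one_mem' := ⟨1, (one_mul 1).symm⟩
          mul_mem' := by
            rintro _ _ ⟨u, rfl⟩ ⟨w, rfl⟩
            exact ⟨u * w, ((show Commute w u from hcomm w u).mul_mul_mul_comm u w).symm⟩
          inv_mem' := by rintro _ ⟨u, rfl⟩; exact ⟨u⁻¹, mul_inv_rev u u⟩ }
      let g₁ : X := g₀ * g₀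
      have hA : EvFix α A := by
        refine EvFix.of_cyclic hX2 (fun v ⟨u, hu⟩ => ⟨α u, by rw [hu, map_mul]⟩) (g := g₁)
          ⟨g₀, rfl⟩ ?_
        rintro _ ⟨u, rfl⟩
        have hg₁ : ∀ m : ℤ, ((g₁ ^ m : X) : G) = x ^ (2 * m) * y ^ (2 * m) := by
          intro m
          have e : g₁ = g₀ ^ (2 : ℤ) := (zpow_two g₀).symm
          rw [e, ← zpow_mul, hg₀]
        rcases hform u with ⟨t, ht⟩ | ⟨i, j, hi, p, hp⟩
        · exact ⟨t, Subtype.ext (by rw [hg₁, Subgroup.coe_mul, ht, D.u_mul, ← two_mul])⟩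
        · refine ⟨j + h0 + 2 * f * p, Subtype.ext ?_⟩
          rw [hg₁, Subgroup.coe_mul, hi, D.v_sq,
            show i + j = 2 * (j + h0 + 2 * f * p) by linarith]
      let B : Subgroup X :=
        { carrier := {v | v ^ (2 * f) = 1}
          one_mem' := one_pow _
          mul_mem' := fun {u w} hu hw => by
            show (u * w) ^ (2 * f) = 1
            rw [(show Commute u w from hcomm u w).mul_pow, hu, hw, one_mul]
          inv_mem' := fun {u} hu => by
            show u⁻¹ ^ (2 * f) = 1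
            rw [inv_pow, hu, inv_one] }
      have hB : EvFix α B := by
        refine hA.step hX2 (fun v (hv : v ^ (2 * f) = 1) => ?_) ?_
        · show α v ^ (2 * f) = 1
          rw [← map_pow, hv, map_one]
        · intro u (hu : u ^ (2 * f) = 1) v (hv : v ^ (2 * f) = 1) huA hvA
          have hout : ∀ w : X, w ^ (2 * f) = 1 → w ∉ A → ∃ i j p q : ℤ,
              (w : G) = x ^ i * y ^ j * z ∧ i - j - a = 4 * f * p ∧ i + j = 4 * q := by
            intro w hw hwA
            have hw' := congrArg Subtype.val hw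
            rw [Subgroup.coe_pow, Subgroup.coe_one] at hw'
            rcases hform w with ⟨t, ht⟩ | ⟨i, j, hi, p, hp⟩
            · exfalso
              rw [ht, hpowd, D.u_eq_one] at hw'
              obtain ⟨⟨m, hm⟩, -⟩ := hw'
              have h2 : (2 * f : ℤ) * t = (2 * f) * (2 * m) := by push_cast at hm; linarith
              have h3 := mul_left_cancel₀ (mul_ne_zero two_ne_zero D.f_ne) h2
              exact hwA ⟨g₀ ^ m, Subtype.ext (by
                rw [← zpow_add, hg₀, ht, h3, two_mul])⟩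
            · rw [hi, hpowv, D.u_eq_one] at hw'
              obtain ⟨⟨q, hq⟩, -⟩ := hw'
              have h2 : (f : ℤ) * (i + j) = f * (4 * q) := by linarith
              exact ⟨i, j, p, q, hi, hp, mul_left_cancel₀ D.f_ne h2⟩
          obtain ⟨i, j, p, q, hi, hp, hq⟩ := hout u hu huA
          obtain ⟨i', j', p', q', hi', hp', hq'⟩ := hout v hv hvA
          refine ⟨g₀ ^ (q' - q + f * (p' - p)), Subtype.ext ?_⟩
          rw [← zpow_add, hg₀, Subgroup.coe_mul, Subgroup.coe_inv, hi, hi', D.v_inv, D.v_mul_v]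
          exact D.u_eq_of (p - p') 0 (by linarith) (by linarith)
      refine hB.step hX2 (fun v _ => trivial) ?_
      intro u _ v _ hu hv
      have hval : ∀ w : X, w ∉ B → ((w ^ (2 * f) : X) : G) = x ^ (2 * f : ℤ) * y ^ (2 * f : ℤ) := by
        intro w hw
        have hne1 : ((w : G)) ^ (2 * f) ≠ 1 := fun h => hw (Subtype.ext (by simpa using h))
        rw [Subgroup.coe_pow]
        rcases hform w with ⟨t, ht⟩ | ⟨i, j, hi, p, hp⟩
        · rw [ht, hpowd] at hne1 ⊢
          rcases Int.even_or_odd' t with ⟨m, rfl | rfl⟩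
          · exact absurd (D.u_eq_one.mpr ⟨⟨m, by push_cast; ring⟩, ⟨m, by push_cast; ring⟩⟩) hne1
          · exact D.u_eq_of m m (by push_cast; ring) (by push_cast; ring)
        · rw [hi, hpowv] at hne1 ⊢
          have hs : i + j = 2 * (j + h0 + 2 * f * p) := by linarith
          rw [hs] at hne1 ⊢
          generalize j + h0 + 2 * f * p = t at hne1 ⊢
          rcases Int.even_or_odd' t with ⟨m, rfl | rfl⟩
          · exact absurd (D.u_eq_one.mpr ⟨⟨m, by ring⟩, ⟨m, by ring⟩⟩) hne1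
          · exact D.u_eq_of m m (by ring) (by ring)
      show (u⁻¹ * v) ^ (2 * f) = 1
      rw [(show Commute u⁻¹ v from hcomm _ _).mul_pow, inv_pow, inv_mul_eq_one]
      exact Subtype.ext ((hval u hu).trans (hval v hv).symm)
    · -- `a` odd: the elements of order dividing `4 f` form the cyclic subgroup `Z`
      have hkey : ∀ v : X, v ∈ Z ↔ v ^ (4 * f) = 1 := by
        intro v
        rw [hZmem]
        rcases hform v with ⟨t, ht⟩ | ⟨i, j, hi, p, hp⟩
        · refine iff_of_true ⟨t, ht⟩ (Subtype.ext ?_)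
          rw [Subgroup.coe_pow, ht, hpowd, Subgroup.coe_one, D.u_eq_one]
          exact ⟨⟨t, by push_cast; ring⟩, ⟨t, by push_cast; ring⟩⟩
        · refine iff_of_false (fun ⟨t, ht⟩ => D.u_ne_v _ _ _ _ (ht.symm.trans hi)) fun h => ?_
          have h' := congrArg Subtype.val h
          rw [Subgroup.coe_pow, hi, show 4 * f = 2 * (2 * f) by ring, hpowv, Subgroup.coe_one,
            D.u_eq_one] at h'
          obtain ⟨⟨q, hq⟩, -⟩ := h'
          have h2 : (2 * f : ℤ) * (i + j) = (2 * f) * (2 * q) := by push_cast at hq; linarith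
          have h3 := mul_left_cancel₀ (mul_ne_zero two_ne_zero D.f_ne) h2
          have h4 : 2 * (q - j - h0 - 2 * f * p) = 1 := by linarith
          omega
      refine (EvFix.of_cyclic (B := Z) hX2 (fun v hv => ?_) (Subgroup.mem_zpowers g₀) fun v hv => by
          obtain ⟨i, hi⟩ := Subgroup.mem_zpowers_iff.mp hv; exact ⟨i, hi.symm⟩).step hX2
        (fun v _ => trivial) fun u _ v _ hu hv => ?_
      · rw [hkey] at hv ⊢
        rw [← map_pow, hv, map_one]
      · rw [hZmem] at hu hv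
        obtain ⟨i, j, hi, hij⟩ := (hform u).resolve_left hu
        obtain ⟨k, l, hk, hkl⟩ := (hform v).resolve_left hv
        rw [hZmem]
        refine ⟨-j + l, ?_⟩
        rw [Subgroup.coe_mul, Subgroup.coe_inv, hi, hk, D.v_inv, D.v_mul_v, D.u_congr]
        refine ⟨⟨0, by ring⟩, ?_⟩
        have := dvd_sub hkl hij
        rwa [show -i + k - (-j + l) = k - l - a - (i - j - a) by ring]

theorem norm_dsub_v {a : ℤ} (ha : 2 ∣ a) {v : G} (hv : v ∈ S) (w : G)
    (hw : w = x ^ a * y ^ (0 : ℤ) * z) (h : v * w * v⁻¹ ∈ D.dsub (2 * f : ℕ) a) :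
    v ∈ D.dsub (f : ℤ) a := by
  subst hw
  have hd : ((2 * f : ℕ) : ℤ) ∣ 4 * f := ⟨2, by push_cast; ring⟩
  obtain ⟨p, q, rfl | rfl⟩ := D.cases hv
  · rw [D.u_conj_v, D.v_mem_dsub hd] at h
    obtain ⟨t, ht⟩ := h
    rw [D.u_mem_dsub ⟨4, by ring⟩]
    exact ⟨t, by push_cast at ht; linarith⟩
  · rw [D.v_conj_v, D.v_mem_dsub hd] at h
    obtain ⟨t, ht⟩ := h
    rw [D.v_mem_dsub ⟨4, by ring⟩]
    exact ⟨t, by push_cast at ht; linarith⟩

end Cfsg.Agent.TwoFusion36.IsWr
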