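import Cfsg.Agent.TwoFusion36.Basic
import Cfsg.Prelude.Def_CaseTheorems

/-!
# The quasi-dihedral 2-group, in coordinates (helper36)

`IsQD S e x y`: `S = ⟨x, y⟩` is quasi-dihedral of order `16 e`, `e` a power of two,
`x` of order `8 e`, `y` an involution with `y x y⁻¹ = x ^ (4 e - 1)`.
-/

set_option linter.unusedSectionVars false

namespace Cfsg.Agent.TwoFusion36

variable {G : Type*} [Group G]

/-- Coordinates of a quasi-dihedral group of order `16 e`. -/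
structure IsQD (S : Subgroup G) (e : ℕ) (x y : G) : Prop where
  hx : x ∈ S
  hy : y ∈ S
  hpow : ∃ k, e = 2 ^ k
  ordx : orderOf x = 8 * e
  yy : y * y = 1
  rel : y * x * y⁻¹ = x ^ (4 * (e : ℤ) - 1)
  card : Nat.card S = 16 * e

namespace IsQD

variable {S : Subgroup G} {e : ℕ} {x y : G} (D : IsQD S e x y)
include D

theorem one_le : 1 ≤ e := by obtain ⟨k, rfl⟩ := D.hpow; exact Nat.one_le_two_pow

theorem e_ne : (e : ℤ) ≠ 0 := by have := D.one_le; omega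

theorem zpow_eq_one {i : ℤ} : x ^ i = 1 ↔ (8 * e : ℤ) ∣ i := by
  rw [← orderOf_dvd_iff_zpow_eq_one, D.ordx]; norm_cast

theorem zpow_congr {i j : ℤ} : x ^ i = x ^ j ↔ (8 * e : ℤ) ∣ i - j := by
  rw [← D.zpow_eq_one, zpow_sub, mul_inv_eq_one]

theorem zpow_eq_of {i j : ℤ} (k : ℤ) (h : i = j + 8 * e * k) : x ^ i = x ^ j :=
  D.zpow_congr.mpr ⟨k, by rw [h]; ring⟩

theorem yinv : y⁻¹ = y := inv_eq_of_mul_eq_one_right D.yy

theorem y_mul (i : ℤ) : y * x ^ i = x ^ ((4 * e - 1) * i) * y := by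
  have h : y * x ^ i * y⁻¹ = x ^ ((4 * (e : ℤ) - 1) * i) := by
    rw [← conj_zpow, D.rel, ← zpow_mul]
  rw [← h]; group

theorem a_ne_b (i j : ℤ) : x ^ i ≠ x ^ j * y := by
  intro h
  have hy : y = x ^ (-j + i) := by rw [zpow_add, h, zpow_neg]; group
  have h2 := D.rel
  rw [hy] at h2
  have h1 : x ^ (1 : ℤ) = x ^ (4 * (e : ℤ) - 1) := by
    rw [← h2]; group
  obtain ⟨k, hk⟩ := D.zpow_congr.mp h1
  have := D.one_le
  rcases lt_trichotomy k 0 with hk0 | hk0 | hk0 <;> nlinarith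

theorem b_congr {i j : ℤ} : x ^ i * y = x ^ j * y ↔ (8 * e : ℤ) ∣ i - j := by
  rw [mul_left_inj, D.zpow_congr]

theorem b_mul_a (i j : ℤ) : x ^ i * y * x ^ j = x ^ (i + (4 * e - 1) * j) * y := by
  rw [mul_assoc, D.y_mul, ← mul_assoc, zpow_add]

theorem b_mul_b (i j : ℤ) : x ^ i * y * (x ^ j * y) = x ^ (i + (4 * e - 1) * j) := by
  rw [← mul_assoc, D.b_mul_a, mul_assoc, D.yy, mul_one]

theorem b_inv (i : ℤ) : (x ^ i * y)⁻¹ = x ^ (-(4 * e - 1) * i) * y := by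
  apply inv_eq_of_mul_eq_one_right
  rw [D.b_mul_b, D.zpow_eq_one]
  exact ⟨-((2 * e - 1) * i), by ring⟩

theorem a_conj_b (i j : ℤ) :
    x ^ i * (x ^ j * y) * (x ^ i)⁻¹ = x ^ (j + i * (2 - 4 * e)) * y := by
  rw [← zpow_neg, ← mul_assoc, ← zpow_add, D.b_mul_a]
  ring_nf

theorem b_conj_a (i j : ℤ) : x ^ i * y * x ^ j * (x ^ i * y)⁻¹ = x ^ ((4 * e - 1) * j) := by
  rw [D.b_mul_a, D.b_inv, D.b_mul_b]
  exact D.zpow_eq_of (-((2 * e - 1) * i)) (by ring)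

theorem b_conj_b (i j : ℤ) :
    x ^ i * y * (x ^ j * y) * (x ^ i * y)⁻¹ = x ^ ((4 * e - 1) * j + i * (2 - 4 * e)) * y := by
  rw [D.b_mul_b, D.b_inv, ← mul_assoc, ← zpow_add]
  ring_nf

theorem a_mem (i : ℤ) : x ^ i ∈ S := zpow_mem D.hx i

theorem b_mem (i : ℤ) : x ^ i * y ∈ S := mul_mem (D.a_mem i) D.hy

theorem cases {v : G} (hv : v ∈ S) : ∃ i : ℤ, v = x ^ i ∨ v = x ^ i * y := by
  have hX : (Subgroup.zpowers x).relIndex S = 2 := by
    have h1 := ((Subgroup.zpowers x).subgroupOf S).card_mul_index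
    rw [Nat.card_congr (Subgroup.subgroupOfEquivOfLe (Subgroup.zpowers_le.mpr D.hx)).toEquiv,
      Nat.card_zpowers, D.ordx, D.card] at h1
    have := D.one_le
    rw [Subgroup.relIndex]
    nlinarith
  have hy : (⟨y, D.hy⟩ : S) ∉ (Subgroup.zpowers x).subgroupOf S := by
    intro h
    obtain ⟨i, hi⟩ := Subgroup.mem_zpowers_iff.mp (Subgroup.mem_subgroupOf.mp h)
    have hi' : x ^ i = y := hi
    exact D.a_ne_b i 0 (by rw [zpow_zero, one_mul, hi'])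
  have h2 := Subgroup.mul_mem_iff_of_index_two hX (a := ⟨v, hv⟩) (b := ⟨y, D.hy⟩)
  by_cases h : (⟨v, hv⟩ : S) ∈ (Subgroup.zpowers x).subgroupOf S
  · obtain ⟨i, hi⟩ := Subgroup.mem_zpowers_iff.mp (Subgroup.mem_subgroupOf.mp h)
    exact ⟨i, Or.inl hi.symm⟩
  · obtain ⟨i, hi⟩ := Subgroup.mem_zpowers_iff.mp
      (Subgroup.mem_subgroupOf.mp (h2.mpr (iff_of_false h hy)))
    refine ⟨i, Or.inr ?_⟩
    have hi' : x ^ i = v * y := hi
    rw [hi', mul_assoc, D.yy, mul_one]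

theorem cases' {v : G} (hv : v ∈ S) : (∃ k : ℤ, v = x ^ (2 * k)) ∨ (∃ k : ℤ, v = x ^ (2 * k + 1)) ∨
    (∃ k : ℤ, v = x ^ (2 * k) * y) ∨ (∃ k : ℤ, v = x ^ (2 * k + 1) * y) := by
  obtain ⟨i, hi | hi⟩ := D.cases hv <;> rcases Int.even_or_odd' i with ⟨k, hk | hk⟩ <;> subst hk
  · exact Or.inl ⟨k, hi⟩
  · exact Or.inr (Or.inl ⟨k, hi⟩)
  · exact Or.inr (Or.inr (Or.inl ⟨k, hi⟩))
  · exact Or.inr (Or.inr (Or.inr ⟨k, hi⟩))

theorem not_dvd_odd {k : ℤ} {m : ℤ} (hm : m ≠ 0) : ¬ 2 * m ∣ m * (2 * k + 1) := by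
  rintro ⟨l, hl⟩
  have : m * (2 * k + 1) = m * (2 * l) := by rw [hl]; ring
  have := mul_left_cancel₀ hm this
  omega

theorem dvd_four {i : ℤ} (h : (4 * e : ℤ) ∣ i * (1 - 2 * e)) : (4 * e : ℤ) ∣ i := by
  obtain ⟨k, hk⟩ := h
  exact ⟨k * (1 + 2 * e) + e * i, by
    have h : i = i * (1 - 2 * e) * (1 + 2 * e) + 4 * e * (e * i) := by ring
    calc i = _ := h
      _ = _ := by rw [hk]; ring⟩

theorem b_sq_even (k : ℤ) : x ^ (2 * k) * y * (x ^ (2 * k) * y) = 1 := by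
  rw [D.b_mul_b, D.zpow_eq_one]; exact ⟨k, by ring⟩

theorem b_sq_odd (k : ℤ) : x ^ (2 * k + 1) * y * (x ^ (2 * k + 1) * y) = x ^ (4 * e : ℤ) := by
  rw [D.b_mul_b]; exact D.zpow_eq_of k (by ring)

theorem c_sq : x ^ (4 * e : ℤ) * x ^ (4 * e : ℤ) = 1 := by
  rw [← zpow_add, D.zpow_eq_one]; exact ⟨1, by ring⟩

theorem c_ne_one : x ^ (4 * e : ℤ) ≠ 1 := by
  rw [Ne, D.zpow_eq_one]; rintro ⟨k, hk⟩
  have := D.e_ne
  have h2 : (e : ℤ) * 1 = e * (2 * k) := by linarith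
  have := mul_left_cancel₀ D.e_ne h2
  omega

theorem c_comm {v : G} (hv : v ∈ S) : Commute (x ^ (4 * e : ℤ)) v := by
  obtain ⟨i, rfl | rfl⟩ := D.cases hv
  · exact Commute.zpow_zpow_self x _ _
  · show x ^ (4 * e : ℤ) * (x ^ i * y) = x ^ i * y * x ^ (4 * e : ℤ)
    rw [D.b_mul_a, ← mul_assoc, ← zpow_add, D.b_congr]
    exact ⟨1 - 2 * e, by ring⟩

/-- Square roots of one in `S`. -/
theorem sq_one {v : G} (hv : v ∈ S) (h : v * v = 1) :
    v = 1 ∨ v = x ^ (4 * e : ℤ) ∨ ∃ k : ℤ, v = x ^ (2 * k) * y := by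
  obtain ⟨i, rfl | rfl⟩ := D.cases hv
  · rw [← zpow_add, D.zpow_eq_one] at h
    obtain ⟨l, hl⟩ := h
    have hi : i = 4 * e * l := by linarith
    rcases Int.even_or_odd' l with ⟨m, rfl | rfl⟩
    · exact Or.inl (D.zpow_eq_one.mpr ⟨m, by rw [hi]; ring⟩)
    · exact Or.inr (Or.inl (D.zpow_eq_of m (by rw [hi]; ring)))
  · rcases Int.even_or_odd' i with ⟨k, rfl | rfl⟩
    · exact Or.inr (Or.inr ⟨k, rfl⟩)
    · exact absurd ((D.b_sq_odd k).symm.trans h) D.c_ne_one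

theorem even_b_ne_c (k : ℤ) : x ^ (2 * k) * y ≠ x ^ (4 * e : ℤ) := fun h => D.a_ne_b _ _ h.symm

theorem orderOf_c : orderOf (x ^ (4 * e : ℤ)) = 2 :=
  orderOf_eq_prime (by rw [sq]; exact D.c_sq) D.c_ne_one

theorem orderOf_b_even (k : ℤ) : orderOf (x ^ (2 * k) * y) = 2 :=
  orderOf_eq_prime (by rw [sq]; exact D.b_sq_even k) fun h =>
    D.a_ne_b 0 (2 * k) (by rw [zpow_zero, h])

theorem orderOf_y : orderOf y = 2 := by simpa using D.orderOf_b_even 0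

theorem orderOf_i : orderOf (x ^ (2 * e : ℤ)) = 4 := by
  apply orderOf_eq_prime_pow (p := 2) (n := 1)
  · rw [pow_one, sq, ← zpow_add, show (2 * e : ℤ) + 2 * e = 4 * e by ring]; exact D.c_ne_one
  · rw [show (2 : ℕ) ^ (1 + 1) = 2 * 2 from rfl, pow_mul, sq, sq, ← zpow_add,
      show (2 * e : ℤ) + 2 * e = 4 * e by ring]
    exact D.c_sq

theorem orderOf_b_odd (k : ℤ) : orderOf (x ^ (2 * k + 1) * y) = 4 := by
  apply orderOf_eq_prime_pow (p := 2) (n := 1)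
  · rw [pow_one, sq, D.b_sq_odd]; exact D.c_ne_one
  · rw [show (2 : ℕ) ^ (1 + 1) = 2 * 2 from rfl, pow_mul, sq, sq, D.b_sq_odd]
    exact D.c_sq

theorem invol_class {v : G} (hv : v ∈ S) (h : orderOf v = 2) :
    v = x ^ (4 * e : ℤ) ∨ ∃ k : ℤ, v = x ^ (2 * k) * y := by
  have h2 : v * v = 1 := by rw [← sq, ← h]; exact pow_orderOf_eq_one v
  rcases D.sq_one hv h2 with rfl | h' | h'
  · simp at h
  · exact Or.inl h'
  · exact Or.inr h'

theorem four_class {v : G} (hv : v ∈ S) (h : orderOf v = 4) :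
    v = x ^ (2 * e : ℤ) ∨ v = x ^ (-(2 * e : ℤ)) ∨ ∃ k : ℤ, v = x ^ (2 * k + 1) * y := by
  obtain ⟨i, rfl | rfl⟩ := D.cases hv
  · have h4 : (x ^ i) ^ (4 : ℤ) = 1 := by
      rw [show ((4 : ℤ)) = ((4 : ℕ) : ℤ) from rfl, zpow_natCast, ← h, pow_orderOf_eq_one]
    rw [← zpow_mul, D.zpow_eq_one] at h4
    obtain ⟨l, hl⟩ := h4
    have hi : i = 2 * e * l := by linarith
    rcases Int.even_or_odd' l with ⟨m, rfl | rfl⟩
    · exfalso
      have : orderOf (x ^ i) ∣ 2 := orderOf_dvd_of_pow_eq_one (by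
        rw [← zpow_natCast, ← zpow_mul, D.zpow_eq_one]; exact ⟨m, by rw [hi]; push_cast; ring⟩)
      rw [h] at this
      norm_num at this
    · rcases Int.even_or_odd' m with ⟨p, rfl | rfl⟩
      · exact Or.inl (D.zpow_eq_of p (by rw [hi]; ring))
      · exact Or.inr (Or.inl (D.zpow_eq_of (p + 1) (by rw [hi]; ring)))
  · rcases Int.even_or_odd' i with ⟨k, rfl | rfl⟩
    · rw [D.orderOf_b_even] at h; omega
    · exact Or.inr (Or.inr ⟨k, rfl⟩)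

/-- `x^(j)y` with `j = 2k + d` is carried to `x^d y` by a power of `x`. -/
theorem conj_rep (k d : ℤ) : ∃ s ∈ S, s * (x ^ (2 * k + d) * y) * s⁻¹ = x ^ d * y := by
  refine ⟨_, D.a_mem (-k * (1 + 2 * e)), ?_⟩
  rw [D.a_conj_b, D.b_congr]
  exact ⟨k * e, by ring⟩

theorem conj_rep_even (k : ℤ) : ∃ s ∈ S, s * (x ^ (2 * k) * y) * s⁻¹ = y := by
  simpa using D.conj_rep k 0

theorem conj_rep_odd (k : ℤ) : ∃ s ∈ S, s * (x ^ (2 * k + 1) * y) * s⁻¹ = x * y := by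
  simpa using D.conj_rep k 1

theorem y_conj_i : y * x ^ (2 * e : ℤ) * y⁻¹ = x ^ (-(2 * e : ℤ)) := by
  rw [← conj_zpow, D.rel, ← zpow_mul]; exact D.zpow_eq_of e (by ring)

/-- Conjugation by elements of `S` fixes membership in `⟨x⟩`. -/
theorem conj_a_form {s : G} (hs : s ∈ S) (i : ℤ) : ∃ j : ℤ, s * x ^ i * s⁻¹ = x ^ j := by
  obtain ⟨l, rfl | rfl⟩ := D.cases hs
  · exact ⟨i, by group⟩
  · exact ⟨_, D.b_conj_a l i⟩

theorem b_inverts (k d : ℤ) :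
    x ^ k * y * x ^ (2 * d) * (x ^ k * y)⁻¹ = (x ^ (2 * d))⁻¹ := by
  rw [D.b_conj_a, ← zpow_neg]; exact D.zpow_eq_of d (by ring)

end IsQD

/-- The four-subgroup `{x^{4em}} ∪ {x^{2k+4em} y}`. -/
def IsQD.four {S : Subgroup G} {e : ℕ} {x y : G} (D : IsQD S e x y) (k : ℤ) : Subgroup G :=
  sub2 (x ^ (4 * e : ℤ)) (x ^ (2 * k) * y)
    (by rw [show (4 * e : ℤ) = 2 * (2 * e) by ring]; exact D.b_inverts _ _)
    ⟨0, by rw [D.b_sq_even, zpow_zero]⟩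

/-- The quaternion subgroup `{x^{2em}} ∪ {x^{2k+1+2em} y}`. -/
def IsQD.quat {S : Subgroup G} {e : ℕ} {x y : G} (D : IsQD S e x y) (k : ℤ) : Subgroup G :=
  sub2 (x ^ (2 * e : ℤ)) (x ^ (2 * k + 1) * y) (D.b_inverts _ _)
    ⟨2, by rw [D.b_sq_odd, ← zpow_mul]; ring_nf⟩

/-- The maximal dihedral subgroup. -/
def IsQD.dih {S : Subgroup G} {e : ℕ} {x y : G} (D : IsQD S e x y) : Subgroup G :=
  sub2 (x ^ (2 * 1 : ℤ)) (x ^ (2 * 0 : ℤ) * y) (D.b_inverts _ _)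
    ⟨0, by rw [D.b_sq_even, zpow_zero]⟩

/-- The maximal generalized quaternion subgroup. -/
def IsQD.gquat {S : Subgroup G} {e : ℕ} {x y : G} (D : IsQD S e x y) : Subgroup G :=
  sub2 (x ^ (2 * 1 : ℤ)) (x ^ (2 * 0 + 1 : ℤ) * y) (D.b_inverts _ _)
    ⟨2 * e, by rw [D.b_sq_odd, ← zpow_mul]; ring_nf⟩

namespace IsQD

variable {S : Subgroup G} {e : ℕ} {x y : G} (D : IsQD S e x y)
include D

theorem mem_four {k : ℤ} {v : G} :
    v ∈ D.four k ↔ ∃ m : ℤ, v = x ^ (4 * e * m) ∨ v = x ^ (2 * k + 4 * e * m) * y := by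
  rw [IsQD.four, mem_sub2]
  constructor
  · rintro ⟨m, rfl | rfl⟩
    · exact ⟨m, Or.inl (by rw [← zpow_mul])⟩
    · refine ⟨m, Or.inr ?_⟩
      rw [← zpow_mul, D.b_mul_a, D.b_congr]
      exact ⟨(2 * e - 1) * m, by ring⟩
  · rintro ⟨m, rfl | rfl⟩
    · exact ⟨m, Or.inl (by rw [← zpow_mul])⟩
    · refine ⟨m, Or.inr ?_⟩
      rw [← zpow_mul, D.b_mul_a, D.b_congr]
      exact ⟨-((2 * e - 1) * m), by ring⟩

theorem mem_quat {k : ℤ} {v : G} :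
    v ∈ D.quat k ↔ ∃ m : ℤ, v = x ^ (2 * e * m) ∨ v = x ^ (2 * k + 1 + 2 * e * m) * y := by
  rw [IsQD.quat, mem_sub2]
  constructor
  · rintro ⟨m, rfl | rfl⟩
    · exact ⟨m, Or.inl (by rw [← zpow_mul])⟩
    · refine ⟨-m, Or.inr ?_⟩
      rw [← zpow_mul, D.b_mul_a, D.b_congr]
      exact ⟨e * m, by ring⟩
  · rintro ⟨m, rfl | rfl⟩
    · exact ⟨m, Or.inl (by rw [← zpow_mul])⟩
    · refine ⟨-m, Or.inr ?_⟩
      rw [← zpow_mul, D.b_mul_a, D.b_congr]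
      exact ⟨e * m, by ring⟩

theorem mem_dih {v : G} : v ∈ D.dih ↔ ∃ m : ℤ, v = x ^ (2 * m) ∨ v = x ^ (2 * m) * y := by
  rw [IsQD.dih, mem_sub2]
  constructor
  · rintro ⟨m, rfl | rfl⟩
    · exact ⟨m, Or.inl (by rw [← zpow_mul]; ring_nf)⟩
    · exact ⟨(4 * e - 1) * m, Or.inr (by rw [← zpow_mul, D.b_mul_a]; ring_nf)⟩
  · rintro ⟨m, rfl | rfl⟩
    · exact ⟨m, Or.inl (by rw [← zpow_mul]; ring_nf)⟩
    · refine ⟨(4 * e - 1) * m, Or.inr ?_⟩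
      rw [← zpow_mul, D.b_mul_a, D.b_congr]
      exact ⟨-((2 * e - 1) * m * 2), by ring⟩

theorem mem_gquat {v : G} :
    v ∈ D.gquat ↔ ∃ m : ℤ, v = x ^ (2 * m) ∨ v = x ^ (2 * m + 1) * y := by
  rw [IsQD.gquat, mem_sub2]
  constructor
  · rintro ⟨m, rfl | rfl⟩
    · exact ⟨m, Or.inl (by rw [← zpow_mul]; ring_nf)⟩
    · exact ⟨(4 * e - 1) * m, Or.inr (by rw [← zpow_mul, D.b_mul_a]; ring_nf)⟩
  · rintro ⟨m, rfl | rfl⟩
    · exact ⟨m, Or.inl (by rw [← zpow_mul]; ring_nf)⟩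
    · refine ⟨(4 * e - 1) * m, Or.inr ?_⟩
      rw [← zpow_mul, D.b_mul_a, D.b_congr]
      exact ⟨-((2 * e - 1) * m * 2), by ring⟩

theorem four_le (k : ℤ) : D.four k ≤ S := fun v hv => by
  obtain ⟨m, rfl | rfl⟩ := D.mem_four.mp hv
  · exact D.a_mem _
  · exact D.b_mem _

theorem quat_le (k : ℤ) : D.quat k ≤ S := fun v hv => by
  obtain ⟨m, rfl | rfl⟩ := D.mem_quat.mp hv
  · exact D.a_mem _
  · exact D.b_mem _

theorem dih_le : D.dih ≤ S := fun v hv => by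
  obtain ⟨m, rfl | rfl⟩ := D.mem_dih.mp hv
  · exact D.a_mem _
  · exact D.b_mem _

theorem gquat_le : D.gquat ≤ S := fun v hv => by
  obtain ⟨m, rfl | rfl⟩ := D.mem_gquat.mp hv
  · exact D.a_mem _
  · exact D.b_mem _

theorem four_equiv (k : ℤ) : Nonempty (D.four k ≃* DihedralGroup 2) :=
  nonempty_equiv_dihedral _ _ D.orderOf_c (D.b_sq_even k)
    (by rw [show (4 * e : ℤ) = 2 * (2 * e) by ring]; exact D.b_inverts _ _)
    (fun m h => D.a_ne_b _ _ ((zpow_mul x _ m).trans h.symm)) _ fun _ => mem_sub2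

theorem quat_equiv (k : ℤ) : Nonempty (D.quat k ≃* QuaternionGroup 2) :=
  nonempty_equiv_quaternion _ _ D.orderOf_i
    (by rw [D.b_sq_odd, ← zpow_natCast, ← zpow_mul]; push_cast; ring_nf) (D.b_inverts _ _)
    (fun m h => D.a_ne_b _ _ ((zpow_mul x _ m).trans h.symm)) _ fun _ => mem_sub2

theorem orderOf_x_sq : orderOf (x ^ (2 * 1 : ℤ)) = 4 * e := by
  rw [show (2 * 1 : ℤ) = ((2 : ℕ) : ℤ) from rfl, zpow_natCast,
    orderOf_pow' x (by norm_num), D.ordx]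
  rw [show 8 * e = 2 * (4 * e) by ring, Nat.gcd_mul_right_left]
  omega

theorem dih_equiv : Nonempty (D.dih ≃* DihedralGroup (4 * e)) :=
  haveI : NeZero (4 * e) := ⟨by have := D.one_le; omega⟩
  nonempty_equiv_dihedral _ _ D.orderOf_x_sq (D.b_sq_even 0) (D.b_inverts _ _)
    (fun m h => D.a_ne_b _ _ ((zpow_mul x _ m).trans h.symm)) _ fun _ => mem_sub2

theorem gquat_equiv : Nonempty (D.gquat ≃* QuaternionGroup (2 * e)) :=
  haveI : NeZero (2 * e) := ⟨by have := D.one_le; omega⟩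
  nonempty_equiv_quaternion _ _ (D.orderOf_x_sq.trans (by ring))
    (by rw [D.b_sq_odd, ← zpow_natCast, ← zpow_mul]; push_cast; ring_nf) (D.b_inverts _ _)
    (fun m h => D.a_ne_b _ _ ((zpow_mul x _ m).trans h.symm)) _ fun _ => mem_sub2

theorem card_four (k : ℤ) : Nat.card (D.four k) = 4 := by
  obtain ⟨f⟩ := D.four_equiv k
  rw [Nat.card_congr f.toEquiv, DihedralGroup.nat_card]

theorem card_quat (k : ℤ) : Nat.card (D.quat k) = 8 := by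
  obtain ⟨f⟩ := D.quat_equiv k
  rw [Nat.card_congr f.toEquiv, Nat.card_eq_fintype_card, QuaternionGroup.card]

/-- Every four-subgroup of `S` is some `four k`. -/
theorem eq_four [Finite G] {T : Subgroup G} (hTS : T ≤ S) (hT4 : Nat.card T = 4)
    (hT2 : ∀ v ∈ T, v * v = 1) : ∃ k, T = D.four k := by
  obtain ⟨k, hk⟩ : ∃ k : ℤ, x ^ (2 * k) * y ∈ T := by
    by_contra h
    push Not at h
    have : (T : Set G) ⊆ {1, x ^ (4 * e : ℤ)} := by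
      intro v hv
      rcases D.sq_one (hTS hv) (hT2 v hv) with rfl | rfl | ⟨k, rfl⟩
      · simp
      · simp
      · exact absurd hv (h k)
    have := Set.ncard_le_ncard this
    rw [show (T : Set G).ncard = 4 by rw [← Nat.card_coe_set_eq]; exact hT4] at this
    have h2 := Set.ncard_insert_le (1 : G) {x ^ (4 * e : ℤ)}
    simp at h2
    omega
  refine ⟨k, Subgroup.eq_of_le_of_card_ge ?_ (by rw [D.card_four, hT4])⟩
  intro v hv
  rw [D.mem_four]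
  rcases D.sq_one (hTS hv) (hT2 v hv) with rfl | rfl | ⟨l, rfl⟩
  · exact ⟨0, Or.inl (by simp)⟩
  · exact ⟨1, Or.inl (by rw [mul_one])⟩
  · have hp := mul_mem hv hk
    rw [D.b_mul_b] at hp
    rcases D.sq_one (D.a_mem _) (hT2 _ hp) with h | h | ⟨j, h⟩
    · obtain ⟨m, hm⟩ := D.zpow_eq_one.mp h
      refine ⟨0, Or.inr (D.b_congr.mpr ⟨m - k, ?_⟩)⟩
      linear_combination hm
    · obtain ⟨m, hm⟩ := D.zpow_congr.mp h
      refine ⟨1, Or.inr (D.b_congr.mpr ⟨m - k, ?_⟩)⟩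
      linear_combination hm
    · exact absurd h (D.a_ne_b _ _)

/-- Every quaternion subgroup of order eight of `S` is some `quat k`. -/
theorem eq_quat [Finite G] {Q : Subgroup G} (hQS : Q ≤ S) (f : Q ≃* QuaternionGroup 2) :
    ∃ k, Q = D.quat k := by
  have h4 : ∀ v ∈ Q, v ^ 4 = 1 := by
    intro v hv
    have hq : ∀ q : QuaternionGroup 2, q ^ 4 = 1 := by decide
    have := hq (f ⟨v, hv⟩)
    rw [← map_pow, MulEquiv.map_eq_one_iff] at this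
    simpa using congrArg Subtype.val this
  have huniq : ∀ u ∈ Q, ∀ v ∈ Q, u * u = 1 → u ≠ 1 → v * v = 1 ∨ v * v = u := by
    intro u hu v hv hu2 hu1
    have hq : ∀ p q : QuaternionGroup 2, p * p = 1 → p ≠ 1 → q * q = 1 ∨ q * q = p := by decide
    have h1 : f ⟨u, hu⟩ * f ⟨u, hu⟩ = 1 := by
      rw [← map_mul, MulEquiv.map_eq_one_iff]; exact Subtype.ext hu2
    have h2 : f ⟨u, hu⟩ ≠ 1 := by
      rw [Ne, MulEquiv.map_eq_one_iff]; exact fun h => hu1 (congrArg Subtype.val h)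
    rcases hq _ (f ⟨v, hv⟩) h1 h2 with h | h
    · rw [← map_mul, MulEquiv.map_eq_one_iff] at h
      exact Or.inl (congrArg Subtype.val h)
    · rw [← map_mul, f.injective.eq_iff] at h
      exact Or.inr (congrArg Subtype.val h)
  obtain ⟨v₀, hv₀, hne⟩ : ∃ v ∈ Q, v * v ≠ 1 := by
    refine ⟨_, (f.symm (QuaternionGroup.a 1)).2, fun h => ?_⟩
    have h' := congrArg f (Subtype.ext h :
      f.symm (QuaternionGroup.a 1) * f.symm (QuaternionGroup.a 1) = 1)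
    rw [map_mul, MulEquiv.apply_symm_apply, map_one] at h'
    exact absurd h' (by decide)
  have hnoeven : ∀ k : ℤ, x ^ (2 * k) * y ∉ Q := by
    intro k hk
    rcases huniq _ hk v₀ hv₀ (D.b_sq_even k)
      (fun h => D.a_ne_b 0 (2 * k) (by rw [zpow_zero, h])) with h | h
    · exact hne h
    · obtain ⟨i, rfl | rfl⟩ := D.cases (hQS hv₀)
      · rw [← zpow_add] at h; exact D.a_ne_b _ _ h
      · rw [D.b_mul_b] at h; exact D.a_ne_b _ _ h
  have hX : ∀ i : ℤ, x ^ i ∈ Q → ∃ m : ℤ, i = 2 * e * m := by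
    intro i hi
    have := h4 _ hi
    rw [← zpow_natCast, ← zpow_mul, D.zpow_eq_one] at this
    obtain ⟨l, hl⟩ := this
    push_cast at hl
    exact ⟨l, by linarith⟩
  obtain ⟨k, hk⟩ : ∃ k : ℤ, x ^ (2 * k + 1) * y ∈ Q := by
    by_contra h
    push Not at h
    obtain ⟨u, v, huv⟩ : ∃ p q : QuaternionGroup 2, p * q ≠ q * p := by decide
    obtain ⟨i, hi⟩ : ∃ i : ℤ, (f.symm u : G) = x ^ i := by
      rcases D.cases' (hQS (f.symm u).2) with ⟨l, hl⟩ | ⟨l, hl⟩ | ⟨l, hl⟩ | ⟨l, hl⟩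
      · exact ⟨_, hl⟩
      · exact ⟨_, hl⟩
      · exact absurd (hl ▸ (f.symm u).2) (hnoeven l)
      · exact absurd (hl ▸ (f.symm u).2) (h l)
    obtain ⟨j, hj⟩ : ∃ j : ℤ, (f.symm v : G) = x ^ j := by
      rcases D.cases' (hQS (f.symm v).2) with ⟨l, hl⟩ | ⟨l, hl⟩ | ⟨l, hl⟩ | ⟨l, hl⟩
      · exact ⟨_, hl⟩
      · exact ⟨_, hl⟩
      · exact absurd (hl ▸ (f.symm v).2) (hnoeven l)
      · exact absurd (hl ▸ (f.symm v).2) (h l)
    have hcomm : f.symm u * f.symm v = f.symm v * f.symm u := Subtype.ext (by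
      rw [Subgroup.coe_mul, Subgroup.coe_mul, hi, hj]
      exact (Commute.zpow_zpow_self x i j).eq)
    rw [← map_mul, ← map_mul] at hcomm
    exact huv (f.symm.injective hcomm)
  refine ⟨k, Subgroup.eq_of_le_of_card_ge ?_ (by
    rw [D.card_quat, Nat.card_congr f.toEquiv, Nat.card_eq_fintype_card, QuaternionGroup.card])⟩
  intro v hv
  rw [D.mem_quat]
  rcases D.cases' (hQS hv) with ⟨l, rfl⟩ | ⟨l, rfl⟩ | ⟨l, rfl⟩ | ⟨l, rfl⟩
  · obtain ⟨m, hm⟩ := hX _ hv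
    exact ⟨m, Or.inl (by rw [hm])⟩
  · obtain ⟨m, hm⟩ := hX _ hv
    exact ⟨m, Or.inl (by rw [hm])⟩
  · exact absurd hv (hnoeven l)
  · have hp := mul_mem hv hk
    rw [D.b_mul_b] at hp
    obtain ⟨m, hm⟩ := hX _ hp
    refine ⟨m - 2 * (2 * k + 1), Or.inr (D.b_congr.mpr ⟨0, ?_⟩)⟩
    linear_combination hm

theorem four_map_conj (k : ℤ) :
    ∃ s ∈ S, (D.four k).map (MulAut.conj s).toMonoidHom = D.four 0 := by
  refine ⟨_, D.a_mem (-k * (1 + 2 * e)), ?_⟩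
  ext v
  constructor
  · rintro ⟨u, hu, rfl⟩
    show x ^ (-k * (1 + 2 * (e : ℤ))) * u * (x ^ (-k * (1 + 2 * (e : ℤ))))⁻¹ ∈ D.four 0
    rw [D.mem_four]
    obtain ⟨m, rfl | rfl⟩ := D.mem_four.mp hu
    · exact ⟨m, Or.inl (by group)⟩
    · refine ⟨m, Or.inr ?_⟩
      rw [D.a_conj_b, D.b_congr]
      exact ⟨k * e, by ring⟩
  · intro hv
    refine mem_map_conj.mpr ?_
    rw [D.mem_four]
    obtain ⟨m, rfl | rfl⟩ := D.mem_four.mp hv
    · exact ⟨m, Or.inl (by group)⟩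
    · refine ⟨m, Or.inr ?_⟩
      rw [← zpow_neg, ← inv_inv (x ^ (-k * (1 + 2 * (e : ℤ)))), ← zpow_neg, ← zpow_neg,
        neg_neg, show ∀ u : G, x ^ (-(-k * (1 + 2 * (e : ℤ)))) * u * x ^ (-k * (1 + 2 * (e : ℤ)))
          = x ^ (-(-k * (1 + 2 * (e : ℤ)))) * u * (x ^ (-(-k * (1 + 2 * (e : ℤ)))))⁻¹ from
          fun u => by rw [← zpow_neg, neg_neg], D.a_conj_b, D.b_congr]
      exact ⟨-(k * e), by ring⟩

theorem quat_map_conj (k : ℤ) :
    ∃ s ∈ S, (D.quat k).map (MulAut.conj s).toMonoidHom = D.quat 0 := by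
  refine ⟨_, D.a_mem (-k * (1 + 2 * e)), ?_⟩
  ext v
  constructor
  · rintro ⟨u, hu, rfl⟩
    show x ^ (-k * (1 + 2 * (e : ℤ))) * u * (x ^ (-k * (1 + 2 * (e : ℤ))))⁻¹ ∈ D.quat 0
    rw [D.mem_quat]
    obtain ⟨m, rfl | rfl⟩ := D.mem_quat.mp hu
    · exact ⟨m, Or.inl (by group)⟩
    · refine ⟨m, Or.inr ?_⟩
      rw [D.a_conj_b, D.b_congr]
      exact ⟨k * e, by ring⟩
  · intro hv
    refine mem_map_conj.mpr ?_
    rw [D.mem_quat]
    obtain ⟨m, rfl | rfl⟩ := D.mem_quat.mp hv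
    · exact ⟨m, Or.inl (by group)⟩
    · refine ⟨m, Or.inr ?_⟩
      rw [show ∀ u : G, (x ^ (-k * (1 + 2 * (e : ℤ))))⁻¹ * u * x ^ (-k * (1 + 2 * (e : ℤ)))
          = x ^ (-(-k * (1 + 2 * (e : ℤ)))) * u * (x ^ (-(-k * (1 + 2 * (e : ℤ)))))⁻¹ from
          fun u => by rw [← zpow_neg, ← zpow_neg, neg_neg], D.a_conj_b, D.b_congr]
      exact ⟨-(k * e), by ring⟩

/-- The centraliser in `S` of an involution `x^{2k}y`. -/
theorem mem_four_of_commute {k : ℤ} {v : G} (hv : v ∈ S)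
    (h : Commute v (x ^ (2 * k) * y)) : v ∈ D.four k := by
  have key : ∀ i : ℤ, Commute (x ^ i) (x ^ (2 * k) * y) → (4 * e : ℤ) ∣ i := by
    intro i hc
    have h1 : x ^ i * (x ^ (2 * k) * y) * (x ^ i)⁻¹ = x ^ (2 * k) * y := by rw [hc.eq]; group
    rw [D.a_conj_b, D.b_congr] at h1
    obtain ⟨l, hl⟩ := h1
    exact D.dvd_four ⟨l, by linarith⟩
  rw [D.mem_four]
  obtain ⟨i, rfl | rfl⟩ := D.cases hv
  · obtain ⟨m, hm⟩ := key i h
    exact ⟨m, Or.inl (by rw [hm])⟩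
  · have hprod : Commute (x ^ i * y * (x ^ (2 * k) * y)) (x ^ (2 * k) * y) :=
      h.mul_left (Commute.refl _)
    rw [D.b_mul_b] at hprod
    obtain ⟨m, hm⟩ := key _ hprod
    exact ⟨m - 2 * k, Or.inr (D.b_congr.mpr ⟨0, by linear_combination hm⟩)⟩

/-- The centraliser in `S` of an element `x^{2k+1}y`. -/
theorem commute_odd {k : ℤ} {v : G} (hv : v ∈ S) (h : Commute v (x ^ (2 * k + 1) * y)) :
    ∃ m : ℤ, v = x ^ (4 * e * m) ∨ v = x ^ (2 * k + 1 + 4 * e * m) * y := by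
  have key : ∀ i : ℤ, Commute (x ^ i) (x ^ (2 * k + 1) * y) → (4 * e : ℤ) ∣ i := by
    intro i hc
    have h1 : x ^ i * (x ^ (2 * k + 1) * y) * (x ^ i)⁻¹ = x ^ (2 * k + 1) * y := by
      rw [hc.eq]; group
    rw [D.a_conj_b, D.b_congr] at h1
    obtain ⟨l, hl⟩ := h1
    exact D.dvd_four ⟨l, by linarith⟩
  obtain ⟨i, rfl | rfl⟩ := D.cases hv
  · obtain ⟨m, hm⟩ := key i h
    exact ⟨m, Or.inl (by rw [hm])⟩
  · have hprod : Commute (x ^ i * y * (x ^ (2 * k + 1) * y)) (x ^ (2 * k + 1) * y) :=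
      h.mul_left (Commute.refl _)
    rw [D.b_mul_b] at hprod
    obtain ⟨m, hm⟩ := key _ hprod
    exact ⟨m - (2 * k + 1), Or.inr (D.b_congr.mpr ⟨0, by linear_combination hm⟩)⟩

theorem commute_x_pow {i : ℤ} {v : G} (hv : v ∈ S) (hi : ¬ (4 * e : ℤ) ∣ i)
    (h : Commute v (x ^ i)) : ∃ j : ℤ, v = x ^ j := by
  obtain ⟨j, rfl | rfl⟩ := D.cases hv
  · exact ⟨j, rfl⟩
  · exfalso
    have h1 : x ^ j * y * x ^ i * (x ^ j * y)⁻¹ = x ^ i := by rw [h.eq]; group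
    rw [D.b_conj_a, D.zpow_congr] at h1
    obtain ⟨l, hl⟩ := h1
    exact hi (D.dvd_four ⟨-l, by linarith⟩)

theorem norm_four {k : ℤ} {v : G} (hv : v ∈ S)
    (h : v * (x ^ (2 * k) * y) * v⁻¹ ∈ D.four k) :
    ∃ m : ℤ, v = x ^ (2 * e * m) ∨ v = x ^ (2 * e * m + 2 * k) * y := by
  have key : ∀ i : ℤ, x ^ i * (x ^ (2 * k) * y) * (x ^ i)⁻¹ ∈ D.four k →
      ∃ m : ℤ, i = 2 * e * m := by
    intro i hi
    rw [D.a_conj_b, D.mem_four] at hi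
    obtain ⟨m, hm | hm⟩ := hi
    · exact absurd hm.symm (D.a_ne_b _ _)
    · obtain ⟨l, hl⟩ := D.b_congr.mp hm
      refine ⟨(2 * l + m) * (1 + 2 * e) + 2 * e * i, ?_⟩
      have h2 : i * (1 - 2 * e) = 2 * e * (2 * l + m) := by linarith
      calc i = i * (1 - 2 * e) * (1 + 2 * e) + 2 * e * (2 * e * i) := by ring
        _ = _ := by rw [h2]; ring
  obtain ⟨i, rfl | rfl⟩ := D.cases hv
  · obtain ⟨m, hm⟩ := key i h
    exact ⟨m, Or.inl (by rw [hm])⟩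
  · have hb : x ^ (2 * k) * y ∈ D.four k := D.mem_four.mpr ⟨0, Or.inr (by ring_nf)⟩
    have h2 : x ^ i * y * (x ^ (2 * k) * y) * (x ^ (2 * k) * y) *
        (x ^ i * y * (x ^ (2 * k) * y))⁻¹ ∈ D.four k := by
      simpa [mul_assoc] using h
    rw [D.b_mul_b i (2 * k)] at h2
    obtain ⟨m, hm⟩ := key _ h2
    exact ⟨m - 4 * k, Or.inr (D.b_congr.mpr ⟨0, by linear_combination hm⟩)⟩

theorem norm_quat {k : ℤ} {v : G} (hv : v ∈ S)
    (h : v * (x ^ (2 * k + 1) * y) * v⁻¹ ∈ D.quat k) :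
    ∃ m : ℤ, v = x ^ (e * m : ℤ) ∨ v = x ^ (e * m + 2 * k + 1) * y := by
  have key : ∀ i : ℤ, x ^ i * (x ^ (2 * k + 1) * y) * (x ^ i)⁻¹ ∈ D.quat k →
      ∃ m : ℤ, i = e * m := by
    intro i hi
    rw [D.a_conj_b, D.mem_quat] at hi
    obtain ⟨m, hm | hm⟩ := hi
    · exact absurd hm.symm (D.a_ne_b _ _)
    · obtain ⟨l, hl⟩ := D.b_congr.mp hm
      exact ⟨4 * l + m + 2 * i, by linarith⟩
  obtain ⟨i, rfl | rfl⟩ := D.cases hv
  · obtain ⟨m, hm⟩ := key i h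
    exact ⟨m, Or.inl (by rw [hm])⟩
  · have h2 : x ^ i * y * (x ^ (2 * k + 1) * y) * (x ^ (2 * k + 1) * y) *
        (x ^ i * y * (x ^ (2 * k + 1) * y))⁻¹ ∈ D.quat k := by
      simpa [mul_assoc] using h
    rw [D.b_mul_b i (2 * k + 1)] at h2
    obtain ⟨m, hm⟩ := key _ h2
    exact ⟨m - 4 * (2 * k + 1), Or.inr (D.b_congr.mpr ⟨0, by linear_combination hm⟩)⟩

end IsQD

theorem exists_isQD {G : Type*} [Group G] {S : Subgroup G} (hS : Cfsg.IsQuasiDihedral S) :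
    ∃ e x y, IsQD S e x y := by
  obtain ⟨n, hn, hcard, x, y, hx, hy, hrel⟩ := hS
  obtain ⟨k, rfl⟩ : ∃ k, n = k + 3 := ⟨n - 3, by omega⟩
  refine ⟨2 ^ k, (x : G), (y : G), x.2, y.2, ⟨k, rfl⟩, ?_, ?_, ?_, ?_⟩
  · rw [Subgroup.orderOf_coe, hx]; ring
  · have := congrArg Subtype.val (pow_orderOf_eq_one y)
    rw [hy] at this
    simpa [sq] using this
  · have := congrArg Subtype.val hrel
    simp only [Subgroup.coe_mul, Subgroup.coe_inv, Subgroup.coe_pow] at this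
    rw [this, ← zpow_natCast]
    congr 1
    rw [show k + 3 - 1 = k + 2 by omega, Nat.cast_sub Nat.one_le_two_pow]
    push_cast
    ring
  · rw [hcard]; ring

theorem exists_isQD_top {S : Type*} [Group S] (hS : Cfsg.IsQuasiDihedral S) :
    ∃ e x y, IsQD (⊤ : Subgroup S) e x y := by
  obtain ⟨n, hn, hcard, x, y, hx, hy, hrel⟩ := hS
  refine exists_isQD ⟨n, hn, ?_, ⟨x, trivial⟩, ⟨y, trivial⟩, ?_, ?_, ?_⟩
  · rw [Nat.card_congr Subgroup.topEquiv.toEquiv, hcard]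
  · rw [← Subgroup.orderOf_coe]; exact hx
  · rw [← Subgroup.orderOf_coe]; exact hy
  · exact Subtype.ext (by simpa using hrel)

end Cfsg.Agent.TwoFusion36
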