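import Cfsg.Agent.TwoFusion36.QD

/-!
# Subgroup lattice facts for quasi-dihedral groups (helper36)
-/

set_option linter.unusedSectionVars false

namespace Cfsg.Agent.TwoFusion36.IsQD

variable {G : Type*} [Group G] {S : Subgroup G} {e : ℕ} {x y : G} (D : IsQD S e x y)
include D

theorem x_mem_zpowers_odd (l : ℤ) : x ∈ Subgroup.zpowers (x ^ (2 * l + 1)) := by
  obtain ⟨k, hk⟩ := D.hpow
  have h2 : IsCoprime (2 * l + 1) (2 : ℤ) := ⟨1, -l, by ring⟩
  obtain ⟨a, b, hab⟩ := h2.pow_right (n := k + 3)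
  refine Subgroup.mem_zpowers_iff.mpr ⟨a, ?_⟩
  rw [← zpow_mul]
  conv_rhs => rw [← zpow_one x]
  apply D.zpow_eq_of (-b)
  rw [hk]; push_cast
  linear_combination hab

theorem y_notMem_zpowers : y ∉ Subgroup.zpowers x := fun h => by
  obtain ⟨i, hi⟩ := Subgroup.mem_zpowers_iff.mp h
  exact D.a_ne_b i 0 (by rw [hi]; simp)

theorem x_notMem_dih : x ∉ D.dih := fun h => by
  obtain ⟨m, hm | hm⟩ := D.mem_dih.mp h
  · obtain ⟨p, hp⟩ := D.zpow_congr.mp ((zpow_one x).trans hm)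
    rw [mul_assoc] at hp; omega
  · exact D.a_ne_b 1 _ ((zpow_one x).trans hm)

theorem x_notMem_gquat : x ∉ D.gquat := fun h => by
  obtain ⟨m, hm | hm⟩ := D.mem_gquat.mp h
  · obtain ⟨p, hp⟩ := D.zpow_congr.mp ((zpow_one x).trans hm)
    rw [mul_assoc] at hp; omega
  · exact D.a_ne_b 1 _ ((zpow_one x).trans hm)

theorem y_mem_dih : y ∈ D.dih := D.mem_dih.mpr ⟨0, Or.inr (by simp)⟩

theorem xy_mem_gquat : x * y ∈ D.gquat := D.mem_gquat.mpr ⟨0, Or.inr (by simp)⟩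

theorem y_notMem_gquat : y ∉ D.gquat := fun h => by
  obtain ⟨m, hm | hm⟩ := D.mem_gquat.mp h
  · exact D.a_ne_b (2 * m) 0 (by rw [← hm]; simp)
  · obtain ⟨p, hp⟩ := D.b_congr.mp (show x ^ (0 : ℤ) * y = x ^ (2 * m + 1) * y by rw [zpow_zero, one_mul]; exact hm)
    rw [mul_assoc] at hp; omega

theorem xy_notMem_dih : x * y ∉ D.dih := fun h => D.x_notMem_dih (by
  have h2 := mul_mem h D.y_mem_dih
  rwa [mul_assoc, D.yy, mul_one] at h2)

theorem xy_notMem_zpowers : x * y ∉ Subgroup.zpowers x := fun h => D.y_notMem_zpowers (by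
  have := mul_mem (inv_mem (Subgroup.mem_zpowers x)) h
  simpa using this)

/-- The maximal subgroups are `⟨x⟩`, `dih`, `gquat`. -/
theorem le_cases {M : Subgroup G} (hM : M ≤ S) :
    M ≤ Subgroup.zpowers x ∨ M ≤ D.dih ∨ M ≤ D.gquat ∨ M = S := by
  by_contra h
  simp only [not_or] at h
  obtain ⟨h1, h2, h3, h4⟩ := h
  obtain ⟨u, hu, hux⟩ := SetLike.not_le_iff_exists.mp h1
  obtain ⟨v, hv, hvd⟩ := SetLike.not_le_iff_exists.mp h2
  obtain ⟨w, hw, hwq⟩ := SetLike.not_le_iff_exists.mp h3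
  obtain ⟨l, hl⟩ : ∃ l : ℤ, x ^ (2 * l + 1) ∈ M := by
    rcases D.cases' (hM hv) with ⟨k, rfl⟩ | ⟨k, rfl⟩ | ⟨k, rfl⟩ | ⟨k, rfl⟩
    · exact absurd (D.mem_dih.mpr ⟨k, Or.inl rfl⟩) hvd
    · exact ⟨k, hv⟩
    · exact absurd (D.mem_dih.mpr ⟨k, Or.inr rfl⟩) hvd
    · rcases D.cases' (hM hw) with ⟨j, rfl⟩ | ⟨j, rfl⟩ | ⟨j, rfl⟩ | ⟨j, rfl⟩
      · exact absurd (D.mem_gquat.mpr ⟨j, Or.inl rfl⟩) hwq
      · exact ⟨j, hw⟩
      · refine ⟨k + (4 * e - 1) * j, ?_⟩
        have := mul_mem hv hw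
        rw [D.b_mul_b] at this
        rwa [show 2 * (k + (4 * (e : ℤ) - 1) * j) + 1 = 2 * k + 1 + (4 * e - 1) * (2 * j) by ring]
      · exact absurd (D.mem_gquat.mpr ⟨j, Or.inr rfl⟩) hwq
  have hx : x ∈ M := Subgroup.zpowers_le.mpr hl (D.x_mem_zpowers_odd l)
  have hyM : y ∈ M := by
    obtain ⟨i, rfl | rfl⟩ := D.cases (hM hu)
    · exact absurd (zpow_mem (Subgroup.mem_zpowers x) i) hux
    · have := mul_mem (zpow_mem hx (-i)) hu
      simpa [← mul_assoc] using this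
  refine h4 (le_antisymm hM fun z hz => ?_)
  obtain ⟨i, rfl | rfl⟩ := D.cases hz
  · exact zpow_mem hx i
  · exact mul_mem (zpow_mem hx i) hyM

end Cfsg.Agent.TwoFusion36.IsQD

namespace Cfsg.Agent.TwoFusion36.IsQD

open scoped commutatorElement

variable {S : Type*} [Group S] {e : ℕ} {x y : S} (D : IsQD (⊤ : Subgroup S) e x y)
include D

theorem isCoatom_zpowers : IsCoatom (Subgroup.zpowers x) := by
  refine ⟨fun h => D.y_notMem_zpowers (h ▸ trivial), fun M hM => ?_⟩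
  rcases D.le_cases (M := M) le_top with h | h | h | h
  · exact absurd h hM.not_ge
  · exact absurd (h (hM.le (Subgroup.mem_zpowers x))) D.x_notMem_dih
  · exact absurd (h (hM.le (Subgroup.mem_zpowers x))) D.x_notMem_gquat
  · exact h

theorem isCoatom_dih : IsCoatom D.dih := by
  refine ⟨fun h => D.x_notMem_dih (by rw [h]; trivial), fun M hM => ?_⟩
  rcases D.le_cases (M := M) le_top with h | h | h | h
  · exact absurd (h (hM.le D.y_mem_dih)) D.y_notMem_zpowers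
  · exact absurd h hM.not_ge
  · exact absurd (h (hM.le D.y_mem_dih)) D.y_notMem_gquat
  · exact h

theorem isCoatom_gquat : IsCoatom D.gquat := by
  refine ⟨fun h => D.x_notMem_gquat (by rw [h]; trivial), fun M hM => ?_⟩
  rcases D.le_cases (M := M) le_top with h | h | h | h
  · exact absurd (h (hM.le D.xy_mem_gquat)) D.xy_notMem_zpowers
  · exact absurd (h (hM.le D.xy_mem_gquat)) D.xy_notMem_dih
  · exact absurd h hM.not_ge
  · exact h

theorem coatom_cases {M : Subgroup S} (hM : IsCoatom M) :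
    M = Subgroup.zpowers x ∨ M = D.dih ∨ M = D.gquat := by
  rcases D.le_cases (M := M) le_top with h | h | h | h
  · exact Or.inl (((hM.le_iff).mp h).resolve_left D.isCoatom_zpowers.1).symm
  · exact Or.inr (Or.inl (((hM.le_iff).mp h).resolve_left D.isCoatom_dih.1).symm)
  · exact Or.inr (Or.inr (((hM.le_iff).mp h).resolve_left D.isCoatom_gquat.1).symm)
  · exact absurd h hM.1

theorem mem_sq {v : S} : v ∈ Subgroup.zpowers (x ^ (2 : ℤ)) ↔ ∃ k : ℤ, v = x ^ (2 * k) := by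
  rw [Subgroup.mem_zpowers_iff]
  exact ⟨fun ⟨k, hk⟩ => ⟨k, by rw [← hk, zpow_mul]⟩, fun ⟨k, hk⟩ => ⟨k, by rw [hk, zpow_mul]⟩⟩

theorem sq_le_of_shift {M : Subgroup S} (h : x ^ (2 - 4 * (e : ℤ)) ∈ M) :
    Subgroup.zpowers (x ^ (2 : ℤ)) ≤ M := by
  rw [Subgroup.zpowers_le]
  have := zpow_mem h (1 + 2 * (e : ℤ))
  rw [← zpow_mul] at this
  rwa [D.zpow_eq_of (j := (2 - 4 * (e : ℤ)) * (1 + 2 * e)) (e : ℤ) (by ring)]

theorem commutator_eq : commutator S = Subgroup.zpowers (x ^ (2 : ℤ)) := by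
  apply le_antisymm
  · rw [commutator_def, Subgroup.commutator_le]
    intro u _ v _
    rw [D.mem_sq]
    have e1 : ⁅u, v⁆ = u * v * u⁻¹ * v⁻¹ := commutatorElement_def u v
    obtain ⟨i, rfl | rfl⟩ := D.cases (v := u) trivial <;>
      obtain ⟨j, rfl | rfl⟩ := D.cases (v := v) trivial
    · exact ⟨0, by rw [e1]; group⟩
    · refine ⟨i * (1 - 2 * e), ?_⟩
      rw [e1, D.a_conj_b, D.b_inv, D.b_mul_b]
      exact D.zpow_eq_of (-(2 * e - 1) * j) (by ring)
    · refine ⟨j * (2 * e - 1), ?_⟩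
      rw [e1, D.b_conj_a, ← zpow_neg, ← zpow_add]
      ring_nf
    · refine ⟨(2 * e - 1) * j + i * (1 - 2 * e), ?_⟩
      rw [e1, D.b_conj_b, D.b_inv, D.b_mul_b]
      exact D.zpow_eq_of (-(2 * e - 1) * j) (by ring)
  · apply D.sq_le_of_shift
    have h : ⁅x, y⁆ ∈ commutator S := Subgroup.commutator_mem_commutator trivial trivial
    have e2 : ⁅x, y⁆ = x ^ (2 - 4 * (e : ℤ)) := by
      calc ⁅x, y⁆ = x ^ (1 : ℤ) * (x ^ (0 : ℤ) * y) * (x ^ (1 : ℤ))⁻¹ * y⁻¹ := by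
            rw [commutatorElement_def]; group
        _ = _ := by
            rw [D.a_conj_b, D.yinv, mul_assoc, D.yy, mul_one]
            ring_nf
    rwa [e2] at h

theorem center_eq : Subgroup.center S = Subgroup.zpowers (x ^ (4 * e : ℤ)) := by
  ext v
  rw [Subgroup.mem_center_iff]
  constructor
  · intro h
    obtain ⟨j, rfl⟩ : ∃ j : ℤ, v = x ^ j := by
      refine D.commute_x_pow (i := 1) trivial (fun ⟨k, hk⟩ => ?_) (h _).symm
      rw [mul_assoc] at hk; omega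
    have hc : Commute (x ^ j) (x ^ (2 * (0 : ℤ)) * y) := (h _).symm
    obtain ⟨m, hm | hm⟩ := D.mem_four.mp (D.mem_four_of_commute trivial hc)
    · exact Subgroup.mem_zpowers_iff.mpr ⟨m, by rw [← zpow_mul]; exact hm.symm⟩
    · exact absurd hm (D.a_ne_b _ _)
  · intro hv g
    obtain ⟨m, rfl⟩ := Subgroup.mem_zpowers_iff.mp hv
    exact (((D.c_comm (v := g) trivial).zpow_left m).eq).symm

end Cfsg.Agent.TwoFusion36.IsQD
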