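import Cfsg.Agent.TwoFusion36.Wreathed

/-!
# Subgroups of the wreathed group (helper36)
-/

set_option linter.unusedSectionVars false

namespace Cfsg.Agent.TwoFusion36.IsWr

variable {G : Type*} [Group G] {S : Subgroup G} {f : ℕ} {x y z : G} (D : IsWr S f x y z)
include D

theorem xy_zpow (a : ℤ) : (x * y) ^ a = x ^ a * y ^ a := D.comm.mul_zpow a

theorem mem_diag {v : G} : v ∈ Subgroup.zpowers (x * y) ↔ ∃ a : ℤ, v = x ^ a * y ^ a := by
  rw [Subgroup.mem_zpowers_iff]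
  exact ⟨fun ⟨a, ha⟩ => ⟨a, by rw [← ha, D.xy_zpow]⟩, fun ⟨a, ha⟩ => ⟨a, by rw [ha, D.xy_zpow]⟩⟩

theorem orderOf_xy : orderOf (x * y) = 4 * f := by
  apply Nat.dvd_antisymm
  · apply orderOf_dvd_of_pow_eq_one
    rw [← zpow_natCast, D.xy_zpow, D.u_eq_one]
    exact ⟨⟨1, by push_cast; ring⟩, ⟨1, by push_cast; ring⟩⟩
  · have := pow_orderOf_eq_one (x * y)
    rw [← zpow_natCast, D.xy_zpow, D.u_eq_one] at this
    exact_mod_cast this.1

theorem not_dvd_one : ¬ (4 * f : ℤ) ∣ 1 - 0 := by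
  rintro ⟨p, hp⟩
  rw [mul_assoc] at hp
  omega

theorem eq_diag_of_comm {v : G} (hv : v ∈ S) (hz : Commute v z) (hx : Commute v x) :
    v ∈ Subgroup.zpowers (x * y) := by
  rw [D.mem_diag]
  obtain ⟨i, j, rfl | rfl⟩ := D.cases hv
  · refine ⟨i, D.diag_of_dvd ?_⟩
    rw [D.z_eq] at hz
    exact D.commute_u_v.mp hz
  · have hx' : Commute (x ^ (1 : ℤ) * y ^ (0 : ℤ)) (x ^ i * y ^ j * z) := by simpa using hx.symm
    exact absurd (D.commute_u_v.mp hx') D.not_dvd_one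

theorem center_map : (Subgroup.center S).map S.subtype = Subgroup.zpowers (x * y) := by
  ext v
  constructor
  · rintro ⟨u, hu, rfl⟩
    have h := Subgroup.mem_center_iff.mp hu
    exact D.eq_diag_of_comm u.2 (congrArg Subtype.val (h ⟨z, D.hz⟩)).symm
      (congrArg Subtype.val (h ⟨x, D.hx⟩)).symm
  · intro hv
    obtain ⟨a, rfl⟩ := D.mem_diag.mp hv
    exact ⟨⟨_, D.u_mem a a⟩, Subgroup.mem_center_iff.mpr fun s =>
      Subtype.ext (D.diag_comm a s.2).eq.symm, rfl⟩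

theorem diag_le : Subgroup.zpowers (x * y) ≤ S := Subgroup.zpowers_le.mpr (mul_mem D.hx D.hy)

theorem not_le_abel {X : Subgroup G} (hXS : X ≤ S) (hX : ¬ IsMulCommutative X) :
    ∃ i j : ℤ, x ^ i * y ^ j * z ∈ X := by
  by_contra h
  push Not at h
  refine hX ⟨⟨fun u v => Subtype.ext ?_⟩⟩
  have hU : ∀ w : X, (w : G) ∈ D.abel := by
    intro w
    obtain ⟨i, j, hw | hw⟩ := D.cases (hXS w.2)
    · exact ⟨i, j, hw⟩
    · exact absurd (hw ▸ w.2) (h i j)
  exact (D.abel_comm (hU u) (hU v)).eq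

/-- The centre of a non-abelian subgroup of `S` is diagonal. -/
theorem center_le_diag {X : Subgroup G} (hXS : X ≤ S) (hX : ¬ IsMulCommutative X) :
    (Subgroup.center X).map X.subtype ≤ Subgroup.zpowers (x * y) := by
  rintro _ ⟨⟨v, hv⟩, hvc, rfl⟩
  have hc : ∀ u ∈ X, Commute v u := fun u hu =>
    (congrArg Subtype.val (Subgroup.mem_center_iff.mp hvc ⟨u, hu⟩)).symm
  show v ∈ _
  obtain ⟨i, j, rfl | rfl⟩ := D.cases (hXS hv)
  · obtain ⟨a, b, hab⟩ := D.not_le_abel hXS hX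
    rw [D.mem_diag]
    exact ⟨i, D.diag_of_dvd (D.commute_u_v.mp (hc _ hab))⟩
  · exfalso
    refine hX ⟨⟨fun s t => Subtype.ext ?_⟩⟩
    show (s : G) * t = t * s
    -- every element of `X` is diagonal, or diagonal times `v`
    have key : ∀ w : X, (∃ a : ℤ, (w : G) = x ^ a * y ^ a) ∨
        ∃ a : ℤ, (w : G) = x ^ a * y ^ a * (x ^ i * y ^ j * z) := by
      intro w
      obtain ⟨a, b, hw | hw⟩ := D.cases (hXS w.2)
      · have := hc _ w.2
        rw [hw] at this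
        exact Or.inl ⟨a, hw.trans (D.diag_of_dvd (D.commute_u_v.mp this.symm))⟩
      · have h2 := hc _ (mul_mem w.2 (inv_mem hv))
        rw [hw, D.v_inv, D.v_mul_v] at h2
        refine Or.inr ⟨a + -i, ?_⟩
        rw [← D.diag_of_dvd (D.commute_u_v.mp h2.symm), hw, D.u_mul_v]
        ring_nf
    rcases key s with ⟨a, ha⟩ | ⟨a, ha⟩ <;> rcases key t with ⟨b, hb⟩ | ⟨b, hb⟩
    · exact ha ▸ hb ▸ (D.diag_comm a (D.u_mem b b)).eq
    · exact ha ▸ hb ▸ (D.diag_comm a (mul_mem (D.u_mem b b) (D.v_mem i j))).eq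
    · exact ha ▸ hb ▸ (D.diag_comm b (mul_mem (D.u_mem a a) (D.v_mem i j))).eq.symm
    · have h1 := D.diag_comm b (D.v_mem i j)
      have h2 := D.diag_comm a (D.v_mem i j)
      rw [ha, hb]
      exact ((((D.diag_comm a (D.u_mem b b)).mul_right h2).mul_left
        (h1.symm.mul_right (Commute.refl _))).eq)

/-- Subgroups above the centre, outside the abelian maximal subgroup. -/
theorem exists_eq_dsub {X : Subgroup G} (hXS : X ≤ S) (hZ : Subgroup.zpowers (x * y) ≤ X)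
    {a b : ℤ} (hab : x ^ a * y ^ b * z ∈ X) :
    ∃ d : ℕ, (d : ℤ) ∣ (4 * f : ℤ) ∧ X = D.dsub d (a - b) := by
  let H : AddSubgroup ℤ :=
    { carrier := {t | x ^ t ∈ X}
      zero_mem' := by simp
      add_mem' := fun {s t} hs ht => by
        show x ^ (s + t) ∈ X
        rw [zpow_add]; exact mul_mem hs ht
      neg_mem' := fun {s} hs => by
        show x ^ (-s) ∈ X
        rw [zpow_neg]; exact inv_mem hs }
  obtain ⟨c, hc⟩ := Int.subgroup_cyclic H
  have hH : ∀ t : ℤ, x ^ t ∈ X ↔ (c.natAbs : ℤ) ∣ t := by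
    intro t
    rw [Int.natAbs_dvd]
    show t ∈ H ↔ _
    rw [hc, AddSubgroup.mem_closure_singleton]
    exact ⟨fun ⟨n, hn⟩ => ⟨n, by rw [← hn, smul_eq_mul, mul_comm]⟩,
      fun ⟨n, hn⟩ => ⟨n, by rw [hn, smul_eq_mul, mul_comm]⟩⟩
  have hd : (c.natAbs : ℤ) ∣ (4 * f : ℤ) := (hH _).mp (by
    have h4 : x ^ (4 * f : ℤ) = 1 := orderOf_dvd_iff_zpow_eq_one.mp (by rw [D.ordx]; simp)
    rw [h4]; exact one_mem X)
  refine ⟨c.natAbs, hd, ?_⟩
  have hdiag : ∀ j : ℤ, x ^ j * y ^ j ∈ X := fun j => hZ (D.mem_diag.mpr ⟨j, rfl⟩)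
  have hu : ∀ i j : ℤ, x ^ i * y ^ j ∈ X ↔ (c.natAbs : ℤ) ∣ i - j := by
    intro i j
    rw [← hH]
    have e : x ^ i * y ^ j = x ^ (i - j) * (x ^ j * y ^ j) := by
      rw [← mul_assoc, ← zpow_add, sub_add_cancel]
    rw [e]
    exact X.mul_mem_cancel_right (hdiag j)
  ext v
  constructor
  · intro hv
    obtain ⟨i, j, rfl | rfl⟩ := D.cases (hXS hv)
    · exact (D.u_mem_dsub hd).mpr ((hu i j).mp hv)
    · rw [D.v_mem_dsub hd]
      have := mul_mem hv (inv_mem hab)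
      rw [D.v_inv, D.v_mul_v, hu] at this
      rwa [show i + -a - (j + -b) = i - j - (a - b) by ring] at this
  · rintro ⟨i, j, ⟨rfl, h⟩ | ⟨rfl, h⟩⟩
    · exact (hu i j).mpr h
    · have h2 := mul_mem ((hu (i - a) (j - b)).mpr (by
        rwa [show i - a - (j - b) = i - j - (a - b) by ring])) hab
      rwa [D.u_mul_v, sub_add_cancel, sub_add_cancel] at h2

theorem dvd_cases {d : ℕ} (hd : (d : ℤ) ∣ (4 * f : ℤ)) : d ∣ f ∨ d = 2 * f ∨ d = 4 * f := by
  obtain ⟨k, hk⟩ := D.hpow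
  have hd' : d ∣ 4 * f := by exact_mod_cast hd
  have : d ∣ 2 ^ (k + 2) := by
    rwa [show 2 ^ (k + 2) = 4 * f by rw [hk]; ring]
  obtain ⟨r, hr, rfl⟩ := (Nat.dvd_prime_pow Nat.prime_two).mp this
  rcases (by omega : r ≤ k ∨ r = k + 1 ∨ r = k + 2) with h | rfl | rfl
  · exact Or.inl (hk ▸ pow_dvd_pow 2 h)
  · exact Or.inr (Or.inl (by rw [hk]; ring))
  · exact Or.inr (Or.inr (by rw [hk]; ring))

/-- A quaternion subgroup of order eight times the centre. -/
theorem quat_sup {Q : Subgroup G} (hQS : Q ≤ S) (e : Q ≃* QuaternionGroup 2) :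
    ∃ a : ℤ, 2 ∣ a ∧ Q ⊔ Subgroup.zpowers (x * y) = D.dsub (2 * f : ℕ) a := by
  set Z := Subgroup.zpowers (x * y) with hZ
  set X := Q ⊔ Z with hXdef
  have hXS : X ≤ S := sup_le hQS D.diag_le
  have hQnc : ¬ IsMulCommutative Q := by
    intro h
    obtain ⟨p, q, hpq⟩ : ∃ p q : QuaternionGroup 2, p * q ≠ q * p := by decide
    apply hpq
    have := congrArg e (h.is_comm.comm (e.symm p) (e.symm q))
    simpa using this
  obtain ⟨a, b, hab⟩ := D.not_le_abel hQS hQnc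
  obtain ⟨d, hd, hX⟩ := D.exists_eq_dsub hXS le_sup_right (Subgroup.mem_sup_left hab)
  have hQ4 : ∀ q ∈ Q, q ^ 4 = 1 := fun q hq => by
    have h : ∀ p : QuaternionGroup 2, p ^ 4 = 1 := by decide
    have := h (e ⟨q, hq⟩)
    rw [← map_pow, MulEquiv.map_eq_one_iff] at this
    exact congrArg Subtype.val this
  have hnorm : Q ≤ Subgroup.normalizer (Z : Set G) := by
    intro q hq
    rw [Subgroup.mem_normalizer_iff]
    intro v
    have key : ∀ w ∈ Z, q * w * q⁻¹ = w := fun w hw => by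
      obtain ⟨t, rfl⟩ := D.mem_diag.mp hw
      rw [← (D.diag_comm t (hQS hq)).eq]; group
    constructor
    · intro hv; rwa [key v hv]
    · intro hv
      have h2 := key _ hv
      have e2 : q * v * q⁻¹ = v := mul_left_cancel (mul_right_cancel h2)
      rwa [e2] at hv
  have hmul : ∀ v ∈ X, ∃ q ∈ Q, ∃ t : ℤ, v = q * (x ^ t * y ^ t) := by
    intro v hv
    have hv' : v ∈ (↑(Q ⊔ Z) : Set G) := hv
    rw [Subgroup.coe_mul_of_left_le_normalizer_right Q Z hnorm] at hv'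
    obtain ⟨q, hq, w, hw, rfl⟩ := hv'
    obtain ⟨t, rfl⟩ := D.mem_diag.mp hw
    exact ⟨q, hq, t, rfl⟩
  have hexp : ∀ v ∈ X, v ^ (4 * f) = 1 := by
    intro v hv
    obtain ⟨q, hq, t, rfl⟩ := hmul v hv
    rw [((D.diag_comm t (hQS hq)).symm).mul_pow, pow_mul q, hQ4 q hq, one_pow, one_mul,
      ← D.xy_zpow, ← zpow_natCast, ← zpow_mul, mul_comm, zpow_mul, zpow_natCast, ← D.orderOf_xy,
      pow_orderOf_eq_one, one_zpow]
  have hsq : ∀ v ∈ X, v * v ∈ Z := by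
    intro v hv
    obtain ⟨q, hq, t, rfl⟩ := hmul v hv
    have hq2 : q * q ∈ Z := by
      have h : ∀ p r : QuaternionGroup 2, p * p * r = r * (p * p) := by decide
      have hmem : (⟨q, hq⟩ : Q) * ⟨q, hq⟩ ∈ Subgroup.center Q :=
        Subgroup.mem_center_iff.mpr fun r => e.injective (by
          simp only [map_mul]
          exact (h _ _).symm)
      exact D.center_le_diag hQS hQnc ⟨_, hmem, rfl⟩
    have hc := D.diag_comm t (hQS hq)
    have e2 : q * (x ^ t * y ^ t) * (q * (x ^ t * y ^ t)) =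
        q * q * ((x ^ t * y ^ t) * (x ^ t * y ^ t)) := by
      rw [mul_assoc q, ← mul_assoc (x ^ t * y ^ t) q, hc.eq]; group
    rw [e2]
    exact mul_mem hq2 (mul_mem (D.mem_diag.mpr ⟨t, rfl⟩) (D.mem_diag.mpr ⟨t, rfl⟩))
  have hd2 : d = 2 * f := by
    have hg : x ^ ((d : ℤ)) * y ^ (0 : ℤ) ∈ X := hX ▸ (D.u_mem_dsub hd).mpr (by simp)
    obtain ⟨t, ht⟩ := D.mem_diag.mp (hsq _ hg)
    rw [D.u_mul] at ht
    obtain ⟨h1, h2⟩ := D.u_congr.mp ht
    have h3 := dvd_sub h1 h2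
    rw [show (d : ℤ) + d - t - ((0 : ℤ) + 0 - t) = 2 * d by ring] at h3
    have h3' : 4 * f ∣ 2 * d := by exact_mod_cast h3
    rcases D.dvd_cases hd with h | h | h
    · exfalso
      have h4 : 4 * f ∣ 2 * f := h3'.trans (Nat.mul_dvd_mul_left 2 h)
      have := Nat.le_of_dvd (by have := D.one_le; omega) h4
      have := D.one_le; omega
    · exact h
    · exfalso
      subst h
      apply hQnc
      have hm : ∀ q : Q, ((q : G) ∈ Z) ∨ ∃ t : ℤ, (q : G) = x ^ t * y ^ t * (x ^ a * y ^ b * z) := by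
        intro q
        have hd4 : ((4 * f : ℕ) : ℤ) = 4 * (f : ℤ) := by push_cast; ring
        have hq : (q : G) ∈ D.dsub (4 * f : ℕ) (a - b) := hX ▸ Subgroup.mem_sup_left q.2
        rw [hd4] at hq
        obtain ⟨i, j, ⟨hi, hij⟩ | ⟨hi, hij⟩⟩ := hq
        · exact Or.inl (D.mem_diag.mpr ⟨i, hi.trans (D.diag_of_dvd hij)⟩)
        · refine Or.inr ⟨i - a, hi.trans ?_⟩
          rw [D.u_mul_v, sub_add_cancel, D.v_congr]
          exact ⟨by simp, by rw [show j - (i - a + b) = -(i - j - (a - b)) by ring]; exact dvd_neg.mpr hij⟩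
      refine ⟨⟨fun s t => Subtype.ext ?_⟩⟩
      show (s : G) * t = t * s
      rcases hm s with hs | ⟨m, hs⟩
      · obtain ⟨m, hm'⟩ := D.mem_diag.mp hs
        rw [hm']; exact (D.diag_comm m (hQS t.2)).eq
      · rcases hm t with ht | ⟨n, ht⟩
        · obtain ⟨n, hn'⟩ := D.mem_diag.mp ht
          rw [hn']; exact (D.diag_comm n (hQS s.2)).eq.symm
        · rw [hs, ht]
          exact ((((D.diag_comm m (D.u_mem n n)).mul_right (D.diag_comm m (D.v_mem a b))).mul_left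
            ((D.diag_comm n (D.v_mem a b)).symm.mul_right (Commute.refl _))).eq)
  refine ⟨a - b, ?_, by rw [hX, hd2]⟩
  have h := hexp _ (Subgroup.mem_sup_left hab)
  rw [show 4 * f = 2 * (2 * f) by ring, pow_mul, sq, D.v_sq, ← D.xy_zpow, ← zpow_natCast,
    ← zpow_mul, D.xy_zpow, D.u_eq_one] at h
  obtain ⟨⟨p, hp⟩, -⟩ := h
  have h2 : (2 * f : ℤ) * (a + b) = (2 * f) * (2 * p) := by push_cast at hp; linarith
  have h3 := mul_left_cancel₀ (mul_ne_zero two_ne_zero D.f_ne) h2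
  exact ⟨p - b, by linarith⟩

end Cfsg.Agent.TwoFusion36.IsWr
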