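import Cfsg.Agent.TwoFusion36.Centralizer
import Cfsg.Agent.Lib.Components.ZStarTwo
import Cfsg.Agent.Lib.Components.ZStarInst
import Cfsg.Prelude.Def_TwoFusion

/-!
# The centre of the Sylow subgroup modulo the core (helper36)
-/

set_option linter.unusedSectionVars false

namespace Cfsg.Agent.TwoFusion36

variable {G : Type*} [Group G] [Finite G]

/-- A subgroup of isolated elements of a Sylow 2-subgroup is central modulo the odd core. -/
theorem commute_mod_core (S : Sylow 2 G) (Z : Subgroup G) (hZS : Z ≤ S)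
    (hiso : ∀ v ∈ Z, ∀ g : G, g * v * g⁻¹ ∈ (S : Subgroup G) → g * v * g⁻¹ = v)
    (g : G) {v : G} (hv : v ∈ Z) : g * v * g⁻¹ * v⁻¹ ∈ Cfsg.oddCore G := by
  set π := QuotientGroup.mk' (Cfsg.oddCore G) with hπ
  have hc : π v ∈ Subgroup.center (G ⧸ Cfsg.oddCore G) :=
    Components.mem_center_of_isolated Components.zStarProperty
      Thompson.pPrimeCore_quotient_pPrimeCore
      (S.mapSurjective (QuotientGroup.mk'_surjective _)) ⟨v, hZS hv, rfl⟩
      (fun i g hg => by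
        rw [← map_pow] at hg ⊢
        exact Components.isolated_map_of_odd S _ Thompson.card_pPrimeCore_coprime
          (pow_mem (hZS hv) i) (hiso _ (pow_mem hv i)) g hg)
  rw [← QuotientGroup.eq_one_iff, ← QuotientGroup.mk'_apply]
  simp only [map_mul, map_inv]
  rw [Subgroup.mem_center_iff.mp hc (π g), mul_inv_cancel_right, mul_inv_cancel]

theorem core_sup_normal (S : Sylow 2 G) (Z : Subgroup G) (hZS : Z ≤ S)
    (hiso : ∀ v ∈ Z, ∀ g : G, g * v * g⁻¹ ∈ (S : Subgroup G) → g * v * g⁻¹ = v) :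
    (Cfsg.oddCore G ⊔ Z).Normal := by
  refine ⟨fun n hn g => ?_⟩
  obtain ⟨o, ho, v, hv, rfl⟩ := Subgroup.mem_sup_of_normal_left.mp hn
  rw [show g * (o * v) * g⁻¹ = g * o * g⁻¹ * (g * v * g⁻¹ * v⁻¹) * v by group]
  exact Subgroup.mul_mem_sup (mul_mem ((inferInstance : (Cfsg.oddCore G).Normal).conj_mem o ho g)
    (commute_mod_core S Z hZS hiso g hv)) hv

theorem eq_core_mul_centralizer (S : Sylow 2 G) (Z : Subgroup G) (hZS : Z ≤ S)
    (hZc : ∀ a ∈ Z, ∀ b ∈ Z, Commute a b)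
    (hiso : ∀ v ∈ Z, ∀ g : G, g * v * g⁻¹ ∈ (S : Subgroup G) → g * v * g⁻¹ = v) (h : G) :
    ∃ o ∈ Cfsg.oddCore G, ∃ c ∈ Subgroup.centralizer (Z : Set G), h = o * c := by
  set L := Cfsg.oddCore G ⊔ Z with hL
  have hLn : L.Normal := core_sup_normal S Z hZS hiso
  have hZ2 : IsPGroup 2 Z := S.isPGroup'.to_le hZS
  have hidx : ¬ 2 ∣ Z.relIndex L := by
    intro hd
    have h1 : Z.relIndex L ∣ Nat.card (Cfsg.oddCore G) := by
      have h2 : Nat.card (Cfsg.oddCore G) * (Cfsg.oddCore G).relIndex L = Nat.card L := by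
        rw [Subgroup.relIndex, ← Nat.card_congr
          (Subgroup.subgroupOfEquivOfLe (le_sup_left : Cfsg.oddCore G ≤ L)).toEquiv]
        exact Subgroup.card_mul_index _
      have h3 : Nat.card Z * Z.relIndex L = Nat.card L := by
        rw [Subgroup.relIndex, ← Nat.card_congr
          (Subgroup.subgroupOfEquivOfLe (le_sup_right : Z ≤ L)).toEquiv]
        exact Subgroup.card_mul_index _
      have h4 : (Cfsg.oddCore G).relIndex L ∣ Nat.card Z := by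
        rw [hL, sup_comm, Subgroup.relIndex_sup_right]
        exact Subgroup.relIndex_dvd_card _ _
      obtain ⟨d, hd⟩ := h4
      refine ⟨d, Nat.eq_of_mul_eq_mul_left (Nat.card_pos : 0 < Nat.card Z) ?_⟩
      rw [← mul_assoc, h3, ← h2, mul_assoc, ← hd, mul_comm]
    exact Nat.two_dvd_ne_zero.mpr (Nat.odd_iff.mp
      (Nat.coprime_two_right.mp Thompson.card_pPrimeCore_coprime)) (hd.trans h1)
  have hRL : Z.map (MulAut.conj h).toMonoidHom ≤ L := by
    rintro _ ⟨v, hv, rfl⟩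
    exact hLn.conj_mem v (le_sup_right (a := Cfsg.oddCore G) hv) h
  obtain ⟨m, hm, hmR⟩ := exists_conj_into le_sup_right hZ2 hidx hRL (hZ2.map _)
  have hc : ∀ v ∈ Z, m * h * v * (m * h)⁻¹ = v := fun v hv => hiso v hv _ (hZS (by
    rw [show m * h * v * (m * h)⁻¹ = m * (h * v * h⁻¹) * m⁻¹ by group]
    exact hmR _ ⟨v, hv, rfl⟩))
  obtain ⟨o, ho, ζ, hζ, hmo⟩ := Subgroup.mem_sup_of_normal_left.mp (inv_mem hm)
  refine ⟨o, ho, ζ * (m * h), Subgroup.mem_centralizer_iff.mpr fun v hv => ?_, ?_⟩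
  · have h1 : m * h * v = v * (m * h) := mul_inv_eq_iff_eq_mul.mp (hc v hv)
    rw [← mul_assoc v, (hZc v hv ζ hζ).eq, mul_assoc ζ v, ← h1, mul_assoc ζ (m * h)]
  · rw [← mul_assoc, hmo, inv_mul_cancel_left]

namespace WrSylow

variable {S : Sylow 2 G} {f : ℕ} {x y z : G} (W : WrSylow S f x y z)
include W

theorem uFix_of_not_isConj
    (h : ¬ IsConj (x ^ (2 * f : ℤ) * y ^ (2 * f : ℤ)) (x ^ (2 * f : ℤ) * y ^ (0 : ℤ))) : W.UFix :=
  W.uFix_or_uMove.resolve_right fun hU => h (W.isConj_c_u1 hU)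

theorem center_isolated
    (hc : ¬ IsConj (x ^ (2 * f : ℤ) * y ^ (2 * f : ℤ)) (x ^ (2 * f : ℤ) * y ^ (0 : ℤ)))
    {v : G} (hv : v ∈ (Subgroup.center (S : Subgroup G)).map (S : Subgroup G).subtype) (g : G)
    (hg : g * v * g⁻¹ ∈ (S : Subgroup G)) : g * v * g⁻¹ = v := by
  rw [W.wr.center_map] at hv
  obtain ⟨k, rfl⟩ := W.wr.mem_diag.mp hv
  exact W.diag_fixed (W.uFix_of_not_isConj hc) hg rfl

theorem not_isConj_of_weaklyClosed (h : ∀ Z₀ : Subgroup G,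
    Z₀ ≤ (Subgroup.center (S : Subgroup G)).map (S : Subgroup G).subtype →
    Cfsg.IsWeaklyClosed Z₀ (S : Subgroup G)) :
    ¬ IsConj (x ^ (2 * f : ℤ) * y ^ (2 * f : ℤ)) (x ^ (2 * f : ℤ) * y ^ (0 : ℤ)) := by
  have D := W.wr
  intro hc
  obtain ⟨g, hg⟩ := isConj_iff.mp hc
  set c := x ^ (2 * f : ℤ) * y ^ (2 * f : ℤ) with hcdef
  obtain ⟨-, h2⟩ := h (Subgroup.zpowers c) (by
    rw [D.center_map, Subgroup.zpowers_le]; exact D.mem_diag.mpr ⟨_, rfl⟩)
  have hmap : (Subgroup.zpowers c).map (MulAut.conj g).toMonoidHom =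
      Subgroup.zpowers (x ^ (2 * f : ℤ) * y ^ (0 : ℤ)) := by
    rw [MonoidHom.map_zpowers]; exact congrArg Subgroup.zpowers hg
  have h3 := h2 g (by rw [hmap, Subgroup.zpowers_le]; exact D.u_mem _ _)
  rw [hmap] at h3
  obtain ⟨m, hm⟩ := Subgroup.mem_zpowers_iff.mp (h3 ▸ Subgroup.mem_zpowers _)
  rw [hcdef, (D.comm.zpow_zpow _ _).mul_zpow, ← zpow_mul, ← zpow_mul, D.u_congr] at hm
  obtain ⟨⟨p, hp⟩, ⟨q, hq⟩⟩ := hm
  exact D.not_dvd_half ⟨q - p, by linarith⟩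

theorem not_isConj_of_isolated {t : G} (htS : t ∈ (S : Subgroup G))
    (ht : Cfsg.IsIsolatedInvolution t) :
    ¬ IsConj (x ^ (2 * f : ℤ) * y ^ (2 * f : ℤ)) (x ^ (2 * f : ℤ) * y ^ (0 : ℤ)) := by
  have D := W.wr
  have ht2 : t * t = 1 := by rw [← sq, ← ht.1, pow_orderOf_eq_one]
  rcases D.sq_one htS ht2 with h | h | h | h | ⟨i, j, h, hij⟩
  · have := ht.1; rw [h, orderOf_one] at this; omega
  · intro hc
    obtain ⟨g, hg⟩ := isConj_iff.mp hc
    have := ht.2 g (by rw [h, hg]; exact D.abel_comm ⟨_, _, rfl⟩ ⟨_, _, rfl⟩)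
    rw [h, hg] at this
    exact absurd this W.u1_ne_c
  · exfalso
    have hz : z * (x ^ (2 * f : ℤ) * y ^ (0 : ℤ)) * z⁻¹ = x ^ (0 : ℤ) * y ^ (2 * f : ℤ) := by
      rw [D.z_mul, mul_inv_cancel_right]
    have := ht.2 z (by rw [h, hz]; exact D.abel_comm ⟨_, _, rfl⟩ ⟨_, _, rfl⟩)
    rw [h, hz] at this
    exact W.u2_ne_u1 this
  · exfalso
    have := ht.2 z (by rw [h, D.u2_conj]; exact D.abel_comm ⟨_, _, rfl⟩ ⟨_, _, rfl⟩)
    rw [h, D.u2_conj] at this
    exact W.u2_ne_u1 this.symm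
  · exfalso
    have hcomm : Commute t (x ^ (2 * f : ℤ) * y ^ (0 : ℤ) * t *
        (x ^ (2 * f : ℤ) * y ^ (0 : ℤ))⁻¹) := by
      show _ * _ = _ * _
      rw [h, D.u_conj_v, D.v_mul_v, D.v_mul_v, D.u_congr]
      exact ⟨⟨-1, by ring⟩, ⟨1, by ring⟩⟩
    have := ht.2 _ hcomm
    rw [h, D.u_conj_v, D.v_congr] at this
    obtain ⟨⟨p, hp⟩, -⟩ := this
    exact D.not_dvd_half ⟨p, by linarith⟩

end WrSylow

namespace QDSylow

variable {S : Sylow 2 G} {e : ℕ} {x y : G} (W : QDSylow S e x y)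
include W

theorem center_cases {v : G}
    (hv : v ∈ (Subgroup.center (S : Subgroup G)).map (S : Subgroup G).subtype) :
    v = 1 ∨ v = x ^ (4 * e : ℤ) := by
  have D := W.qd
  obtain ⟨u, hu, rfl⟩ := hv
  have h := Subgroup.mem_center_iff.mp hu
  have hy' : Commute (u : G) (x ^ (2 * (0 : ℤ)) * y) := by
    simpa [Commute, SemiconjBy] using (congrArg Subtype.val (h ⟨y, D.hy⟩)).symm
  have hx' : Commute (u : G) (x ^ (1 : ℤ)) := by
    simpa [Commute, SemiconjBy] using (congrArg Subtype.val (h ⟨x, D.hx⟩)).symm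
  obtain ⟨j, hj⟩ := D.commute_x_pow u.2 (fun ⟨k, hk⟩ => by rw [mul_assoc] at hk; omega) hx'
  obtain ⟨m, hm | hm⟩ := D.mem_four.mp (D.mem_four_of_commute u.2 hy')
  swap
  · exact absurd (hj.symm.trans hm) (D.a_ne_b _ _)
  rcases eq_or_ne (u : G) 1 with h1 | h1
  · exact Or.inl h1
  have ho : orderOf (u : G) = 2 := by
    refine orderOf_eq_prime ?_ h1
    rw [hm, sq, ← zpow_add, D.zpow_eq_one]
    exact ⟨m, by ring⟩
  rcases D.invol_class u.2 ho with h | ⟨k, h⟩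
  · exact Or.inr h
  · exact absurd (hm.symm.trans h) (D.a_ne_b _ _)

theorem center_isolated (hc : ¬ IsConj (x ^ (4 * e : ℤ)) y)
    {v : G} (hv : v ∈ (Subgroup.center (S : Subgroup G)).map (S : Subgroup G).subtype) (g : G)
    (hg : g * v * g⁻¹ ∈ (S : Subgroup G)) : g * v * g⁻¹ = v := by
  have D := W.qd
  rcases W.center_cases hv with rfl | rfl
  · group
  rcases D.invol_class hg (((MulAut.conj g).orderOf_eq _).trans D.orderOf_c) with h | ⟨k, h⟩
  · exact h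
  · obtain ⟨s, -, hs⟩ := D.conj_rep_even k
    exact absurd ((isConj_iff.mpr ⟨g, h⟩).trans (isConj_iff.mpr ⟨s, hs⟩)) hc

theorem not_isConj_of_weaklyClosed (h : ∀ Z₀ : Subgroup G,
    Z₀ ≤ (Subgroup.center (S : Subgroup G)).map (S : Subgroup G).subtype →
    Cfsg.IsWeaklyClosed Z₀ (S : Subgroup G)) : ¬ IsConj (x ^ (4 * e : ℤ)) y := by
  have D := W.qd
  intro hc
  obtain ⟨g, hg⟩ := isConj_iff.mp hc
  obtain ⟨-, h2⟩ := h (Subgroup.zpowers (x ^ (4 * e : ℤ))) (by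
    rw [Subgroup.zpowers_le]
    exact ⟨⟨_, D.a_mem _⟩, Subgroup.mem_center_iff.mpr fun s =>
      Subtype.ext (D.c_comm s.2).eq.symm, rfl⟩)
  have hmap : (Subgroup.zpowers (x ^ (4 * e : ℤ))).map (MulAut.conj g).toMonoidHom =
      Subgroup.zpowers y := by
    rw [MonoidHom.map_zpowers]; exact congrArg Subgroup.zpowers hg
  have h3 := h2 g (by rw [hmap, Subgroup.zpowers_le]; exact D.hy)
  rw [hmap] at h3
  obtain ⟨m, hm⟩ := W.mem_zc.mp (h3 ▸ Subgroup.mem_zpowers y)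
  exact D.a_ne_b _ 0 (hm.symm.trans (by rw [zpow_zero, one_mul]))

theorem not_isConj_of_isolated {t : G} (htS : t ∈ (S : Subgroup G))
    (ht : Cfsg.IsIsolatedInvolution t) : ¬ IsConj (x ^ (4 * e : ℤ)) y := by
  have D := W.qd
  rcases D.invol_class htS ht.1 with h | ⟨k, h⟩
  · intro hc
    obtain ⟨g, hg⟩ := isConj_iff.mp hc
    have := ht.2 g (by rw [h, hg]; exact D.c_comm D.hy)
    rw [h, hg] at this
    exact W.y_ne_c this
  · exfalso
    have e1 : x ^ (2 * e : ℤ) * (x ^ (2 * k) * y) * (x ^ (2 * e : ℤ))⁻¹ =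
        x ^ (4 * e : ℤ) * (x ^ (2 * k) * y) := by
      rw [D.a_conj_b, ← mul_assoc, ← zpow_add]
      exact D.b_congr.mpr ⟨-(e : ℤ), by ring⟩
    have := ht.2 (x ^ (2 * e : ℤ)) (by
      rw [h, e1]
      exact ((D.c_comm (D.b_mem _)).symm.mul_right (Commute.refl _)))
    rw [h, e1, mul_eq_right] at this
    exact D.c_ne_one this

end QDSylow

end Cfsg.Agent.TwoFusion36
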