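import Cfsg.Agent.ZStar.SL23Section
import Cfsg.Agent.TwoFusion36.QD
import Cfsg.Agent.Lib.Thompson.Cores
import Cfsg.Agent.Lib.Fitting.Minimal
import Cfsg.Agent.Lib.Components.GenFitting
import Cfsg.Prelude.Def_Solvable

/-!
# Solvable groups with dihedral or semidihedral Sylow 2-subgroup and central involution (helper36)
-/

set_option linter.unusedSectionVars false
set_option linter.style.haveILetI false

namespace Cfsg.Agent.TwoFusion36.SolvDih

open Cfsg

variable {G : Type*} [Group G]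

/-- `T` has a cyclic subgroup `⟨a₀⟩` of index two, outside of which all squares lie in `⟨z⟩`, and
`z` is its only central involution. -/
structure Shape (T : Subgroup G) (a₀ z : G) : Prop where
  mem : a₀ ∈ T
  zmem : z ∈ Subgroup.zpowers a₀
  z_ne : z ≠ 1
  z_sq : z * z = 1
  out_sq : ∀ x ∈ T, x ∉ Subgroup.zpowers a₀ → x * x = 1 ∨ x * x = z
  out_mul : ∀ x ∈ T, ∀ w ∈ T, x ∉ Subgroup.zpowers a₀ → w ∉ Subgroup.zpowers a₀ →
    x⁻¹ * w ∈ Subgroup.zpowers a₀
  center : ∀ x, x ∈ T ⊓ Subgroup.centralizer (T : Set G) ↔ x = 1 ∨ x = z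

theorem shape_of_dihedral {T : Subgroup G} {n : ℕ} (hn : 3 ≤ n) (he : Even n)
    (e : ↥T ≃* DihedralGroup n) : ∃ a₀ z : G, Shape T a₀ z := by
  haveI : NeZero n := ⟨by omega⟩
  let φ : DihedralGroup n →* G := T.subtype.comp e.symm.toMonoidHom
  have hφ : Function.Injective φ := T.subtype_injective.comp e.symm.injective
  have hmem : ∀ u, φ u ∈ T := fun u => (e.symm u).2
  have hsurj : ∀ x ∈ T, ∃ u, φ u = x := fun x hx => ⟨e ⟨x, hx⟩, by simp [φ]⟩
  have hr : ∀ i : ℤ, φ (DihedralGroup.r (i : ZMod n)) = φ (DihedralGroup.r 1) ^ i := fun i => by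
    rw [← map_zpow, DihedralGroup.r_one_zpow]
  obtain ⟨k, hk⟩ := he
  have hzp : ∀ i, φ (DihedralGroup.r i) ∈ Subgroup.zpowers (φ (DihedralGroup.r 1)) := fun i => by
    obtain ⟨i, rfl⟩ := ZMod.intCast_surjective i
    exact Subgroup.mem_zpowers_iff.mpr ⟨i, (hr i).symm⟩
  have hout : ∀ x ∈ T, x ∉ Subgroup.zpowers (φ (DihedralGroup.r 1)) →
      ∃ i, φ (DihedralGroup.sr i) = x := fun x hx hxA => by
    obtain ⟨u, rfl⟩ := hsurj x hx
    cases u with
    | r i => exact absurd (hzp i) hxA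
    | sr i => exact ⟨i, rfl⟩
  have hkk : (k : ZMod n) + (k : ZMod n) = 0 := by
    rw [← Nat.cast_add, ← hk, ZMod.natCast_self]
  have hk0 : (k : ZMod n) ≠ 0 := by
    intro h
    rw [ZMod.natCast_eq_zero_iff] at h
    exact absurd (Nat.le_of_dvd (by omega) h) (by omega)
  refine ⟨φ (DihedralGroup.r 1), φ (DihedralGroup.r k), hmem _, hzp _, ?_, ?_, ?_, ?_, ?_⟩
  · intro h
    rw [← map_one φ, DihedralGroup.one_def] at h
    exact hk0 (DihedralGroup.r.inj (hφ h))
  · rw [← map_mul, DihedralGroup.r_mul_r, hkk, ← DihedralGroup.one_def, map_one]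
  · intro x hx hxA
    obtain ⟨i, rfl⟩ := hout x hx hxA
    exact Or.inl (by rw [← map_mul, DihedralGroup.sr_mul_self, map_one])
  · intro x hx w hw hxA hwA
    obtain ⟨i, rfl⟩ := hout x hx hxA
    obtain ⟨j, rfl⟩ := hout w hw hwA
    rw [← map_inv, ← map_mul, DihedralGroup.inv_sr, DihedralGroup.sr_mul_sr]
    exact hzp _
  · intro x
    constructor
    · rintro ⟨hx, hc⟩
      obtain ⟨u, rfl⟩ := hsurj x hx
      have h1 := hφ (a₁ := DihedralGroup.r 1 * u) (a₂ := u * DihedralGroup.r 1)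
        (by rw [map_mul, map_mul]; exact Subgroup.mem_centralizer_iff.mp hc _ (hmem _))
      have h2 := hφ (a₁ := DihedralGroup.sr 0 * u) (a₂ := u * DihedralGroup.sr 0)
        (by rw [map_mul, map_mul]; exact Subgroup.mem_centralizer_iff.mp hc _ (hmem _))
      cases u with
      | r i =>
        rw [DihedralGroup.sr_mul_r, DihedralGroup.r_mul_sr, DihedralGroup.sr.injEq, zero_add,
          zero_sub, eq_neg_iff_add_eq_zero] at h2
        obtain ⟨i, rfl⟩ := ZMod.intCast_surjective i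
        rw [← Int.cast_add, ZMod.intCast_zmod_eq_zero_iff_dvd, hk, Nat.cast_add] at h2
        obtain ⟨l, hl⟩ := h2
        have hi : i = (k : ℤ) * l := by linarith
        rcases Int.even_or_odd' l with ⟨q, rfl | rfl⟩
        · left
          rw [show ((i : ℤ) : ZMod n) = 0 by
            rw [ZMod.intCast_zmod_eq_zero_iff_dvd, hi, hk]; exact ⟨q, by push_cast; ring⟩,
            ← DihedralGroup.one_def, map_one]
        · right
          rw [show ((i : ℤ) : ZMod n) = ((k : ℤ) : ZMod n) by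
            rw [ZMod.intCast_eq_intCast_iff_dvd_sub, hi, hk]; exact ⟨-q, by push_cast; ring⟩,
            Int.cast_natCast]
      | sr i =>
        rw [DihedralGroup.r_mul_sr, DihedralGroup.sr_mul_r, DihedralGroup.sr.injEq] at h1
        have h3 : ((2 : ℕ) : ZMod n) = 0 := by push_cast; linear_combination -h1
        rw [ZMod.natCast_eq_zero_iff] at h3
        exact absurd (Nat.le_of_dvd two_pos h3) (by omega)
    · rintro (rfl | rfl)
      · exact one_mem _
      · refine ⟨hmem _, Subgroup.mem_centralizer_iff.mpr fun y hy => ?_⟩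
        obtain ⟨u, rfl⟩ := hsurj y hy
        rw [← map_mul, ← map_mul]
        congr 1
        cases u with
        | r i => rw [DihedralGroup.r_mul_r, DihedralGroup.r_mul_r, add_comm]
        | sr i =>
          rw [DihedralGroup.sr_mul_r, DihedralGroup.r_mul_sr, DihedralGroup.sr.injEq]
          linear_combination hkk

theorem shape_of_isQD {T : Subgroup G} {e : ℕ} {x y : G} (D : IsQD T e x y) :
    ∃ a₀ z : G, Shape T a₀ z := by
  have he := D.one_le
  obtain ⟨k, hk⟩ := D.hpow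
  refine ⟨x, x ^ (4 * (e : ℤ)), D.hx, Subgroup.zpow_mem_zpowers x _, ?_, ?_, ?_, ?_, ?_⟩
  · intro h
    obtain ⟨q, hq⟩ := D.zpow_eq_one.mp h
    rcases le_or_gt q 0 with h0 | h0 <;> nlinarith
  · rw [← zpow_add, D.zpow_eq_one]; exact ⟨1, by ring⟩
  · intro v hv hvA
    obtain ⟨i, rfl | rfl⟩ := D.cases hv
    · exact absurd (Subgroup.zpow_mem_zpowers x i) hvA
    · rcases Int.even_or_odd' i with ⟨q, rfl | rfl⟩ <;> rw [D.b_mul_b]
      · exact Or.inl (D.zpow_eq_one.mpr ⟨q, by ring⟩)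
      · exact Or.inr (D.zpow_eq_of q (by ring))
  · intro v hv w hw hvA hwA
    obtain ⟨i, rfl | rfl⟩ := D.cases hv
    · exact absurd (Subgroup.zpow_mem_zpowers x i) hvA
    obtain ⟨j, rfl | rfl⟩ := D.cases hw
    · exact absurd (Subgroup.zpow_mem_zpowers x j) hwA
    rw [D.b_inv, D.b_mul_b]
    exact Subgroup.zpow_mem_zpowers x _
  · intro v
    constructor
    · rintro ⟨hv, hc⟩
      have hcx := Subgroup.mem_centralizer_iff.mp hc x D.hx
      have hcy := Subgroup.mem_centralizer_iff.mp hc y D.hy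
      obtain ⟨i, rfl | rfl⟩ := D.cases hv
      · rw [D.y_mul, mul_left_inj, D.zpow_congr] at hcy
        obtain ⟨l, hl⟩ := hcy
        have h4 : (4 * e : ℤ) ∣ i := by
          have h5 : (4 * e : ℤ) ∣ i * (2 * e - 1) := ⟨l, by linarith⟩
          refine IsCoprime.dvd_of_dvd_mul_right ?_ h5
          have : (4 * e : ℤ) = 2 ^ (k + 2) := by rw [hk]; push_cast; ring
          rw [this]
          exact IsCoprime.pow_left ⟨(e : ℤ), -1, by ring⟩
        obtain ⟨j, rfl⟩ := h4
        rcases Int.even_or_odd' j with ⟨q, rfl | rfl⟩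
        · exact Or.inl (D.zpow_eq_one.mpr ⟨q, by ring⟩)
        · exact Or.inr (D.zpow_eq_of q (by ring))
      · have h : x * (x ^ i * y) * x⁻¹ = x ^ i * y := by rw [hcx, mul_inv_cancel_right]
        have h2 := D.a_conj_b 1 i
        rw [zpow_one, h, D.b_congr] at h2
        obtain ⟨l, hl⟩ := h2
        exfalso
        have h3 : (4 : ℤ) * (e * l) = 2 * e - 1 := by linarith
        omega
    · rintro (rfl | rfl)
      · exact one_mem _
      · refine ⟨zpow_mem D.hx _, Subgroup.mem_centralizer_iff.mpr fun w hw => ?_⟩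
        obtain ⟨i, rfl | rfl⟩ := D.cases hw
        · rw [← zpow_add, ← zpow_add, add_comm]
        · rw [D.b_mul_a, ← mul_assoc (x ^ (4 * (e : ℤ))), ← zpow_add, mul_left_inj]
          exact D.zpow_eq_of (2 * e - 1) (by ring)

/-- `Q₈` extended by a rotation of order three is `SL(2,3)`. -/
theorem equiv_sl23 [Finite G] {a b y : G} (h : ZStar.Q8Rotation a b y) (hy3 : y ^ 3 = 1)
    (U : Subgroup G) (haU : a ∈ U) (hbU : b ∈ U) (hyU : y ∈ U)
    (hU : ∀ x ∈ U, ∃ (u : QuaternionGroup 2) (i : Fin 3),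
      x = quatLift a b (by rw [show 2 * 2 = 2 + 2 from rfl, pow_add, pow_two]; exact h.pow_four)
        (by rw [pow_two]; exact h.sq_eq) h.inverts u * y ^ (i : ℕ)) :
    Nonempty (↥U ≃* Matrix.SpecialLinearGroup (Fin 2) (ZMod 3)) := by
  set f : QuaternionGroup 2 →* G := quatLift a b
    (by rw [show 2 * 2 = 2 + 2 from rfl, pow_add, pow_two]; exact h.pow_four)
    (by rw [pow_two]; exact h.sq_eq) h.inverts with hf
  have fa : f (QuaternionGroup.a 1) = a := by
    rw [hf]
    show (zpw a _ (1 : ZMod (2 * 2))).toMul = a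
    rw [show (1 : ZMod (2 * 2)) = ((1 : ℤ) : ZMod (2 * 2)) by simp, zpw_intCast, zpow_one]
  have fb : f (QuaternionGroup.xa 0) = b := by
    rw [hf]
    show b * (zpw a _ (0 : ZMod (2 * 2))).toMul = b
    simp
  have hgen : ∀ u : QuaternionGroup 2, ∃ i : Fin 4, u = QuaternionGroup.a 1 ^ (i : ℕ) ∨
      u = QuaternionGroup.xa 0 * QuaternionGroup.a 1 ^ (i : ℕ) := by decide +kernel
  let rot : QuaternionGroup 2 →* QuaternionGroup 2 := MonoidHom.mk' ZStar.q8Rot ZStar.q8Rot_mul
  have hrot : ∀ u, y * f u * y⁻¹ = f (ZStar.q8Rot u) := by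
    have e1 : ((MulAut.conj y).toMonoidHom.comp f) (QuaternionGroup.a 1) =
        (f.comp rot) (QuaternionGroup.a 1) := by
      show y * f (QuaternionGroup.a 1) * y⁻¹ = f (ZStar.q8Rot (QuaternionGroup.a 1))
      rw [show ZStar.q8Rot (QuaternionGroup.a 1) = QuaternionGroup.xa 0 from rfl, fa, fb, h.conj_a]
    have e2 : ((MulAut.conj y).toMonoidHom.comp f) (QuaternionGroup.xa 0) =
        (f.comp rot) (QuaternionGroup.xa 0) := by
      show y * f (QuaternionGroup.xa 0) * y⁻¹ = f (ZStar.q8Rot (QuaternionGroup.xa 0))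
      rw [show ZStar.q8Rot (QuaternionGroup.xa 0) = QuaternionGroup.a 1 * QuaternionGroup.xa 0
        from rfl, fb, map_mul, fa, fb, h.conj_b]
    intro u
    show ((MulAut.conj y).toMonoidHom.comp f) u = (f.comp rot) u
    obtain ⟨i, rfl | rfl⟩ := hgen u
    · rw [map_pow, map_pow, e1]
    · rw [map_mul, map_mul, map_pow, map_pow, e1, e2]
  have hfU : ∀ u, f u ∈ U := fun u => by
    obtain ⟨i, rfl | rfl⟩ := hgen u
    · rw [map_pow, fa]; exact pow_mem haU _
    · rw [map_mul, map_pow, fa, fb]; exact mul_mem hbU (pow_mem haU _)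
  have hinj : Function.Injective f := by
    rw [injective_iff_map_eq_one]
    intro u hu
    by_contra hu1
    have ha2 : f (QuaternionGroup.a 2) = 1 := by
      rcases ZStar.q8_ne_one u hu1 with e | e
      · rw [← e, hu]
      · rw [← e, map_mul, hu, one_mul]
    rw [show (QuaternionGroup.a 2 : QuaternionGroup 2) =
      QuaternionGroup.a 1 * QuaternionGroup.a 1 from rfl, map_mul, fa] at ha2
    exact h.sq_ne ha2
  let f' : QuaternionGroup 2 →* ↥U := f.codRestrict U hfU
  let y' : ↥U := ⟨y, hyU⟩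
  have hy' : y' ^ 3 = 1 := Subtype.ext (by simpa [y'] using hy3)
  have hyne : y ≠ 1 := by
    intro e
    have h1 := h.conj_a
    rw [e, one_mul, inv_one, mul_one] at h1
    have h2 := h.inverts
    rw [← h1, mul_inv_cancel_right, eq_inv_iff_mul_eq_one] at h2
    exact h.sq_ne h2
  have hbij : Function.Bijective fun q : QuaternionGroup 2 × Fin 3 => f' q.1 * y' ^ (q.2 : ℕ) := by
    have hs : Function.Surjective fun q : QuaternionGroup 2 × Fin 3 => f' q.1 * y' ^ (q.2 : ℕ) := by
      rintro ⟨x, hx⟩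
      obtain ⟨u, i, hxu⟩ := hU x hx
      exact ⟨(u, i), Subtype.ext (by simp [f', y', hxu, hf])⟩
    haveI := Fintype.ofFinite ↥U
    refine (Fintype.bijective_iff_surjective_and_card _).mpr ⟨hs, ?_⟩
    refine le_antisymm ?_ (Fintype.card_le_of_surjective _ hs)
    have h8 : 8 ∣ Fintype.card ↥U := by
      have hf' : Function.Injective f' := fun u v e => hinj (congrArg Subtype.val e)
      have := Subgroup.card_dvd_of_injective f' hf'
      simpa [Nat.card_eq_fintype_card, QuaternionGroup.card] using this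
    have h3 : 3 ∣ Fintype.card ↥U := by
      haveI : Fact (Nat.Prime 3) := ⟨by norm_num⟩
      have ho : orderOf y' = 3 := orderOf_eq_prime hy' fun e => hyne (congrArg Subtype.val e)
      exact ho ▸ orderOf_dvd_card
    have h24 : 24 ∣ Fintype.card ↥U := Nat.Coprime.mul_dvd_of_dvd_of_dvd (by norm_num) h8 h3
    rw [Fintype.card_prod, QuaternionGroup.card, Fintype.card_fin]
    exact Nat.le_of_dvd Fintype.card_pos h24
  obtain ⟨t, ht3, htrot, htgen⟩ := ZStar.sl23_exists_rotation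
  have hbij' : Function.Bijective fun q : QuaternionGroup 2 × Fin 3 =>
      FG72.SL2Three.quat q.1 * t ^ (q.2 : ℕ) := by
    rw [Fintype.bijective_iff_surjective_and_card]
    refine ⟨fun g => ?_, by decide +kernel⟩
    obtain ⟨u, i, hi⟩ := htgen g
    exact ⟨(u, i), hi.symm⟩
  exact ZStar.equiv_of_rotation hy' ht3 (f := f') (fun u => Subtype.ext (hrot u))
    (f' := FG72.SL2Three.quat) htrot hbij hbij'

/-- `Aut Q₈` has at most `24` elements. -/
theorem card_mulAut_q8 : Nat.card (MulAut (QuaternionGroup 2)) ≤ 24 := by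
  let F : MulAut (QuaternionGroup 2) →
      {p : QuaternionGroup 2 × QuaternionGroup 2 // p.1 * p.2 ≠ p.2 * p.1} := fun α =>
    ⟨(α (QuaternionGroup.a 1), α (QuaternionGroup.xa 0)), fun e => by
      rw [← map_mul, ← map_mul] at e
      exact absurd (α.injective e) (by decide)⟩
  have hF : Function.Injective F := fun α β e => by
    have h1 : α (QuaternionGroup.a 1) = β (QuaternionGroup.a 1) :=
      congrArg (fun q => q.1.1) e
    have h2 : α (QuaternionGroup.xa 0) = β (QuaternionGroup.xa 0) :=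
      congrArg (fun q => q.1.2) e
    have hgen : ∀ u : QuaternionGroup 2, ∃ i : Fin 4, u = QuaternionGroup.a 1 ^ (i : ℕ) ∨
        u = QuaternionGroup.xa 0 * QuaternionGroup.a 1 ^ (i : ℕ) := by decide +kernel
    refine MulEquiv.ext fun u => ?_
    obtain ⟨i, rfl | rfl⟩ := hgen u
    · rw [map_pow, map_pow, h1]
    · rw [map_mul, map_mul, map_pow, map_pow, h1, h2]
  refine (Nat.card_le_card_of_injective F hF).trans ?_
  rw [Nat.card_eq_fintype_card]
  decide +kernel

theorem main [Finite G] (hsol : IsSolvable G) (hO : Cfsg.oddCore G = ⊥) (T : Sylow 2 G) {a₀ z : G}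
    (hS : Shape (T : Subgroup G) a₀ z) (hne : (T : Subgroup G) ≠ ⊤)
    (hZ : ((T : Subgroup G) ⊓ Subgroup.centralizer ((T : Subgroup G) : Set G)).Normal) :
    ∃ U : Subgroup G, U.Normal ∧ Nonempty (↥U ≃* Matrix.SpecialLinearGroup (Fin 2) (ZMod 3)) := by
  haveI : Fact (Nat.Prime 2) := ⟨Nat.prime_two⟩
  have hzT := (hS.center z).mpr (Or.inr rfl)
  have hzc : ∀ g : G, g * z * g⁻¹ = z := fun g => by
    rcases (hS.center _).mp (hZ.conj_mem z hzT g) with h | h
    · exact absurd (conj_eq_one_iff.mp h) hS.z_ne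
    · exact h
  set Q := Cfsg.pCore 2 G with hQdef
  have hQn : Q.Normal := inferInstance
  have hQT : Q ≤ (T : Subgroup G) := Thompson.pCore_le_sylow T
  have hCQ : Subgroup.centralizer (Q : Set G) ≤ Q := by
    haveI : Group.IsSolvable G := hsol
    have h := Cfsg.Agent.Fitting.centralizer_fitting_le (G := G)
    rwa [Cfsg.Agent.Components.fitting_eq_pCore_of_pPrimeCore_eq_bot (p := 2) hO] at h
  have htwo : ∀ x ∈ Q, ∃ k, x ^ 2 ^ k = 1 := fun x hx => by
    obtain ⟨k, hk⟩ := (T.isPGroup'.to_le hQT) ⟨x, hx⟩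
    exact ⟨k, congrArg Subtype.val hk⟩
  have hzQ : z ∈ Q := by
    have hle : Subgroup.zpowers z ≤ Q := by
      haveI : (Subgroup.zpowers z).Normal := ⟨fun v hv g => by
        obtain ⟨i, rfl⟩ := Subgroup.mem_zpowers_iff.mp hv
        rw [← conj_zpow, hzc]
        exact Subgroup.zpow_mem_zpowers z i⟩
      exact Thompson.le_pCore inferInstance (T.isPGroup'.to_le (Subgroup.zpowers_le.mpr hzT.1))
    exact hle (Subgroup.mem_zpowers z)
  have hodd1 : ∀ g : G, Odd (orderOf g) → (∀ x ∈ Q, g * x = x * g) → g = 1 := by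
    intro g hg hc
    obtain ⟨k, hk⟩ := htwo g (hCQ (Subgroup.mem_centralizer_iff.mpr fun x hx => (hc x hx).symm))
    exact orderOf_eq_one_iff.mp (Nat.eq_one_of_dvd_coprimes
      (Nat.Coprime.pow_left k (Nat.coprime_two_left.mpr hg))
      (orderOf_dvd_of_pow_eq_one hk) dvd_rfl)
  -- an element of odd order
  obtain ⟨g, hgodd, hg1⟩ : ∃ g : G, Odd (orderOf g) ∧ g ≠ 1 := by
    have hi : (T : Subgroup G).index ≠ 1 := fun h => hne (Subgroup.index_eq_one.mp h)
    obtain ⟨q, hq, hqd⟩ := Nat.exists_prime_and_dvd hi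
    haveI := Fact.mk hq
    obtain ⟨g, hg⟩ := exists_prime_orderOf_dvd_card' (G := G) q
      (hqd.trans (Subgroup.index_dvd_card _))
    have hq2 : q ≠ 2 := fun e => T.not_dvd_index (e ▸ hqd)
    exact ⟨g, hg ▸ hq.odd_of_ne_two hq2, fun e => hq.one_lt.ne (by rw [← hg, e, orderOf_one])⟩
  have hgQ : ∀ x ∈ Q, g * x * g⁻¹ ∈ Q := fun x hx => hQn.conj_mem x hx g
  have hgz : g * z = z * g := mul_inv_eq_iff_eq_mul.mp (hzc g)
  -- the cyclic part of `Q`
  set A := Subgroup.zpowers a₀ with hA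
  haveI : IsCyclic ↥(A ⊓ Q : Subgroup G) :=
    isCyclic_of_injective (Subgroup.inclusion (inf_le_left : A ⊓ Q ≤ A))
      (Subgroup.inclusion_injective _)
  obtain ⟨c, hc⟩ := (Subgroup.isCyclic_iff_exists_zpowers_eq_top (A ⊓ Q : Subgroup G)).mp inferInstance
  have hcm : c ∈ A ⊓ Q := hc ▸ Subgroup.mem_zpowers c
  obtain ⟨hcA, hcQ⟩ : c ∈ A ∧ c ∈ Q := Subgroup.mem_inf.mp hcm
  have hcase : ∀ b ∈ Q, b ∉ A → ∀ x ∈ Q, ∃ i : ℤ, x = c ^ i ∨ x = b * c ^ i := by
    intro b hb hbA x hx
    by_cases hxA : x ∈ A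
    · obtain ⟨i, hi⟩ := Subgroup.mem_zpowers_iff.mp (hc.symm ▸ ⟨hxA, hx⟩ : x ∈ Subgroup.zpowers c)
      exact ⟨i, Or.inl hi.symm⟩
    · obtain ⟨i, hi⟩ := Subgroup.mem_zpowers_iff.mp (hc.symm ▸
        Subgroup.mem_inf.mpr ⟨hS.out_mul b (hQT hb) x (hQT hx) hbA hxA, mul_mem (inv_mem hb) hx⟩ :
        b⁻¹ * x ∈ Subgroup.zpowers c)
      exact ⟨i, Or.inr (by rw [hi, mul_inv_cancel_left])⟩
  -- `g` does not normalise the cyclic part
  have hbA : g * c * g⁻¹ ∉ A := by
    intro hbA
    have hB : ∀ x ∈ Subgroup.zpowers c, g * x * g⁻¹ ∈ Subgroup.zpowers c := by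
      intro x hx
      obtain ⟨i, rfl⟩ := Subgroup.mem_zpowers_iff.mp hx
      rw [← conj_zpow, hc]
      exact zpow_mem (⟨hbA, hgQ c hcQ⟩ : g * c * g⁻¹ ∈ A ⊓ Q) i
    have hgn : g ∈ Subgroup.normalizer (Subgroup.zpowers c : Set G) :=
      Subgroup.mem_normalizer_fintype hB
    have hgc : Commute g c := ZStar.commute_of_normalizes_zpowers
      (T.isPGroup'.to_le (Subgroup.zpowers_le.mpr (hQT hcQ))) hgn hgodd
    refine hg1 (hodd1 g hgodd ?_)
    by_cases hall : ∀ x ∈ Q, x ∈ A
    · intro x hx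
      obtain ⟨i, rfl⟩ := Subgroup.mem_zpowers_iff.mp (hc.symm ▸ ⟨hall x hx, hx⟩ :
        x ∈ Subgroup.zpowers c)
      exact (hgc.zpow_right i).eq
    push Not at hall
    obtain ⟨b, hb, hbA'⟩ := hall
    have hgb : Commute g b := by
      obtain ⟨i, hi | hi⟩ := hcase b hb hbA' _ (hgQ b hb)
      · exfalso
        refine hbA' ?_
        have : b = c ^ i := by
          have h2 : g * b * g⁻¹ = g * c ^ i * g⁻¹ := by
            rw [hi, (hgc.zpow_right i).eq, mul_inv_cancel_right]
          simpa using h2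
        rw [this]; exact zpow_mem hcA i
      · obtain ⟨k, hk⟩ := htwo (c ^ i) (zpow_mem hcQ i)
        exact ZStar.commute_of_coset_fix hgodd hk (hgc.zpow_right i).eq hi
    intro x hx
    obtain ⟨i, rfl | rfl⟩ := hcase b hb hbA' x hx
    · exact (hgc.zpow_right i).eq
    · exact (hgb.mul_right (hgc.zpow_right i)).eq
  set b := g * c * g⁻¹ with hb
  have hbQ : b ∈ Q := hgQ c hcQ
  have hbb : b * b = g * (c * c) * g⁻¹ := by rw [hb]; group
  have hcinv : ∀ v ∈ A, v * v = 1 → v = 1 ∨ v = z := by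
    intro v hv hv2
    by_contra hne
    push Not at hne
    exact hne.2 (congrArg Subtype.val (Involution.involution_unique_of_isCyclic
      (a := (⟨v, hv⟩ : A)) (b := ⟨z, hS.zmem⟩)
      (by rw [Subgroup.orderOf_mk]; exact Involution.orderOf_eq_two_iff'.mpr ⟨hv2, hne.1⟩)
      (by rw [Subgroup.orderOf_mk]; exact Involution.orderOf_eq_two_iff'.mpr ⟨hS.z_sq, hS.z_ne⟩)))
  have hcc : c * c = z := by
    rcases hS.out_sq b (hQT hbQ) hbA with h | h
    · exfalso
      rw [hbb, conj_eq_one_iff] at h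
      apply hbA
      rcases hcinv c hcA h with e | e
      · rw [hb, e, mul_one, mul_inv_cancel]; exact one_mem _
      · rw [hb, e, hzc]; exact hS.zmem
    · rw [hbb] at h
      have h' : g * (c * c) * g⁻¹ = g * z * g⁻¹ := by rw [h, hzc]
      simpa using h'
  have hbz : b * b = z := by rw [hbb, hcc, hzc]
  have hbc : b * c * b⁻¹ = c⁻¹ := by
    have hmem : b * c * b⁻¹ ∈ A := by
      have h1 : b⁻¹ ∉ A := fun h => hbA (by simpa using inv_mem h)
      have h2 : c * b⁻¹ ∉ A := fun h => h1 (by simpa using mul_mem (inv_mem hcA) h)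
      have := hS.out_mul b⁻¹ (inv_mem (hQT hbQ)) (c * b⁻¹)
        (mul_mem (hQT hcQ) (inv_mem (hQT hbQ))) h1 h2
      simpa [mul_assoc] using this
    obtain ⟨i, hi⟩ := Subgroup.mem_zpowers_iff.mp (hc.symm ▸
      Subgroup.mem_inf.mpr ⟨hmem, mul_mem (mul_mem hbQ hcQ) (inv_mem hbQ)⟩ : b * c * b⁻¹ ∈ Subgroup.zpowers c)
    have h4 : c ^ (4 : ℤ) = 1 := by
      rw [show (4 : ℤ) = 1 + 1 + (1 + 1) from rfl, zpow_add, zpow_add, zpow_one, hcc, hS.z_sq]
    have hred : c ^ i = c ^ (i % 4) := by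
      rw [← Int.emod_add_mul_ediv i 4]
      rw [zpow_add, zpow_mul, h4, one_zpow, mul_one, Int.emod_add_mul_ediv]
    have hsq : (c ^ i) * (c ^ i) = z := by
      rw [hi, show b * c * b⁻¹ * (b * c * b⁻¹) = b * (c * c) * b⁻¹ by group, hcc, hzc]
    have hcase' : i % 4 = 0 ∨ i % 4 = 1 ∨ i % 4 = 2 ∨ i % 4 = 3 := by omega
    rw [hred] at hsq hi
    rcases hcase' with e | e | e | e <;> rw [e] at hsq hi
    · rw [zpow_zero, one_mul] at hsq; exact absurd hsq.symm hS.z_ne
    · -- commuting case: `g` would fix `c`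
      exfalso
      rw [zpow_one] at hi
      have hcomm : Commute b c := (mul_inv_eq_iff_eq_mul.mp hi.symm)
      set w := c⁻¹ * b with hw
      have hww : w * w = 1 := by
        rw [hw, show c⁻¹ * b * (c⁻¹ * b) = c⁻¹ * (b * c⁻¹) * b by group, hcomm.inv_right.eq,
          show c⁻¹ * (c⁻¹ * b) * b = (c * c)⁻¹ * (b * b) by group, hcc, hbz, inv_mul_cancel]
      have hwA : w ∉ A := fun h => hbA (by simpa [hw] using mul_mem hcA h)
      have hwQ : w ∈ Q := mul_mem (inv_mem hcQ) hbQ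
      have hgw : g * w = w * g := by
        obtain ⟨j, hj | hj⟩ := hcase w hwQ hwA _ (hgQ w hwQ)
        · exfalso
          have hjA : g * w * g⁻¹ ∈ A := hj ▸ zpow_mem hcA j
          rcases hcinv _ hjA (by
            rw [show g * w * g⁻¹ * (g * w * g⁻¹) = g * (w * w) * g⁻¹ by group, hww]; group)
            with e1 | e1
          · rw [conj_eq_one_iff] at e1; exact hwA (e1 ▸ one_mem _)
          · have h' : g * w * g⁻¹ = g * z * g⁻¹ := by rw [e1, hzc]
            have : w = z := by simpa using h'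
            exact hwA (this ▸ hS.zmem)
        · have hjz : c ^ j = 1 ∨ c ^ j = z := by
            refine hcinv _ (zpow_mem hcA j) ?_
            have h1 : (w * c ^ j) * (w * c ^ j) = 1 := by
              rw [← hj, show g * w * g⁻¹ * (g * w * g⁻¹) = g * (w * w) * g⁻¹ by group, hww]; group
            have hwc : Commute w (c ^ j) :=
              (((Commute.refl c).inv_left).mul_left hcomm).zpow_right j
            rw [mul_assoc, ← mul_assoc (c ^ j), ← hwc.eq, mul_assoc w (c ^ j), ← mul_assoc, hww,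
              one_mul] at h1
            exact h1
          rcases hjz with e1 | e1 <;> rw [e1] at hj
          · exact mul_inv_eq_iff_eq_mul.mp (hj.trans (mul_one w))
          · exact ZStar.commute_of_coset_fix (k := 1) hgodd (by rw [pow_one, sq, hS.z_sq]) hgz hj
      obtain ⟨k, hk⟩ := htwo w hwQ
      have hgc : g * c = c * g :=
        ZStar.commute_of_coset_fix hgodd hk hgw (by rw [hw, mul_inv_cancel_left])
      exact hbA (by rw [hb, hgc, mul_inv_cancel_right]; exact hcA)
    · rw [← zpow_add, show (2 : ℤ) + 2 = 4 from rfl, h4] at hsq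
      exact absurd hsq.symm hS.z_ne
    · rw [show b * c * b⁻¹ = c ^ (3 : ℤ) from hi.symm, eq_inv_iff_mul_eq_one, ← zpow_add_one]
      exact h4
  -- `Q` is quaternion
  have hoc : orderOf c = 2 * 2 := orderOf_eq_prime_pow (p := 2) (n := 1)
    (by rw [pow_one, sq, hcc]; exact hS.z_ne)
    (by rw [show 2 ^ (1 + 1) = 2 + 2 from rfl, pow_add, sq, hcc, hS.z_sq])
  obtain ⟨e⟩ := nonempty_equiv_quaternion (m := 2) c b hoc (by rw [hbz, sq, hcc]) hbc
    (fun k h => hbA (h ▸ zpow_mem hcA k)) Q (fun v => ⟨fun hv => hcase b hbQ hbA v hv, by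
      rintro ⟨k, rfl | rfl⟩
      · exact zpow_mem hcQ k
      · exact mul_mem hbQ (zpow_mem hcQ k)⟩)
  obtain ⟨a₁, t, hq⟩ := ZStar.quatSylow_of_equiv e
  have hgN : g ∈ Subgroup.normalizer (Q : Set G) := Subgroup.mem_normalizer_fintype hgQ
  obtain ⟨a, b', y, hR, haQ, -, hQel⟩ := hq.exists_rotation (T.isPGroup'.to_le hQT) le_rfl hgN hgodd
    fun h => hg1 (hodd1 g hgodd fun x hx => (Subgroup.mem_centralizer_iff.mp h x hx).symm)
  have hb'Q : b' ∈ Q := hR.conj_a ▸ hQn.conj_mem a haQ y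
  -- the rotation has order three
  have hbab : b' * a * b' = a := by
    have h1 : b' * a = a⁻¹ * b' := mul_inv_eq_iff_eq_mul.mp hR.inverts
    rw [h1, mul_assoc, hR.sq_eq, inv_mul_cancel_left]
  have hcab : y * (a * b') * y⁻¹ = a := by
    rw [show y * (a * b') * y⁻¹ = y * a * y⁻¹ * (y * b' * y⁻¹) by group, hR.conj_a, hR.conj_b,
      ← mul_assoc]
    exact hbab
  have hy3 : y ^ 3 = 1 := by
    refine hodd1 _ (hR.odd.of_dvd_nat (orderOf_pow_dvd 3)) fun x hx => ?_
    have ha3 : Commute (y ^ 3) a := mul_inv_eq_iff_eq_mul.mp (by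
      calc y ^ 3 * a * (y ^ 3)⁻¹ = y * (y * (y * a * y⁻¹) * y⁻¹) * y⁻¹ := by
            rw [pow_succ, pow_two]; group
        _ = a := by rw [hR.conj_a, hR.conj_b, hcab])
    have hb3 : Commute (y ^ 3) b' := mul_inv_eq_iff_eq_mul.mp (by
      calc y ^ 3 * b' * (y ^ 3)⁻¹ = y * (y * (y * b' * y⁻¹) * y⁻¹) * y⁻¹ := by
            rw [pow_succ, pow_two]; group
        _ = b' := by rw [hR.conj_b, hcab, hR.conj_a])
    obtain ⟨i, rfl | rfl⟩ := hQel x hx
    · exact (ha3.zpow_right i).eq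
    · exact (hb3.mul_right (ha3.zpow_right i)).eq
  set U := Q ⊔ Subgroup.zpowers y with hUdef
  have hUel : ∀ x ∈ U, ∃ q ∈ Q, ∃ i : Fin 3, x = q * y ^ (i : ℕ) := by
    intro x hx
    obtain ⟨q, hq, r, hr, rfl⟩ := Subgroup.mem_sup_of_normal_left.mp hx
    obtain ⟨j, hj⟩ := Subgroup.mem_zpowers_iff.mp hr
    refine ⟨q, hq, ⟨(j % 3).toNat, by omega⟩, ?_⟩
    have hy3' : y ^ (3 : ℤ) = 1 := by exact_mod_cast hy3
    rw [← hj, ← zpow_natCast y, show (((j % 3).toNat : ℕ) : ℤ) = j % 3 by omega]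
    congr 1
    conv_lhs => rw [← Int.emod_add_mul_ediv j 3, zpow_add, zpow_mul, hy3', one_zpow, mul_one]
  have hUiso := equiv_sl23 hR hy3 U (le_sup_left (a := Q) haQ) (le_sup_left (a := Q) hb'Q)
    (le_sup_right (a := Q) (Subgroup.mem_zpowers y)) (fun x hx => by
      obtain ⟨q, hq, i, rfl⟩ := hUel x hx
      obtain ⟨k, rfl | rfl⟩ := hQel q hq
      · refine ⟨QuaternionGroup.a (k : ZMod (2 * 2)), i, ?_⟩
        show _ = (zpw a _ (k : ZMod (2 * 2))).toMul * _
        rw [zpw_intCast]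
      · refine ⟨QuaternionGroup.xa (k : ZMod (2 * 2)), i, ?_⟩
        show _ = b' * (zpw a _ (k : ZMod (2 * 2))).toMul * _
        rw [zpw_intCast])
  refine ⟨U, ?_, hUiso⟩
  obtain ⟨eU⟩ := hUiso
  have hU24 : Nat.card ↥U = 24 := by
    rw [Nat.card_congr eU.toEquiv, Nat.card_eq_fintype_card]; decide +kernel
  -- `G / Z(Q)` embeds in `Aut Q₈`
  let ψ : G →* MulAut ↥Q := MulAut.conjNormal
  have hker : Nat.card ψ.ker ≤ 2 := by
    have hle : ψ.ker ≤ Subgroup.zpowers z := by
      intro x hx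
      have hxc : ∀ q ∈ Q, x * q = q * x := fun q hq => by
        have := congrArg (fun α : MulAut ↥Q => ((α ⟨q, hq⟩ : ↥Q) : G)) (MonoidHom.mem_ker.mp hx)
        exact mul_inv_eq_iff_eq_mul.mp (by simpa [ψ] using this)
      have hxQ : x ∈ Q := hCQ (Subgroup.mem_centralizer_iff.mpr fun q hq => (hxc q hq).symm)
      have h1 := hxc b hbQ
      have h2 := hxc c hcQ
      obtain ⟨i, hi | hi⟩ := hcase b hbQ hbA x hxQ
      · rcases Int.even_or_odd' i with ⟨q, rfl | rfl⟩
        · rw [hi, zpow_mul, zpow_two, hcc]; exact Subgroup.zpow_mem_zpowers z q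
        · exfalso
          rw [hi] at h1
          have h3 : b * c * b⁻¹ = c := by
            have hcq : c ^ (2 * q + 1) = z ^ q * c := by rw [zpow_add_one, zpow_mul, zpow_two, hcc]
            rw [hcq] at h1
            have hzb : Commute (z ^ q) b :=
              Commute.zpow_left (show Commute z b from (mul_inv_eq_iff_eq_mul.mp (hzc b)).symm) q
            rw [mul_assoc, ← mul_assoc b, ← hzb.eq, mul_assoc (z ^ q) b] at h1
            rw [← mul_left_cancel h1, mul_inv_cancel_right]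
          rw [hbc, inv_eq_iff_mul_eq_one, hcc] at h3
          exact hS.z_ne h3
      · exfalso
        rw [hi] at h2
        have h3 : b * c = c * b := by
          have hcc' : Commute (c ^ i) c := (Commute.refl c).zpow_left i
          rw [mul_assoc, hcc'.eq, ← mul_assoc, ← mul_assoc c] at h2
          exact mul_right_cancel h2
        have h4 := hbc
        rw [h3, mul_inv_cancel_right, eq_inv_iff_mul_eq_one, hcc] at h4
        exact hS.z_ne h4
    refine (Nat.le_of_dvd Nat.card_pos (Subgroup.card_dvd_of_le hle)).trans ?_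
    rw [Nat.card_zpowers, Involution.orderOf_eq_two_iff'.mpr ⟨hS.z_sq, hS.z_ne⟩]
  have hG : Nat.card G ≤ 48 := by
    rw [Subgroup.card_eq_card_quotient_mul_card_subgroup ψ.ker]
    calc Nat.card (G ⧸ ψ.ker) * Nat.card ψ.ker ≤ 24 * 2 := by
          refine Nat.mul_le_mul ?_ hker
          refine (Nat.card_le_card_of_injective _ (QuotientGroup.kerLift_injective ψ)).trans ?_
          exact (le_of_eq (Nat.card_congr (MulAut.congr e).toEquiv)).trans card_mulAut_q8
      _ = 48 := rfl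
  have hidx : U.index ≤ 2 := by
    have := U.index_mul_card
    rw [hU24] at this
    omega
  rcases Nat.lt_or_ge U.index 2 with h | h
  · have h1 : U.index = 1 := by have := Subgroup.index_ne_zero_of_finite (H := U); omega
    rw [Subgroup.index_eq_one.mp h1]; infer_instance
  · exact Subgroup.normal_of_index_eq_two (le_antisymm hidx h)

end Cfsg.Agent.TwoFusion36.SolvDih
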