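import Cfsg.Agent.TwoFusion36.MetacyclicSub
import Cfsg.Agent.Fus93.Abelian
import Cfsg.Agent.Lib.Fusion.Alperin

/-!
# Saturated fusion systems over metacyclic 2-groups (helper36)
-/

set_option linter.unusedSectionVars false
set_option linter.style.haveILetI false

namespace Cfsg.Agent.TwoFusion36.MetacyclicFusion

open Cfsg Cfsg.Agent.Fusion
open Cfsg.Agent.TwoFusion36 (mulAut_pow_succ_apply)

universe u

/-- An automorphism of odd order of an abelian 2-group fixing all involutions is trivial. -/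
theorem eq_one_of_fix_involutions {P : Type u} [Group P] [Finite P] (hP : IsPGroup 2 P)
    (hc : ∀ a b : P, Commute a b) {α : MulAut P} (hodd : Odd (orderOf α))
    (hfix : ∀ v : P, v * v = 1 → α v = v) : α = 1 := by
  refine MulEquiv.ext fun v => ?_
  obtain ⟨k, hk⟩ := hP v
  induction k generalizing v with
  | zero => rw [pow_zero, pow_one] at hk; rw [hk, map_one, map_one]
  | succ k ih =>
    have h2 : α (v * v) = v * v := ih (v * v) (by rw [← sq, ← pow_mul, ← pow_succ', hk])
    set d := v⁻¹ * α v with hd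
    have hdd : d * d = 1 := by
      rw [hd, (hc (α v) v⁻¹).mul_mul_mul_comm, ← map_mul, h2]
      group
    have hdk : ∀ j : ℕ, (α ^ j) v = v * d ^ j := by
      intro j
      induction j with
      | zero => simp
      | succ j ihj =>
        rw [mulAut_pow_succ_apply, show α v = v * d by rw [hd]; group, map_mul, ihj,
          Metacyclic.aut_pow_apply_fixed _ (hfix d hdd) j, pow_succ, mul_assoc]
    have h3 := hdk (orderOf α)
    obtain ⟨j, hj⟩ := hodd
    rw [pow_orderOf_eq_one, hj, pow_succ, pow_mul, sq, hdd, one_pow, one_mul] at h3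
    have hd1 : d = 1 := by simpa using h3
    rw [hd, inv_mul_eq_one] at hd1
    exact hd1.symm

theorem commute_of_equiv {A B : Type*} [Group A] [CommGroup B] (e : A ≃* B) (a b : A) : Commute a b :=
  e.injective (by rw [map_mul, map_mul, mul_comm])

theorem homocyclic_facts {A : Type*} [Group A] {n : ℕ}
    (e : A ≃* Multiplicative (ZMod (2 ^ n)) × Multiplicative (ZMod (2 ^ n))) :
    (∀ a : A, a ^ 2 ^ n = 1) ∧ ∀ v : A, v * v = 1 → ∃ w : A, w ^ 2 ^ (n - 1) = v := by
  haveI : NeZero (2 ^ n) := ⟨by positivity⟩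
  have hkill : ∀ x : Multiplicative (ZMod (2 ^ n)), x ^ 2 ^ n = 1 := fun x => by
    apply Multiplicative.toAdd.injective
    rw [toAdd_pow, toAdd_one, nsmul_eq_mul, ZMod.natCast_self, zero_mul]
  have hroot : ∀ x : Multiplicative (ZMod (2 ^ n)), x * x = 1 → ∃ y, y ^ 2 ^ (n - 1) = x := by
    intro x hx
    obtain ⟨i, rfl⟩ : ∃ i : ℕ, Multiplicative.ofAdd (i : ZMod (2 ^ n)) = x :=
      ⟨(Multiplicative.toAdd x).val, by rw [ZMod.natCast_zmod_val]; rfl⟩
    rw [← ofAdd_add, ← Nat.cast_add, ofAdd_eq_one, ZMod.natCast_eq_zero_iff] at hx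
    rcases n with _ | n
    · exact ⟨Multiplicative.ofAdd (i : ZMod (2 ^ 0)), by simp⟩
    · obtain ⟨r, hr⟩ := hx
      refine ⟨Multiplicative.ofAdd (r : ZMod (2 ^ (n + 1))), ?_⟩
      rw [← ofAdd_nsmul, nsmul_eq_mul, ← Nat.cast_mul]
      congr 2
      rw [pow_succ] at hr
      simp only [Nat.add_sub_cancel]
      linarith
  constructor
  · intro a
    apply e.injective
    rw [map_pow, map_one]
    exact Prod.ext (by simpa using hkill (e a).1) (by simpa using hkill (e a).2)
  · intro v hv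
    have h : e v * e v = 1 := by rw [← map_mul, hv, map_one]
    obtain ⟨y₁, h₁⟩ := hroot (e v).1 (congrArg Prod.fst h)
    obtain ⟨y₂, h₂⟩ := hroot (e v).2 (congrArg Prod.snd h)
    refine ⟨e.symm (y₁, y₂), ?_⟩
    rw [← map_pow, MulEquiv.symm_apply_eq]
    exact Prod.ext (by simpa using h₁) (by simpa using h₂)

theorem quaternion_card : Nat.card (QuaternionGroup 2) = 8 := by
  rw [Nat.card_eq_fintype_card, QuaternionGroup.card]

theorem homocyclic_equiv_fun {A : Type*} [Group A] {n : ℕ}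
    (e : A ≃* Multiplicative (ZMod (2 ^ n)) × Multiplicative (ZMod (2 ^ n))) :
    ∃ m k : ℕ, Nonempty (A ≃* Multiplicative (Fin k → ZMod (2 ^ m))) := by
  let f : Multiplicative (ZMod (2 ^ n)) × Multiplicative (ZMod (2 ^ n)) ≃*
      Multiplicative (Fin 2 → ZMod (2 ^ n)) :=
    { toFun := fun p => Multiplicative.ofAdd ![Multiplicative.toAdd p.1, Multiplicative.toAdd p.2]
      invFun := fun q => (Multiplicative.ofAdd (Multiplicative.toAdd q 0),
        Multiplicative.ofAdd (Multiplicative.toAdd q 1))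
      left_inv := fun p => rfl
      right_inv := fun q => by
        apply Multiplicative.toAdd.injective
        funext i
        fin_cases i <;> rfl
      map_mul' := fun p q => by
        apply Multiplicative.toAdd.injective
        funext i
        fin_cases i <;> rfl }
  exact ⟨n, 2, ⟨e.trans f⟩⟩

variable {Ω : Type u} [Group Ω] {S : Subgroup Ω} [Finite S] {F : FusionSystem S}

theorem autGroup_self_le (hS : IsPGroup 2 S) (hF : F.IsSaturated 2) (hA : IsPGroup 2 (MulAut S)) :
    F.autGroup S ≤ (innerFusionSystem S).autGroup S := by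
  haveI : Fact (Nat.Prime 2) := ⟨Nat.prime_two⟩
  haveI := Fusion.finite_mulAut S
  rw [Fus93.inner_autGroup le_rfl]
  obtain ⟨-, R, hR⟩ := fullyAutomized_of_fullyNormalized hS hF fullyNormalized_self
  have htop : (R : Subgroup (F.autGroup S)) = ⊤ :=
    (R.is_maximal' ((hA.to_subgroup (F.autGroup S)).to_subgroup ⊤) le_top).symm
  intro α hα
  have h : (⟨α, hα⟩ : F.autGroup S) ∈ (autInducedBy S S).subgroupOf (F.autGroup S) :=
    hR ▸ htop.symm ▸ Subgroup.mem_top _
  exact h

theorem not_essential (hS : IsPGroup 2 S) (hm : Cfsg.IsMetacyclic S) (hsmall : ¬ Metacyclic.Small S)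
    {P : Subgroup Ω} (hP : F.IsEssential 2 P) (hPS : P < S) : False := by
  haveI : Fact (Nat.Prime 2) := ⟨Nat.prime_two⟩
  haveI := Fusion.finite_of_le hPS.le
  haveI := Fusion.finite_mulAut P
  obtain ⟨hcen, -, hn, E, hE⟩ := hP
  haveI := hn
  set ι : P →* S := Subgroup.inclusion hPS.le with hι
  have hιi : Function.Injective ι := Subgroup.inclusion_injective hPS.le
  have hP2 : IsPGroup 2 P := hS.of_injective ι hιi
  have hmP := Metacyclic.isMetacyclic_of_injective ι hιi hm
  have hAP : ¬ IsPGroup 2 (MulAut P) := fun h =>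
    not_exists_spe_of_isPGroup ((h.to_subgroup (F.autGroup P)).to_quotient _) E hE
  rcases Metacyclic.main _ P rfl hP2 hmP hAP with ⟨⟨e⟩⟩ | ⟨n, ⟨e⟩⟩
  · exact hsmall (Metacyclic.small_of_quaternion hS hm (ι.comp e.symm.toMonoidHom)
      (hιi.comp e.symm.injective))
  have hab : ∀ a b : P, Commute a b := commute_of_equiv e
  obtain ⟨hexp, hroot⟩ := homocyclic_facts e
  have hinn : ((Cfsg.Inn P).subgroupOf (F.autGroup P)) = ⊥ := by
    have h : Cfsg.Inn P = ⊥ := by
      refine (Subgroup.eq_bot_iff_forall _).mpr fun α hα => ?_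
      obtain ⟨a, rfl⟩ := hα
      refine MulEquiv.ext fun x => ?_
      show a * x * a⁻¹ = x
      rw [(hab a x).eq, mul_inv_cancel_right]
    rw [h, Subgroup.bot_subgroupOf]
  -- nothing fixes all involutions
  let K : Subgroup (F.autGroup P) :=
    { carrier := {α | ∀ v : P, v * v = 1 → (α : MulAut P) v = v}
      one_mem' := fun v _ => rfl
      mul_mem' := fun {α β} ha hb v hv => by
        show (α : MulAut P) ((β : MulAut P) v) = v
        rw [hb v hv, ha v hv]
      inv_mem' := fun {α} ha v hv => by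
        show (α : MulAut P).symm v = v
        rw [MulEquiv.symm_apply_eq, ha v hv] }
  haveI hKn : K.Normal := ⟨fun α ha β v hv => by
    show (β : MulAut P) ((α : MulAut P) ((β : MulAut P).symm v)) = v
    rw [ha _ (by rw [← map_mul, hv, map_one]), MulEquiv.apply_symm_apply]⟩
  have hKp : IsPGroup 2 K := by
    intro α
    obtain ⟨i, m, hm', hmn⟩ := Nat.exists_eq_two_pow_mul_odd (orderOf_pos α).ne'
    refine ⟨i, ?_⟩
    have hodd : Odd (orderOf ((α ^ 2 ^ i : K) : F.autGroup P).1) := by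
      refine hm'.of_dvd_nat (orderOf_dvd_of_pow_eq_one ?_)
      rw [← SubmonoidClass.coe_pow, ← SubmonoidClass.coe_pow, ← pow_mul, ← hmn, pow_orderOf_eq_one]
      rfl
    exact Subtype.ext (Subtype.ext (eq_one_of_fix_involutions hP2 hab hodd (α ^ 2 ^ i).2))
  have hKbot : K = ⊥ := by
    have hNbot := eq_bot_of_spe hE (hKn.map _ (QuotientGroup.mk'_surjective _)) (hKp.map _)
    rwa [Subgroup.map_eq_bot_iff, QuotientGroup.ker_mk', hinn, le_bot_iff] at hNbot
  have hker : ∀ g ∈ S, g ∈ Subgroup.normalizer (P : Set Ω) →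
      (∀ v : P, v * v = 1 → g * v * g⁻¹ = v) → g ∈ P := by
    intro g hg hgn hfix
    let α : MulAut P := Fusion.conjAutHom S P ⟨g, hg, hgn⟩
    have hαF : α ∈ F.autGroup P := autInducedBy_le_autGroup hPS.le
      (range_conjAutHom S P ▸ MonoidHom.mem_range.mpr ⟨_, rfl⟩)
    have hαK : (⟨α, hαF⟩ : F.autGroup P) ∈ K := fun v hv => Subtype.ext (hfix v hv)
    rw [hKbot, Subgroup.mem_bot] at hαK
    refine hcen.2 P (isConj_refl hPS.le) ⟨hg, Subgroup.mem_centralizer_iff.mpr fun x hx => ?_⟩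
    have h := congrArg (fun β : F.autGroup P => ((β.1 ⟨x, hx⟩ : P) : Ω)) hαK
    exact (mul_inv_eq_iff_eq_mul.mp (show g * x * g⁻¹ = x from h)).symm
  obtain ⟨g, hgN, hgP⟩ := SetLike.exists_of_lt (Fusion.lt_normalizerIn hS hPS)
  obtain ⟨hgS, hgn⟩ := hgN
  obtain ⟨u, hu, hmove⟩ : ∃ u : P, u * u = 1 ∧ g * u * g⁻¹ ≠ u := by
    by_contra h
    push Not at h
    exact hgP (hker g hgS hgn h)
  have hgc : ∀ v : P, g * (v : Ω) * g⁻¹ ∈ P := fun v => conj_mem_of_mem_normalizer hgn v.2
  have hu1 : u ≠ 1 := fun h => hmove (by rw [h]; simp)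
  set u' : P := ⟨g * u * g⁻¹, hgc u⟩ with hu'def
  have hu'2 : u' * u' = 1 := Subtype.ext (by
    show g * u * g⁻¹ * (g * u * g⁻¹) = 1
    rw [show g * u * g⁻¹ * (g * u * g⁻¹) = g * (u * u) * g⁻¹ by group, ← Subgroup.coe_mul, hu]
    simp)
  have hu'1 : u' ≠ 1 := fun h => hu1 (Subtype.ext
    (conj_eq_one_iff.mp (congrArg Subtype.val h : g * u * g⁻¹ = (1 : Ω))))
  have huu' : u ≠ u' := fun h => hmove (congrArg Subtype.val h).symm
  -- the four roots
  have hroots : ∀ v : P, v * v = 1 → v = 1 ∨ v = u ∨ v = u' ∨ v = u * u' := by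
    intro v hv
    by_contra h
    push Not at h
    have hs : u * u' * (u * u') = 1 := by rw [(hab u' u).mul_mul_mul_comm, hu, hu'2, one_mul]
    have hsub : ({1, u, u', u * u', v} : Set P) ⊆ {v : P | v * v = 1} := by
      intro w hw
      rcases hw with rfl | rfl | rfl | rfl | rfl
      exacts [one_mul 1, hu, hu'2, hs, hv]
    have h5 := Set.ncard_le_ncard hsub (Set.toFinite _)
    rw [Set.ncard_insert_of_notMem (by
        simp only [Set.mem_insert_iff, Set.mem_singleton_iff, not_or]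
        refine ⟨Ne.symm hu1, Ne.symm hu'1, fun e => huu' ?_, Ne.symm h.1⟩
        rw [eq_inv_of_mul_eq_one_left e.symm, inv_eq_of_mul_eq_one_right hu'2]),
      Set.ncard_insert_of_notMem (by
        simp only [Set.mem_insert_iff, Set.mem_singleton_iff, not_or]
        exact ⟨huu', fun e => hu'1 (mul_eq_left.mp e.symm), Ne.symm h.2.1⟩),
      Set.ncard_insert_of_notMem (by
        simp only [Set.mem_insert_iff, Set.mem_singleton_iff, not_or]
        exact ⟨fun e => hu1 (mul_eq_right.mp e.symm), Ne.symm h.2.2.1⟩),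
      Set.ncard_insert_of_notMem (by simpa using Ne.symm h.2.2.2), Set.ncard_singleton] at h5
    have h6 := Metacyclic.card_roots_le hmP hab
    rw [Nat.card_coe_set_eq] at h6
    omega
  have hgg : g * g ∈ P := by
    refine hker _ (mul_mem hgS hgS) (mul_mem hgn hgn) fun v hv => ?_
    have hfix : g * (g * (u : Ω) * g⁻¹) * g⁻¹ = u := by
      have hs : (⟨g * u' * g⁻¹, hgc u'⟩ : P) * ⟨g * u' * g⁻¹, hgc u'⟩ = 1 := Subtype.ext (by
        show g * u' * g⁻¹ * (g * u' * g⁻¹) = 1
        rw [show g * u' * g⁻¹ * (g * u' * g⁻¹) = g * ((u' : Ω) * u') * g⁻¹ by group,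
          ← Subgroup.coe_mul, hu'2]
        simp)
      rcases hroots _ hs with h | h | h | h
      · exact absurd (Subtype.ext (conj_eq_one_iff.mp (congrArg Subtype.val h :
          g * u' * g⁻¹ = (1 : Ω)))) hu'1
      · exact congrArg Subtype.val h
      · have h' : g * u' * g⁻¹ = g * u * g⁻¹ := congrArg Subtype.val h
        exact absurd (Subtype.ext (mul_left_cancel (mul_right_cancel h'))).symm huu'
      · -- a product of order three is impossible in a 2-group
        exfalso
        have e1 : g * (g * u * g⁻¹) * g⁻¹ = u * (g * u * g⁻¹) := congrArg Subtype.val h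
        have e2 : g * g * g * (u : Ω) * (g * g * g)⁻¹ = u := by
          calc g * g * g * (u : Ω) * (g * g * g)⁻¹ = g * (g * (g * u * g⁻¹) * g⁻¹) * g⁻¹ := by group
            _ = (g * u * g⁻¹) * (g * (g * u * g⁻¹) * g⁻¹) := by nth_rewrite 1 [e1]; group
            _ = (g * u * g⁻¹) * (u * (g * u * g⁻¹)) := by rw [e1]
            _ = ((u' * (u * u') : P) : Ω) := rfl
            _ = u := by rw [← mul_assoc, (hab u' u).eq, mul_assoc, hu'2, mul_one]
        obtain ⟨k, hk⟩ := hS ⟨g, hgS⟩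
        have hk' : g ^ 2 ^ k = 1 := congrArg Subtype.val hk
        obtain ⟨r, s, hrs⟩ : IsCoprime (3 : ℤ) ((2 : ℤ) ^ k) :=
          IsCoprime.pow_right ⟨1, -1, by norm_num⟩
        have hgu : Commute (g * g * g) (u : Ω) := mul_inv_eq_iff_eq_mul.mp e2
        have : Commute g (u : Ω) := by
          have hg' : g = (g * g * g) ^ r := by
            conv_lhs => rw [← zpow_one g, ← hrs, zpow_add, mul_comm s, zpow_mul g ((2 : ℤ) ^ k) s,
              show ((2 : ℤ) ^ k) = ((2 ^ k : ℕ) : ℤ) by push_cast; rfl, zpow_natCast, hk', one_zpow,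
              mul_one, mul_comm r, zpow_mul, show (3 : ℤ) = ((3 : ℕ) : ℤ) from rfl, zpow_natCast,
              pow_succ, pow_two]
          rw [hg']
          exact hgu.zpow_left r
        exact hmove (by rw [this.eq, mul_inv_cancel_right])
    rw [show g * g * (v : Ω) * (g * g)⁻¹ = g * (g * v * g⁻¹) * g⁻¹ by group]
    rcases hroots v hv with rfl | rfl | rfl | rfl
    · simp
    · exact hfix
    · show g * (g * (g * (u : Ω) * g⁻¹) * g⁻¹) * g⁻¹ = g * u * g⁻¹
      rw [hfix]
    · show g * (g * ((u : Ω) * (g * u * g⁻¹)) * g⁻¹) * g⁻¹ = u * (g * u * g⁻¹)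
      calc g * (g * ((u : Ω) * (g * u * g⁻¹)) * g⁻¹) * g⁻¹
          = (g * (g * u * g⁻¹) * g⁻¹) * (g * (g * (g * u * g⁻¹) * g⁻¹) * g⁻¹) := by group
        _ = u * (g * u * g⁻¹) := by rw [hfix]
  by_cases hn2 : 2 ≤ n
  · exact Metacyclic.no_homocyclic hS hm ι.range n hn2
      (by rintro _ ⟨a, rfl⟩ _ ⟨b, rfl⟩; exact (hab a b).map ι)
      (by rintro _ ⟨a, rfl⟩; rw [← map_pow, hexp, map_one])
      (by
        rintro _ ⟨a, rfl⟩ ha
        obtain ⟨w, hw⟩ := hroot a (hιi (by rw [map_mul, ha, map_one]))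
        exact ⟨ι w, ⟨w, rfl⟩, by rw [← map_pow, hw]⟩)
      (g := ⟨g, hgS⟩) (u := ι u)
      (by rintro _ ⟨a, rfl⟩; exact ⟨⟨_, hgc a⟩, Subtype.ext rfl⟩)
      ⟨⟨_, hgg⟩, Subtype.ext rfl⟩ ⟨u, rfl⟩ (by rw [← map_mul, hu, map_one])
      fun h => hmove (congrArg Subtype.val h)
  -- `P` is a four group
  have hsq : ∀ v : P, v * v = 1 := by
    intro v
    have h := hexp v
    rcases n with _ | _ | n
    · rw [pow_zero, pow_one] at h; rw [h, one_mul]
    · rw [pow_one, sq] at h; exact h
    · omega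
  refine hsmall (Metacyclic.small_of_four hS hm (u := ι u) (v := ι u') (by rw [← map_mul, hu, map_one])
    (fun h => hu1 (hιi (h.trans (map_one ι).symm))) (by rw [← map_mul, hu'2, map_one])
    (fun h => hu'1 (hιi (h.trans (map_one ι).symm))) (fun h => huu' (hιi h)) ((hab u u').map ι) ?_ ?_)
  · intro hSab
    refine hPS.not_ge fun s hs => hcen.2 P (isConj_refl hPS.le)
      ⟨hs, Subgroup.mem_centralizer_iff.mpr fun x hx => ?_⟩
    exact congrArg Subtype.val (hSab ⟨x, hPS.le hx⟩ ⟨s, hs⟩).eq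
  · intro x h1 h2
    have hx : (x : Ω) ∈ P := by
      refine hcen.2 P (isConj_refl hPS.le) ⟨x.2, Subgroup.mem_centralizer_iff.mpr fun y hy => ?_⟩
      have e1 : Commute (x : Ω) (u : Ω) := congrArg Subtype.val h1.eq
      have e2 : Commute (x : Ω) (u' : Ω) := congrArg Subtype.val h2.eq
      rcases hroots ⟨y, hy⟩ (hsq _) with e | e | e | e <;>
        rw [show y = ((⟨y, hy⟩ : P) : Ω) from rfl, e]
      · simp
      · exact e1.eq.symm
      · exact e2.eq.symm
      · exact (e1.mul_right e2).eq.symm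
    exact Subtype.ext (show (x : Ω) * x = 1 from congrArg Subtype.val (hsq ⟨x, hx⟩))

theorem hom_eq_inner (hS : IsPGroup 2 S) (hF : F.IsSaturated 2) (hm : Cfsg.IsMetacyclic S)
    (hh : ¬ ∃ n k : ℕ, Nonempty (S ≃* Multiplicative (Fin k → ZMod (2 ^ n))))
    (hsmall : ¬ Metacyclic.Small S) (P : Subgroup Ω) :
    F.Hom P = (innerFusionSystem S).Hom P := by
  haveI : Fact (Nat.Prime 2) := ⟨Nat.prime_two⟩
  have hA : IsPGroup 2 (MulAut S) := by
    by_contra hA
    rcases Metacyclic.main _ S rfl hS hm hA with ⟨⟨e⟩⟩ | ⟨n, ⟨e⟩⟩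
    · exact hsmall (Or.inr (Or.inl ⟨2, ⟨e⟩⟩))
    · exact hh (homocyclic_equiv_fun e)
  have hle : F ≤ innerFusionSystem S := by
    refine le_of_autGroup_le hS hF _ fun Q hQ => ?_
    by_cases hQS : Q = S
    · subst hQS; exact autGroup_self_le hS hF hA
    · exact (not_essential hS hm hsmall (hQ.resolve_left hQS)
        (lt_of_le_of_ne (hQ.resolve_left hQS).1.1 hQS)).elim
  refine Set.Subset.antisymm (hle P) ?_
  rintro φ ⟨hP, g, hg, he⟩
  exact (isMap_conj hP hg).mem_hom he

end Cfsg.Agent.TwoFusion36.MetacyclicFusion
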