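import Cfsg.Agent.TwoFusion36.MetacyclicTwo
import Cfsg.Prelude.Def_CaseTheorems

/-!
# Small subgroups of metacyclic 2-groups (helper36)
-/

set_option linter.unusedSectionVars false
set_option linter.style.haveILetI false

namespace Cfsg.Agent.TwoFusion36.Metacyclic

universe u

variable {X : Type u} [Group X]

theorem isMetacyclic_of_injective {Y : Type*} [Group Y] (f : Y →* X) (hf : Function.Injective f)
    (hm : Cfsg.IsMetacyclic X) : Cfsg.IsMetacyclic Y := by
  obtain ⟨N, hNn, hN, hQ⟩ := hm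
  haveI := hNn
  refine ⟨N.comap f, inferInstance, ?_, ?_⟩
  · exact isCyclic_of_injective
      ({ toFun := fun v => ⟨f (v : Y), v.2⟩
         map_one' := Subtype.ext (map_one f)
         map_mul' := fun a b => Subtype.ext (map_mul f _ _) } : N.comap f →* N)
      fun a b h => Subtype.ext (hf (congrArg (fun w : N => (w : X)) h))
  · refine isCyclic_of_injective (QuotientGroup.map (N.comap f) N f le_rfl) ?_
    rw [← MonoidHom.ker_eq_bot_iff, eq_bot_iff]
    intro q hq
    induction q using QuotientGroup.induction_on with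
    | _ v =>
      change ((f v : X) : X ⧸ N) = 1 at hq
      rw [Subgroup.mem_bot, QuotientGroup.eq_one_iff]
      exact Subgroup.mem_comap.mpr ((QuotientGroup.eq_one_iff _).mp hq)

theorem commute_quotient {N : Subgroup X} [N.Normal] (hQ : IsCyclic (X ⧸ N)) (x y : X) :
    x * y * x⁻¹ * y⁻¹ ∈ N := by
  haveI := hQ
  rw [← QuotientGroup.eq_one_iff]
  have h : (x : X ⧸ N) * y = y * x := (IsCyclic.commGroup (α := X ⧸ N)).mul_comm _ _
  rw [QuotientGroup.mk_mul, QuotientGroup.mk_mul, QuotientGroup.mk_mul, QuotientGroup.mk_inv,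
    QuotientGroup.mk_inv, h, mul_inv_cancel_right, mul_inv_cancel]

theorem eq_of_sq_eq_one {H : Type*} [Group H] [IsCyclic H] [Finite H] {a b : H} (ha : a * a = 1)
    (ha1 : a ≠ 1) (hb : b * b = 1) (hb1 : b ≠ 1) : a = b := by
  classical
  haveI := Fintype.ofFinite H
  by_contra hab
  have h := IsCyclic.card_pow_eq_one_le (α := H) (n := 2) two_pos
  have hsub : ({1, a, b} : Finset H) ⊆ Finset.univ.filter (fun v => v ^ 2 = 1) := by
    intro v hv
    simp only [Finset.mem_insert, Finset.mem_singleton] at hv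
    refine Finset.mem_filter.mpr ⟨Finset.mem_univ _, ?_⟩
    rcases hv with rfl | rfl | rfl <;> simp [sq, ha, hb]
  have h3 := (Finset.card_le_card hsub).trans h
  rw [Finset.card_insert_of_notMem (by simp [Ne.symm ha1, Ne.symm hb1]),
    Finset.card_insert_of_notMem (by simp [hab]), Finset.card_singleton] at h3
  omega

theorem three [Finite X] {N : Subgroup X} [N.Normal] (hQ : IsCyclic (X ⧸ N)) {x y : X} (hx : x * x ∈ N)
    (hy : y * y ∈ N) : x ∈ N ∨ y ∈ N ∨ x⁻¹ * y ∈ N := by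
  haveI := hQ
  by_contra h
  push Not at h
  refine h.2.2 (QuotientGroup.eq.mp (eq_of_sq_eq_one (H := X ⧸ N) ?_ ?_ ?_ ?_))
  · rw [← QuotientGroup.mk_mul]; exact (QuotientGroup.eq_one_iff _).mpr hx
  · exact fun e => h.1 ((QuotientGroup.eq_one_iff _).mp e)
  · rw [← QuotientGroup.mk_mul]; exact (QuotientGroup.eq_one_iff _).mpr hy
  · exact fun e => h.2.1 ((QuotientGroup.eq_one_iff _).mp e)

/-- The possible small groups. -/
def Small (X : Type u) [Group X] : Prop :=
  (∃ m : ℕ, Nonempty (X ≃* DihedralGroup m)) ∨ (∃ m : ℕ, Nonempty (X ≃* QuaternionGroup m)) ∨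
    Cfsg.IsQuasiDihedral X

/-- A cyclic normal subgroup with cyclic quotient and an element squaring into it which does not act
trivially modulo four gives index two. -/
theorem cover [Finite X] (hX : IsPGroup 2 X) {c b : X} {m : ℕ} (hm : 2 ≤ m) (hc : orderOf c = 2 ^ m)
    [(Subgroup.zpowers c).Normal] (hQ : IsCyclic (X ⧸ Subgroup.zpowers c)) (hbb : b * b ∈ Subgroup.zpowers c)
    {β : ℤ} (hbc : b * c * b⁻¹ = c ^ β) (h3 : β % 4 = 3) :
    ∀ v : X, v ∈ Subgroup.zpowers c ∨ b⁻¹ * v ∈ Subgroup.zpowers c := by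
  have hb : b ∉ Subgroup.zpowers c := by
    intro h
    obtain ⟨i, rfl⟩ := Subgroup.mem_zpowers_iff.mp h
    have h1 : c ^ β = c ^ (1 : ℤ) := by
      rw [← hbc, ((Commute.refl c).zpow_left i).eq, mul_inv_cancel_right, zpow_one]
    have h2 : (4 : ℤ) ∣ β - 1 := by
      rw [zpow_eq_zpow_iff_modEq, Int.modEq_iff_dvd, hc] at h1
      have h4 : (4 : ℤ) ∣ ((2 ^ m : ℕ) : ℤ) :=
        ⟨2 ^ (m - 2), by push_cast; rw [show (4 : ℤ) = 2 ^ 2 by norm_num, ← pow_add]; congr 1; omega⟩
      obtain ⟨r, hr⟩ := h4.trans h1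
      exact ⟨-r, by linarith⟩
    omega
  obtain ⟨s, hs⟩ := hQ.exists_generator
  obtain ⟨i, hi⟩ := Subgroup.mem_zpowers_iff.mp (hs (b : X ⧸ Subgroup.zpowers c))
  obtain ⟨w, rfl⟩ := QuotientGroup.mk_surjective s
  rcases Int.even_or_odd' i with ⟨l, rfl | rfl⟩
  · exfalso
    obtain ⟨j, hj⟩ := Subgroup.mem_zpowers_iff.mp
      ((inferInstance : (Subgroup.zpowers c).Normal).conj_mem c (Subgroup.mem_zpowers c) (w ^ l))
    rw [← QuotientGroup.mk_zpow, QuotientGroup.eq] at hi
    obtain ⟨t, ht⟩ := Subgroup.mem_zpowers_iff.mp hi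
    have hb2 : b = w ^ l * w ^ l * c ^ t := by
      rw [ht, ← zpow_add, two_mul]; group
    have h1 : b * c * b⁻¹ = c ^ (j * j) := by
      calc b * c * b⁻¹ = w ^ l * (w ^ l * (c ^ t * c * (c ^ t)⁻¹) * (w ^ l)⁻¹) * (w ^ l)⁻¹ := by
            rw [hb2]; group
        _ = w ^ l * c ^ j * (w ^ l)⁻¹ := by
            rw [((Commute.refl c).zpow_left t).eq, mul_inv_cancel_right, hj]
        _ = c ^ (j * j) := by rw [← conj_zpow, ← hj, ← zpow_mul]
    rw [hbc, zpow_eq_zpow_iff_modEq, Int.modEq_iff_dvd, hc] at h1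
    have h4 : (4 : ℤ) ∣ ((2 ^ m : ℕ) : ℤ) :=
      ⟨2 ^ (m - 2), by push_cast; rw [show (4 : ℤ) = 2 ^ 2 by norm_num, ← pow_add]; congr 1; omega⟩
    obtain ⟨r, hr⟩ := h4.trans h1
    rcases Int.even_or_odd' j with ⟨q, rfl | rfl⟩
    · have h8 : β = 4 * (q * q - r) := by linarith
      omega
    · have h8 : β = 4 * (q * q + q - r) + 1 := by linarith
      omega
  · -- `w` generates modulo `⟨c⟩` a group of order at most two
    have hw2 : (w : X ⧸ Subgroup.zpowers c) ^ 2 = 1 := by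
      obtain ⟨k, hk⟩ := (hX.to_quotient (Subgroup.zpowers c)) (w : X ⧸ Subgroup.zpowers c)
      have h1 : ((w : X ⧸ Subgroup.zpowers c) ^ (2 : ℤ)) ^ (2 * l + 1) = 1 := by
        rw [← zpow_mul, mul_comm, zpow_mul, hi, zpow_two, ← QuotientGroup.mk_mul]
        exact (QuotientGroup.eq_one_iff _).mpr hbb
      rw [← orderOf_dvd_iff_zpow_eq_one, show ((2 : ℤ)) = ((2 : ℕ) : ℤ) from rfl, zpow_natCast] at h1
      obtain ⟨e, he, heq⟩ := (Nat.dvd_prime_pow Nat.prime_two).mp
        (orderOf_dvd_of_pow_eq_one (show ((w : X ⧸ Subgroup.zpowers c) ^ 2) ^ 2 ^ k = 1 by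
          rw [← pow_mul, mul_comm, pow_mul, hk, one_pow]))
      rcases e with _ | e
      · exact orderOf_eq_one_iff.mp heq
      · exfalso
        rw [heq] at h1
        have : (2 : ℤ) ∣ 2 * l + 1 := Dvd.dvd.trans ⟨2 ^ e, by push_cast; ring⟩ h1
        omega
    intro v
    obtain ⟨j, hj⟩ := Subgroup.mem_zpowers_iff.mp (hs (v : X ⧸ Subgroup.zpowers c))
    have hred : ∀ j : ℤ, (w : X ⧸ Subgroup.zpowers c) ^ j = 1 ∨
        (w : X ⧸ Subgroup.zpowers c) ^ j = w := by
      intro j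
      rcases Int.even_or_odd' j with ⟨q, rfl | rfl⟩
      · exact Or.inl (by rw [zpow_mul, zpow_two, ← sq, hw2, one_zpow])
      · exact Or.inr (by rw [zpow_add_one, zpow_mul, zpow_two, ← sq, hw2, one_zpow, one_mul])
    rcases hred j with e | e
    · exact Or.inl ((QuotientGroup.eq_one_iff v).mp (hj ▸ e))
    · refine Or.inr (QuotientGroup.eq.mp ?_)
      rcases hred (2 * l + 1) with e' | e'
      · exact absurd ((QuotientGroup.eq_one_iff b).mp (hi ▸ e')) hb
      · rw [← hi, ← hj, e, e']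

theorem classify [Finite X] {c b : X} {m : ℕ} (hm : 2 ≤ m) (hc : orderOf c = 2 ^ m)
    (hb : b ∉ Subgroup.zpowers c)
    (hcov : ∀ v : X, v ∈ Subgroup.zpowers c ∨ b⁻¹ * v ∈ Subgroup.zpowers c)
    {β : ℤ} (hbc : b * c * b⁻¹ = c ^ β) (h3 : β % 4 = 3)
    (hbb : b * b = 1 ∨ b * b = c ^ (2 ^ (m - 1))) : Small X := by
  set z := c ^ (2 ^ (m - 1)) with hzdef
  have hzz : z * z = 1 := by
    rw [hzdef, ← pow_add, show 2 ^ (m - 1) + 2 ^ (m - 1) = 2 ^ m by
      rw [← two_mul, ← pow_succ']; congr 1; omega, ← hc, pow_orderOf_eq_one]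
  have hz1 : z ≠ 1 := pow_ne_one_of_lt_orderOf (by positivity) (hc ▸ Nat.pow_lt_pow_right (by norm_num) (by omega))
  have hzp : ∀ k : ℤ, b ≠ c ^ k := fun k e => hb ⟨k, e.symm⟩
  have hM : ∀ v : X, v ∈ (⊤ : Subgroup X) ↔ ∃ k : ℤ, v = c ^ k ∨ v = b * c ^ k := fun v => by
    simp only [Subgroup.mem_top, true_iff]
    rcases hcov v with h | h
    · obtain ⟨k, hk⟩ := Subgroup.mem_zpowers_iff.mp h
      exact ⟨k, Or.inl hk.symm⟩
    · obtain ⟨k, hk⟩ := Subgroup.mem_zpowers_iff.mp h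
      exact ⟨k, Or.inr (by rw [hk, mul_inv_cancel_left])⟩
  -- `β ≡ -1` modulo `2 ^ (m-1)`
  have hbb' : b * b ∈ Subgroup.zpowers c := by
    rcases hbb with h | h <;> rw [h]
    · exact one_mem _
    · exact pow_mem (Subgroup.mem_zpowers c) _
  have hsq : c ^ (β * β) = c ^ (1 : ℤ) := by
    obtain ⟨k, hk⟩ := Subgroup.mem_zpowers_iff.mp hbb'
    calc c ^ (β * β) = b * (b * c * b⁻¹) * b⁻¹ := by rw [hbc, ← conj_zpow, hbc, ← zpow_mul]
      _ = (b * b) * c * (b * b)⁻¹ := by group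
      _ = c ^ (1 : ℤ) := by rw [← hk, ((Commute.refl c).zpow_left k).eq, mul_inv_cancel_right, zpow_one]
  rw [zpow_eq_zpow_iff_modEq, Int.modEq_iff_dvd, hc] at hsq
  have hdiv : ((2 ^ (m - 1) : ℕ) : ℤ) ∣ β + 1 := by
    push_cast at hsq ⊢
    obtain ⟨r, hr⟩ := hsq
    have h1 : (2 : ℤ) ^ (m - 1) ∣ (β + 1) * ((β - 1) / 2) := by
      refine ⟨-r, ?_⟩
      obtain ⟨u, hu⟩ : (2 : ℤ) ∣ β - 1 := by omega
      rw [hu, Int.mul_ediv_cancel_left _ (by norm_num : (2 : ℤ) ≠ 0)]
      have h2 : (2 : ℤ) * ((β + 1) * u) = 2 * (2 ^ (m - 1) * -r) := by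
        rw [← mul_assoc (2 : ℤ) (2 ^ (m - 1)), ← pow_succ', show m - 1 + 1 = m by omega,
          show β = 2 * u + 1 by linarith]
        have hb' : β = 2 * u + 1 := by linarith
        rw [hb'] at hr
        linarith
      linarith
    refine IsCoprime.dvd_of_dvd_mul_right ?_ h1
    refine IsCoprime.pow_left ?_
    obtain ⟨u, hu⟩ : Odd ((β - 1) / 2) := by rw [Int.odd_iff]; omega
    exact ⟨-u, 1, by rw [hu]; ring⟩
  obtain ⟨t, ht⟩ := hdiv
  have hcase : b * c * b⁻¹ = c⁻¹ ∨ b * c * b⁻¹ = c⁻¹ * z := by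
    have hβ : c ^ β = c⁻¹ * z ^ t := by
      rw [hzdef, ← zpow_natCast, ← zpow_mul, ← ht, zpow_add_one]
      rw [← mul_assoc, ((Commute.refl c).zpow_right β).inv_left.eq, inv_mul_cancel_right]
    rw [hbc, hβ]
    rcases Int.even_or_odd' t with ⟨q, rfl | rfl⟩
    · exact Or.inl (by rw [zpow_mul, zpow_two, hzz, one_zpow, mul_one])
    · exact Or.inr (by rw [zpow_add_one, zpow_mul, zpow_two, hzz, one_zpow, one_mul])
  haveI : NeZero (2 ^ (m - 1)) := ⟨by positivity⟩
  haveI : NeZero (2 ^ m) := ⟨by positivity⟩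
  rcases hcase with hinv | htw
  · rcases hbb with hbb | hbb
    · obtain ⟨e⟩ := nonempty_equiv_dihedral c b hc hbb hinv hzp ⊤ hM
      exact Or.inl ⟨_, ⟨Subgroup.topEquiv.symm.trans e⟩⟩
    · obtain ⟨e⟩ := nonempty_equiv_quaternion (m := 2 ^ (m - 1)) c b
        (by rw [hc, ← pow_succ']; congr 1; omega) hbb hinv hzp ⊤ hM
      exact Or.inr (Or.inl ⟨_, ⟨Subgroup.topEquiv.symm.trans e⟩⟩)
  · rcases eq_or_lt_of_le hm with rfl | hm3
    · exfalso
      rw [hbc, hzdef, show (2 : ℕ) ^ (2 - 1) = 2 from rfl, pow_two, inv_mul_cancel_left] at htw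
      rw [show c ^ β = c ^ β from rfl] at htw
      have h1 : c ^ β = c ^ (1 : ℤ) := by rw [htw, zpow_one]
      rw [zpow_eq_zpow_iff_modEq, Int.modEq_iff_dvd, hc] at h1
      norm_num at h1
      omega
    · refine Or.inr (Or.inr ⟨m, by omega, ?_, ?_⟩)
      · have hidx : (Subgroup.zpowers c).index = 2 := by
          rw [Subgroup.index_eq_two_iff]
          refine ⟨b⁻¹, fun v => ?_⟩
          have hbv : v * b⁻¹ ∈ Subgroup.zpowers c ↔ v ∉ Subgroup.zpowers c := by
            constructor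
            · intro h hv
              exact hb (by simpa using inv_mem (mul_mem (inv_mem hv) h))
            · intro hv
              obtain ⟨k, hk⟩ := Subgroup.mem_zpowers_iff.mp ((hcov v).resolve_left hv)
              have hk' : v = b * c ^ k := by rw [hk, mul_inv_cancel_left]
              rw [hk', ← conj_zpow, hbc, ← zpow_mul]
              exact Subgroup.zpow_mem_zpowers c _
          by_cases hv : v ∈ Subgroup.zpowers c
          · exact Or.inr ⟨hv, fun h => hbv.mp h hv⟩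
          · exact Or.inl ⟨hbv.mpr hv, hv⟩
        rw [← (Subgroup.zpowers c).index_mul_card, hidx, Nat.card_zpowers, hc, pow_succ']
      · have hrel : ∀ y : X, y * c * y⁻¹ = c⁻¹ * z → y * c * y⁻¹ = c ^ (2 ^ (m - 1) - 1) := by
          intro y hy
          rw [hy, hzdef, inv_mul_eq_iff_eq_mul, ← pow_succ', Nat.sub_add_cancel Nat.one_le_two_pow]
        have hord : ∀ y : X, y * y = 1 → y ≠ 1 → orderOf y = 2 := fun y h1 h2 =>
          orderOf_eq_prime (by rw [sq, h1]) h2
        rcases hbb with hbb | hbb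
        · exact ⟨c, b, hc, hord b hbb (fun e => hb (e ▸ one_mem _)), hrel b htw⟩
        · refine ⟨c, b * c, hc, hord _ ?_ (fun e => hb ?_), hrel _ ?_⟩
          · calc b * c * (b * c) = b * c * b⁻¹ * (b * b) * c := by group
              _ = c⁻¹ * (z * z) * c := by rw [htw, hbb]; group
              _ = 1 := by rw [hzz]; group
          · rw [eq_inv_of_mul_eq_one_left e]; exact inv_mem (Subgroup.mem_zpowers c)
          · rw [← htw]; group

/-- The input of the two small cases. -/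
theorem small_of_element [Finite X] (hX : IsPGroup 2 X) {N : Subgroup X} [N.Normal] (hN : IsCyclic N)
    (hQ : IsCyclic (X ⧸ N)) {a b : X} (ha : a ∈ N) (hoa : orderOf a = 4) (hb : b ∉ N)
    (hbb : b * b = 1 ∨ b * b = a * a) (hnc : b * a * b⁻¹ ≠ a) : Small X := by
  obtain ⟨c, hc⟩ := (Subgroup.isCyclic_iff_exists_zpowers_eq_top N).mp hN
  subst hc
  obtain ⟨m, hm⟩ := hX c
  obtain ⟨m, -, hm⟩ := (Nat.dvd_prime_pow Nat.prime_two).mp (orderOf_dvd_of_pow_eq_one hm)
  obtain ⟨i, hi⟩ := Subgroup.mem_zpowers_iff.mp ha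
  have hm2 : 2 ≤ m := by
    by_contra h
    have h4 : (2 : ℕ) ^ 2 ∣ 2 ^ m := by
      rw [← hm, show (2 : ℕ) ^ 2 = 4 from rfl, ← hoa, ← hi]
      exact orderOf_dvd_of_mem_zpowers (Subgroup.zpow_mem_zpowers c i)
    have := (Nat.pow_dvd_pow_iff_le_right (by norm_num)).mp h4
    omega
  obtain ⟨β, hβ⟩ := Subgroup.mem_zpowers_iff.mp
    ((inferInstance : (Subgroup.zpowers c).Normal).conj_mem c (Subgroup.mem_zpowers c) b)
  have haβ : b * a * b⁻¹ = a ^ β := by
    rw [← hi, ← conj_zpow, ← hβ, ← zpow_mul, ← zpow_mul, mul_comm]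
  have h3 : β % 4 = 3 := by
    have h4 : a ^ (4 : ℤ) = 1 := by
      rw [show (4 : ℤ) = ((4 : ℕ) : ℤ) from rfl, zpow_natCast, ← hoa, pow_orderOf_eq_one]
    have hred : a ^ β = a ^ (β % 4) := by
      conv_lhs => rw [← Int.emod_add_mul_ediv β 4, zpow_add, zpow_mul, h4, one_zpow, mul_one]
    have hcases : β % 4 = 0 ∨ β % 4 = 1 ∨ β % 4 = 2 ∨ β % 4 = 3 := by omega
    rw [hred] at haβ
    rcases hcases with e | e | e | e <;> rw [e] at haβ
    · rw [zpow_zero, conj_eq_one_iff] at haβ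
      rw [haβ, orderOf_one] at hoa
      omega
    · rw [zpow_one] at haβ; exact absurd haβ hnc
    · have ho : orderOf (a ^ (2 : ℤ)) = orderOf a := by
        rw [← haβ]; exact MulEquiv.orderOf_eq (MulAut.conj b) a
      rw [show (2 : ℤ) = ((2 : ℕ) : ℤ) from rfl, zpow_natCast,
        orderOf_pow' a two_ne_zero, hoa] at ho
      norm_num at ho
    · exact e
  have hbb' : b * b = 1 ∨ b * b = c ^ (2 ^ (m - 1)) := by
    refine hbb.imp id fun h => h.trans ?_
    refine congrArg Subtype.val (eq_of_sq_eq_one (H := Subgroup.zpowers c)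
      (a := ⟨a * a, mul_mem ha ha⟩) (b := ⟨c ^ 2 ^ (m - 1), pow_mem (Subgroup.mem_zpowers c) _⟩)
      ?_ ?_ ?_ ?_)
    · apply Subtype.ext
      show a * a * (a * a) = 1
      rw [← sq, ← sq, ← pow_mul, ← hoa.trans (show 4 = 2 * 2 from rfl), pow_orderOf_eq_one]
    · intro e
      have e' : a ^ 2 = 1 := by rw [sq]; exact congrArg Subtype.val e
      have := orderOf_dvd_of_pow_eq_one e'
      rw [hoa] at this
      norm_num at this
    · apply Subtype.ext
      show c ^ 2 ^ (m - 1) * c ^ 2 ^ (m - 1) = 1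
      rw [← pow_add, show 2 ^ (m - 1) + 2 ^ (m - 1) = 2 ^ m by
        rw [← two_mul, ← pow_succ']; congr 1; omega, ← hm, pow_orderOf_eq_one]
    · intro e
      exact pow_ne_one_of_lt_orderOf (by positivity)
        (hm ▸ Nat.pow_lt_pow_right (by norm_num) (by omega)) (congrArg Subtype.val e)
  have hbb'' : b * b ∈ Subgroup.zpowers c := by
    rcases hbb' with h | h <;> rw [h]
    · exact one_mem _
    · exact pow_mem (Subgroup.mem_zpowers c) _
  exact classify hm2 hm hb (cover hX hm2 hm hQ hbb'' hβ.symm h3) hβ.symm h3 hbb'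

theorem small_of_quaternion [Finite X] (hX : IsPGroup 2 X) (hm : Cfsg.IsMetacyclic X)
    (f : QuaternionGroup 2 →* X) (hf : Function.Injective f) : Small X := by
  obtain ⟨N, hNn, hN, hQ⟩ := hm
  haveI := hNn
  have hcomm : ∀ u v : QuaternionGroup 2, f (u * v * u⁻¹ * v⁻¹) ∈ N := fun u v => by
    rw [map_mul, map_mul, map_mul, map_inv, map_inv]; exact commute_quotient hQ _ _
  have hz : f (QuaternionGroup.a 2) ∈ N := by
    rw [show (QuaternionGroup.a 2 : QuaternionGroup 2) = QuaternionGroup.a 1 * QuaternionGroup.xa 0 *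
      (QuaternionGroup.a 1)⁻¹ * (QuaternionGroup.xa 0)⁻¹ by decide]
    exact hcomm _ _
  have key : ∀ u v : QuaternionGroup 2, u * v ≠ v * u → f u ∈ N → Small X := by
    intro u v huv hu
    have hfacts : ∀ u v : QuaternionGroup 2, u * v ≠ v * u →
        u ^ 4 = 1 ∧ u * u ≠ 1 ∧ v * v = u * u ∧ v * u * v⁻¹ ≠ u := by decide +kernel
    obtain ⟨h4, h2, hvv, hne⟩ := hfacts u v huv
    refine small_of_element hX hN hQ hu ?_ (fun hv => huv (hf ?_)) (Or.inr ?_) ?_ (b := f v)
    · rw [orderOf_injective f hf]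
      exact orderOf_eq_prime_pow (p := 2) (n := 1) (by rwa [pow_one, sq])
        (by rwa [show (2 : ℕ) ^ (1 + 1) = 4 from rfl])
    · rw [map_mul, map_mul]
      haveI := hN
      exact congrArg Subtype.val ((IsCyclic.commGroup (α := N)).mul_comm ⟨_, hu⟩ ⟨_, hv⟩)
    · rw [← map_mul, ← map_mul, hvv]
    · rw [← map_inv, ← map_mul, ← map_mul]
      exact fun e => hne (hf e)
  rcases three hQ (x := f (QuaternionGroup.a 1)) (y := f (QuaternionGroup.xa 0))
    (by rw [← map_mul]; exact hz) (by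
      rw [← map_mul, show (QuaternionGroup.xa 0 : QuaternionGroup 2) * QuaternionGroup.xa 0 =
        QuaternionGroup.a 2 by decide]; exact hz) with h | h | h
  · exact key _ (QuaternionGroup.xa 0) (by decide) h
  · exact key _ (QuaternionGroup.a 1) (by decide) h
  · rw [← map_inv, ← map_mul] at h
    exact key _ (QuaternionGroup.a 1) (by decide) h

theorem small_of_four [Finite X] (hX : IsPGroup 2 X) (hm : Cfsg.IsMetacyclic X) {u v : X}
    (hu : u * u = 1) (hu1 : u ≠ 1) (hv : v * v = 1) (hv1 : v ≠ 1) (huv : u ≠ v) (huvc : Commute u v)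
    (hnab : ¬ ∀ a b : X, Commute a b)
    (hC : ∀ x : X, Commute x u → Commute x v → x * x = 1) : Small X := by
  obtain ⟨N, hNn, hN, hQ⟩ := hm
  haveI := hNn
  haveI := hN
  have key : ∀ s t : X, s * s = 1 → s ≠ 1 → t * t = 1 → t ≠ 1 → s ≠ t → s ∈ N →
      (∀ x : X, Commute x s → Commute x t → x * x = 1) → Small X := by
    intro s t hs hs1 ht ht1 hst hsN hC
    obtain ⟨c, hc⟩ := (Subgroup.isCyclic_iff_exists_zpowers_eq_top N).mp hN
    subst hc
    obtain ⟨m, hm⟩ := hX c
    obtain ⟨m, -, hm⟩ := (Nat.dvd_prime_pow Nat.prime_two).mp (orderOf_dvd_of_pow_eq_one hm)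
    have htN : t ∉ Subgroup.zpowers c := fun h => hst (congrArg Subtype.val
      (eq_of_sq_eq_one (H := Subgroup.zpowers c) (a := ⟨s, hsN⟩) (b := ⟨t, h⟩) (Subtype.ext hs)
        (fun e => hs1 (congrArg Subtype.val e)) (Subtype.ext ht)
        (fun e => ht1 (congrArg Subtype.val e))))
    rcases m with _ | _ | m
    · rw [pow_zero, orderOf_eq_one_iff] at hm
      rw [hm, Subgroup.zpowers_one_eq_bot, Subgroup.mem_bot] at hsN
      exact absurd hsN hs1
    · exfalso
      refine hnab fun x y => ?_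
      have hcen : ∀ g : X, Commute g c := fun g => by
        obtain ⟨j, hj⟩ := Subgroup.mem_zpowers_iff.mp
          ((inferInstance : (Subgroup.zpowers c).Normal).conj_mem c (Subgroup.mem_zpowers c) g)
        have hc2 : c * c = 1 := by rw [← sq, show (2 : ℕ) = 2 ^ (0 + 1) from rfl, ← hm, pow_orderOf_eq_one]
        rcases Int.even_or_odd' j with ⟨q, rfl | rfl⟩
        · rw [zpow_mul, zpow_two, hc2, one_zpow] at hj
          rw [conj_eq_one_iff.mp hj.symm]; exact Commute.one_right g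
        · rw [zpow_add_one, zpow_mul, zpow_two, hc2, one_zpow, one_mul] at hj
          exact mul_inv_eq_iff_eq_mul.mp hj.symm
      obtain ⟨w, hw⟩ := hQ.exists_generator
      obtain ⟨w, rfl⟩ := QuotientGroup.mk_surjective w
      have hrep : ∀ g : X, ∃ i j : ℤ, g = w ^ i * c ^ j := fun g => by
        obtain ⟨i, hi⟩ := Subgroup.mem_zpowers_iff.mp (hw (g : X ⧸ Subgroup.zpowers c))
        rw [← QuotientGroup.mk_zpow, QuotientGroup.eq] at hi
        obtain ⟨j, hj⟩ := Subgroup.mem_zpowers_iff.mp hi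
        exact ⟨i, j, by rw [hj, mul_inv_cancel_left]⟩
      obtain ⟨i, j, rfl⟩ := hrep x
      obtain ⟨k, l, rfl⟩ := hrep y
      exact Commute.mul_left
        (((Commute.refl w).zpow_zpow i k).mul_right ((hcen w).zpow_zpow i l))
        (((hcen w).symm.zpow_zpow j k).mul_right ((Commute.refl c).zpow_zpow j l))
    · set a := c ^ (2 ^ m) with hadef
      have hoa : orderOf a = 4 := by
        rw [hadef, orderOf_pow' c (by positivity), hm,
          Nat.gcd_eq_right (pow_dvd_pow 2 (by omega)), Nat.pow_div (by omega) (by norm_num),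
          show m + 2 - m = 2 by omega]
      refine small_of_element hX hN hQ (pow_mem (Subgroup.mem_zpowers c) _) hoa htN (Or.inl ht)
        fun e => ?_
      have hac : Commute a t := (mul_inv_eq_iff_eq_mul.mp e).symm
      have has : Commute a s := by
        obtain ⟨i, rfl⟩ := Subgroup.mem_zpowers_iff.mp hsN
        exact ((Commute.refl c).pow_left _).zpow_right i
      have := orderOf_dvd_of_pow_eq_one (show a ^ 2 = 1 by rw [sq]; exact hC a has hac)
      rw [hoa] at this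
      norm_num at this
  rcases three hQ (x := u) (y := v) (by rw [hu]; exact one_mem _) (by rw [hv]; exact one_mem _)
    with h | h | h
  · exact key u v hu hu1 hv hv1 huv h hC
  · exact key v u hv hv1 hu hu1 huv.symm h fun x h1 h2 => hC x h2 h1
  · have huvv : u⁻¹ * v = u * v := by rw [inv_eq_of_mul_eq_one_right hu]
    rw [huvv] at h
    have hsq : u * v * (u * v) = 1 := by rw [huvc.symm.mul_mul_mul_comm, hu, hv, one_mul]
    refine key (u * v) u hsq (fun e => huv ?_) hu hu1 (fun e => hv1 (mul_eq_left.mp e)) h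
      fun x h1 h2 => hC x h2 ?_
    · rw [eq_inv_of_mul_eq_one_left e, inv_eq_of_mul_eq_one_right hv]
    · have := h2.mul_right h1
      rwa [← mul_assoc, hu, one_mul] at this

/-- A self-centralising homocyclic subgroup of rank two and exponent at least four has no element
squaring into it and moving an involution. -/
theorem no_homocyclic [Finite X] (hX : IsPGroup 2 X) (hm : Cfsg.IsMetacyclic X) (P : Subgroup X)
    (n : ℕ) (hn : 2 ≤ n) (hc : ∀ a ∈ P, ∀ b ∈ P, Commute a b) (hexp : ∀ a ∈ P, a ^ 2 ^ n = 1)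
    (hroot : ∀ v ∈ P, v * v = 1 → ∃ w ∈ P, w ^ 2 ^ (n - 1) = v) {g u : X}
    (hg : ∀ a ∈ P, g * a * g⁻¹ ∈ P) (hgg : g * g ∈ P) (hu : u ∈ P) (hu2 : u * u = 1)
    (hmove : g * u * g⁻¹ ≠ u) : False := by
  obtain ⟨N, hNn, hN, hQ⟩ := hm
  haveI := hNn
  haveI := hN
  haveI := hQ
  set z := g * u * g⁻¹ * u⁻¹ with hzdef
  have hzN : z ∈ N := commute_quotient hQ g u
  have hz2 : z * z = 1 := by
    have h1 : g * u * g⁻¹ * (g * u * g⁻¹) = 1 := by
      rw [show g * u * g⁻¹ * (g * u * g⁻¹) = g * (u * u) * g⁻¹ by group, hu2]; group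
    rw [hzdef, (((hc _ (hg u hu) u hu).inv_right).symm).mul_mul_mul_comm, h1, one_mul, ← mul_inv_rev,
      hu2, inv_one]
  have hz1 : z ≠ 1 := fun e => hmove (mul_inv_eq_one.mp e)
  obtain ⟨w, hw, hwu⟩ := hroot u hu hu2
  set d := g * w * g⁻¹ * w⁻¹ with hddef
  have hdP : d ∈ P := mul_mem (hg w hw) (inv_mem hw)
  have hdN : d ∈ N := commute_quotient hQ g w
  have hdz : d ^ 2 ^ (n - 1) = z := by
    rw [hddef, ((hc _ (hg w hw) w hw).inv_right).mul_pow, inv_pow, conj_pow, hwu]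
  have hod : orderOf d = 2 ^ n := by
    have h := orderOf_eq_prime_pow (p := 2) (x := d) (n := n - 1) (by rw [hdz]; exact hz1)
      (by rw [show n - 1 + 1 = n by omega]; exact hexp d hdP)
    rwa [show n - 1 + 1 = n by omega] at h
  -- `⟨d⟩` contains all elements of `N` of order dividing `2 ^ n`
  have hmem : ∀ x ∈ N, x ^ 2 ^ n = 1 → x ∈ Subgroup.zpowers d := by
    intro x hx hxn
    by_contra hxd
    classical
    haveI := Fintype.ofFinite N
    have h := IsCyclic.card_pow_eq_one_le (α := N) (n := 2 ^ n) (by positivity)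
    let e : Subgroup.zpowers d → N := fun v => ⟨v, Subgroup.zpowers_le.mpr hdN v.2⟩
    haveI := Fintype.ofFinite (Subgroup.zpowers d)
    have hsub : insert (⟨x, hx⟩ : N) (Finset.univ.image e) ⊆
        Finset.univ.filter (fun v : N => v ^ 2 ^ n = 1) := by
      intro v hv
      refine Finset.mem_filter.mpr ⟨Finset.mem_univ _, Subtype.ext ?_⟩
      rcases Finset.mem_insert.mp hv with rfl | hv
      · simpa using hxn
      · obtain ⟨⟨y, hy⟩, -, rfl⟩ := Finset.mem_image.mp hv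
        simp only [e, SubgroupClass.coe_pow, OneMemClass.coe_one]
        exact hexp y (Subgroup.zpowers_le.mpr hdP hy)
    have h3 := (Finset.card_le_card hsub).trans h
    rw [Finset.card_insert_of_notMem (fun hc' => by
        obtain ⟨⟨y, hy⟩, -, hye⟩ := Finset.mem_image.mp hc'
        exact hxd (by rwa [← show y = x from congrArg Subtype.val hye])),
      Finset.card_image_of_injective _ (fun a b hab => Subtype.ext (show (a : X) = b from congrArg (fun v : N => (v : X)) hab)),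
      Finset.card_univ, ← Nat.card_eq_fintype_card, Nat.card_zpowers, hod] at h3
    omega
  -- `g` inverts `d`
  have hgd : g * d * g⁻¹ = d⁻¹ := by
    have h2 : g * g * w * (g * g)⁻¹ = w := by rw [(hc _ hgg w hw).eq, mul_inv_cancel_right]
    calc g * d * g⁻¹ = (g * g * w * (g * g)⁻¹) * (g * w⁻¹ * g⁻¹) := by rw [hddef]; group
      _ = d⁻¹ := by rw [h2, hddef]; group
  have hgdk : ∀ k : ℤ, g * d ^ k * g⁻¹ = d ^ (-k) := fun k => by
    rw [← conj_zpow, hgd, inv_zpow, zpow_neg]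
  -- no element of the coset lies in `N`
  have hcoset : ∀ p ∈ P, g * p ∉ N := by
    intro p hp hgp
    have hsq : g * p * (g * p) ∈ P := by
      have h : g * p * (g * p) = (g * p * g⁻¹) * (g * g) * p := by group
      rw [h]; exact mul_mem (mul_mem (hg p hp) hgg) hp
    have hfix : g * (g * p * (g * p)) * g⁻¹ = g * p * (g * p) := by
      calc g * (g * p * (g * p)) * g⁻¹ = (g * p) * (p⁻¹ * (g * p * (g * p)) * p) * (g * p)⁻¹ := by group
        _ = g * p * (g * p) := by
          rw [mul_assoc p⁻¹, (hc _ hsq p hp).eq, inv_mul_cancel_left]; group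
    obtain ⟨k, hk⟩ := Subgroup.mem_zpowers_iff.mp (hmem _ (mul_mem hgp hgp) (hexp _ hsq))
    rw [← hk, hgdk] at hfix
    have h4 : (g * p) ^ 4 = 1 := by
      rw [show (4 : ℕ) = 2 + 2 from rfl, pow_add, sq, ← hk]
      nth_rewrite 1 [← hfix]
      rw [← zpow_add, neg_add_cancel, zpow_zero]
    have h2n : (g * p) ^ 2 ^ n = 1 := by
      rw [show 2 ^ n = 4 * 2 ^ (n - 2) by
        rw [show (4 : ℕ) = 2 ^ 2 from rfl, ← pow_add]; congr 1; omega, pow_mul, h4, one_pow]
    have hgP : g ∈ P := by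
      have := mul_mem (Subgroup.zpowers_le.mpr hdP (hmem _ hgp h2n)) (inv_mem hp)
      rwa [mul_inv_cancel_right] at this
    exact hmove (by rw [(hc g hgP u hu).eq, mul_inv_cancel_right])
  -- the image of `P` in the cyclic quotient
  set K := P.map (QuotientGroup.mk' N) with hK
  obtain ⟨k, hk⟩ := (Subgroup.isCyclic_iff_exists_zpowers_eq_top K).mp inferInstance
  have hgK : (g : X ⧸ N) ∉ K := by
    rintro ⟨p, hp, hpg⟩
    exact hcoset p⁻¹ (inv_mem hp) (by
      have := QuotientGroup.eq.mp hpg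
      have h' := (inferInstance : N.Normal).conj_mem _ this p
      simpa [mul_assoc] using h')
  obtain ⟨l, hl⟩ := Subgroup.mem_zpowers_iff.mp
    (hk.symm ▸ ⟨g * g, hgg, rfl⟩ : ((g * g : X) : X ⧸ N) ∈ Subgroup.zpowers k)
  have huN : u ∉ N := by
    intro h
    have h1 : u ∈ N := h
    have hu1 : u ≠ 1 := fun e => hmove (by rw [e, mul_one, mul_inv_cancel])
    have huz : u = z := congrArg Subtype.val (eq_of_sq_eq_one (H := N) (a := ⟨u, h1⟩) (b := ⟨z, hzN⟩)
      (Subtype.ext hu2) (fun e => hu1 (congrArg Subtype.val e)) (Subtype.ext hz2)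
      (fun e => hz1 (congrArg Subtype.val e)))
    have h2 : g * u * g⁻¹ = 1 := by
      calc g * u * g⁻¹ = z * u := by rw [hzdef]; group
        _ = 1 := by rw [← huz, hu2]
    exact hu1 (conj_eq_one_iff.mp h2)
  have hwk : ∃ i : ℤ, (w : X ⧸ N) = ((g * g : X) : X ⧸ N) ^ i := by
    rcases Int.even_or_odd' l with ⟨q, rfl | rfl⟩
    · exfalso
      set y := (g : X ⧸ N) * (k ^ q)⁻¹ with hy
      have hcomm : ∀ a b : X ⧸ N, Commute a b := fun a b => (IsCyclic.commGroup (α := X ⧸ N)).mul_comm a b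
      have hy2 : y * y = 1 := by
        rw [hy, ((hcomm _ _).symm).mul_mul_mul_comm, ← QuotientGroup.mk_mul, ← hl, ← mul_inv_rev,
          ← zpow_add, two_mul, mul_inv_cancel]
      have hkK : ∀ i : ℤ, k ^ i ∈ K := fun i => hk ▸ Subgroup.zpow_mem_zpowers k i
      have hy1 : y ≠ 1 := fun e => hgK (by rw [mul_inv_eq_one.mp e]; exact hkK q)
      have hu' : ((u : X) : X ⧸ N) = y := eq_of_sq_eq_one (H := X ⧸ N)
        (by rw [← QuotientGroup.mk_mul, hu2]; rfl)
        (fun e => huN ((QuotientGroup.eq_one_iff u).mp e)) hy2 hy1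
      refine hgK ?_
      rw [show (g : X ⧸ N) = y * k ^ q by rw [hy, inv_mul_cancel_right], ← hu']
      exact mul_mem ⟨u, hu, rfl⟩ (hkK q)
    · obtain ⟨j, hj⟩ := Subgroup.mem_zpowers_iff.mp
        (hk.symm ▸ ⟨w, hw, rfl⟩ : (w : X ⧸ N) ∈ Subgroup.zpowers k)
      obtain ⟨e, he⟩ := (hX.to_quotient N) k
      obtain ⟨e, -, he⟩ := (Nat.dvd_prime_pow Nat.prime_two).mp (orderOf_dvd_of_pow_eq_one he)
      obtain ⟨r, s, hrs⟩ : IsCoprime ((2 ^ e : ℕ) : ℤ) (2 * q + 1) := by
        push_cast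
        exact IsCoprime.pow_left ⟨-q, 1, by ring⟩
      refine ⟨s * j, ?_⟩
      have hk1 : k ^ ((2 ^ e : ℕ) : ℤ) = 1 := by rw [zpow_natCast, ← he, pow_orderOf_eq_one]
      rw [← hl, ← hj, ← zpow_mul]
      have : j = ((2 ^ e : ℕ) : ℤ) * (r * j) + (2 * q + 1) * (s * j) := by linear_combination (-j) * hrs
      conv_lhs => rw [this, zpow_add, zpow_mul, hk1, one_zpow, one_mul]
  obtain ⟨i, hi⟩ := hwk
  rw [← QuotientGroup.mk_zpow] at hi
  obtain ⟨j, hj⟩ := Subgroup.mem_zpowers_iff.mp (hmem _ (QuotientGroup.eq.mp hi.symm)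
    (hexp _ (mul_mem (inv_mem (zpow_mem hgg i)) hw)))
  have hwj : w = (g * g) ^ i * d ^ j := by rw [hj, mul_inv_cancel_left]
  have hgi : g * (g * g) ^ i * g⁻¹ = (g * g) ^ i := by
    rw [← conj_zpow]; congr 1; group
  have hd2 : d = d ^ (-j + -j) := by
    conv_lhs => rw [hddef, hwj,
      show g * ((g * g) ^ i * d ^ j) * g⁻¹ = (g * (g * g) ^ i * g⁻¹) * (g * d ^ j * g⁻¹) by group,
      hgi, hgdk, mul_inv_rev, ← zpow_neg, mul_assoc, ← mul_assoc (d ^ (-j)), ← zpow_add,
      ← mul_assoc, (hc _ (zpow_mem hgg i) _ (zpow_mem hdP _)).eq, mul_inv_cancel_right]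
  have h1 : d ^ (2 * j + 1) = 1 := by
    rw [zpow_add_one]
    nth_rewrite 2 [hd2]
    rw [← zpow_add, show 2 * j + (-j + -j) = 0 by ring, zpow_zero]
  rw [← orderOf_dvd_iff_zpow_eq_one, hod] at h1
  have : (2 : ℤ) ∣ 2 * j + 1 := Dvd.dvd.trans (by push_cast; exact dvd_pow_self 2 (by omega)) h1
  omega

end Cfsg.Agent.TwoFusion36.Metacyclic
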