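import Cfsg.Agent.TwoFusion36.QDSub
import Cfsg.Agent.TwoFusion36.FusionTools

/-!
# Fusion in groups with a quasi-dihedral Sylow 2-subgroup (helper36)
-/

set_option linter.unusedSectionVars false

namespace Cfsg.Agent.TwoFusion36

variable {G : Type*} [Group G]

theorem centralizer_map_conj (T : Subgroup G) (s : G) :
    Subgroup.centralizer ((T.map (MulAut.conj s).toMonoidHom : Subgroup G) : Set G) =
      (Subgroup.centralizer (T : Set G)).map (MulAut.conj s).toMonoidHom := by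
  ext v
  rw [mem_map_conj, Subgroup.mem_centralizer_iff, Subgroup.mem_centralizer_iff]
  constructor
  · intro h t ht
    have := h (s * t * s⁻¹) ⟨t, ht, rfl⟩
    calc t * (s⁻¹ * v * s) = s⁻¹ * (s * t * s⁻¹ * v) * s := by group
      _ = s⁻¹ * v * s * t := by rw [this]; group
  · rintro h _ ⟨t, ht, rfl⟩
    show s * t * s⁻¹ * v = v * (s * t * s⁻¹)
    calc s * t * s⁻¹ * v = s * (t * (s⁻¹ * v * s)) * s⁻¹ := by group
      _ = v * (s * t * s⁻¹) := by rw [h t ht]; group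

theorem normalizer_map_conj (T : Subgroup G) (s : G) :
    Subgroup.normalizer ((T.map (MulAut.conj s).toMonoidHom : Subgroup G) : Set G) =
      (Subgroup.normalizer (T : Set G)).map (MulAut.conj s).toMonoidHom := by
  ext v
  rw [mem_map_conj, Subgroup.mem_normalizer_iff, Subgroup.mem_normalizer_iff]
  constructor
  · intro h t
    have := h (s * t * s⁻¹)
    rw [mem_map_conj, mem_map_conj] at this
    calc t ∈ T ↔ s⁻¹ * (s * t * s⁻¹) * s ∈ T := by group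
      _ ↔ _ := this
      _ ↔ _ := by group
  · intro h t
    rw [mem_map_conj, mem_map_conj, h (s⁻¹ * t * s)]
    group

theorem relIndex_centralizer_map_conj (T : Subgroup G) (s : G) :
    (Subgroup.centralizer ((T.map (MulAut.conj s).toMonoidHom : Subgroup G) : Set G)).relIndex
        (Subgroup.normalizer ((T.map (MulAut.conj s).toMonoidHom : Subgroup G) : Set G)) =
      (Subgroup.centralizer (T : Set G)).relIndex (Subgroup.normalizer (T : Set G)) := by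
  rw [centralizer_map_conj, normalizer_map_conj]
  exact Subgroup.relIndex_map_map_of_injective _ _ (MulAut.conj s).injective

theorem relIndex_sup_centralizer_map_conj (T : Subgroup G) (s : G) :
    (T.map (MulAut.conj s).toMonoidHom ⊔
        Subgroup.centralizer ((T.map (MulAut.conj s).toMonoidHom : Subgroup G) : Set G)).relIndex
        (Subgroup.normalizer ((T.map (MulAut.conj s).toMonoidHom : Subgroup G) : Set G)) =
      (T ⊔ Subgroup.centralizer (T : Set G)).relIndex (Subgroup.normalizer (T : Set G)) := by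
  rw [centralizer_map_conj, normalizer_map_conj, ← Subgroup.map_sup]
  exact Subgroup.relIndex_map_map_of_injective _ _ (MulAut.conj s).injective

/-- Sign homomorphism of a subgroup of index two. -/
noncomputable def signHom {P : Type*} [Group P] (M : Subgroup P) (h : M.index = 2) : P →* ℤˣ := by
  classical
  exact
  { toFun := fun v => if v ∈ M then 1 else -1
    map_one' := if_pos M.one_mem
    map_mul' := fun a b => by
      have := Subgroup.mul_mem_iff_of_index_two h (a := a) (b := b)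
      by_cases ha : a ∈ M <;> by_cases hb : b ∈ M <;> simp_all }

theorem signHom_eq_one {P : Type*} [Group P] (M : Subgroup P) (h : M.index = 2) (v : P) :
    signHom M h v = 1 ↔ v ∈ M := by
  classical
  simp only [signHom, MonoidHom.coe_mk, OneHom.coe_mk]
  by_cases hv : v ∈ M <;> simp [hv]

theorem signHom_congr {P : Type*} [Group P] (M : Subgroup P) (h : M.index = 2) {v w : P}
    (hvw : v ∈ M ↔ w ∈ M) : signHom M h v = signHom M h w := by
  classical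
  simp only [signHom, MonoidHom.coe_mk, OneHom.coe_mk, hvw]

/-- The setting: a quasi-dihedral Sylow 2-subgroup with coordinates. -/
structure QDSylow (S : Sylow 2 G) (e : ℕ) (x y : G) : Prop where
  qd : IsQD (S : Subgroup G) e x y

namespace QDSylow

variable [Finite G] {S : Sylow 2 G} {e : ℕ} {x y : G} (W : QDSylow S e x y)
include W

theorem mem_zc {v : G} :
    v ∈ Subgroup.zpowers (x ^ (4 * e : ℤ)) ↔ ∃ m : ℤ, v = x ^ (4 * e * m) := by
  rw [Subgroup.mem_zpowers_iff]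
  exact ⟨fun ⟨m, hm⟩ => ⟨m, by rw [← hm, ← zpow_mul]⟩, fun ⟨m, hm⟩ => ⟨m, by rw [hm, ← zpow_mul]⟩⟩

theorem four0_cases {v : G} (hv : v ∈ W.qd.four 0) :
    v = 1 ∨ v = x ^ (4 * e : ℤ) ∨ v = y ∨ v = x ^ (4 * e : ℤ) * y := by
  have D := W.qd
  obtain ⟨m, rfl | rfl⟩ := D.mem_four.mp hv <;> rcases Int.even_or_odd' m with ⟨l, rfl | rfl⟩
  · exact Or.inl (D.zpow_eq_one.mpr ⟨l, by ring⟩)
  · exact Or.inr (Or.inl (D.zpow_eq_of l (by ring)))
  · refine Or.inr (Or.inr (Or.inl ?_))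
    rw [show x ^ (2 * 0 + 4 * e * (2 * l) : ℤ) = x ^ (0 : ℤ) from D.zpow_eq_of l (by ring)]
    simp
  · refine Or.inr (Or.inr (Or.inr ?_))
    rw [show x ^ (2 * 0 + 4 * e * (2 * l + 1) : ℤ) = x ^ (4 * e : ℤ) from D.zpow_eq_of l (by ring)]

theorem c_mem_four : x ^ (4 * e : ℤ) ∈ W.qd.four 0 :=
  W.qd.mem_four.mpr ⟨1, Or.inl (by rw [mul_one])⟩

theorem y_mem_four : y ∈ W.qd.four 0 :=
  W.qd.mem_four.mpr ⟨0, Or.inr (by simp)⟩

theorem cy_mem_four : x ^ (4 * e : ℤ) * y ∈ W.qd.four 0 := mul_mem W.c_mem_four W.y_mem_four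

theorem y_ne_c : y ≠ x ^ (4 * e : ℤ) := fun h => W.qd.a_ne_b (4 * e) 0 (by rw [← h]; simp)

theorem cy_ne_c : x ^ (4 * e : ℤ) * y ≠ x ^ (4 * e : ℤ) := fun h =>
  W.qd.a_ne_b (4 * e) (4 * e) h.symm

theorem cy_ne_y : x ^ (4 * e : ℤ) * y ≠ y := fun h => W.qd.c_ne_one (mul_eq_right.mp h)

theorem four_dich :
    ((Subgroup.centralizer (W.qd.four 0 : Set G)).relIndex (Subgroup.normalizer (W.qd.four 0 : Set G)) = 2 ∧
      ∀ n ∈ Subgroup.normalizer (W.qd.four 0 : Set G), n * x ^ (4 * e : ℤ) * n⁻¹ = x ^ (4 * e : ℤ)) ∨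
    ((Subgroup.centralizer (W.qd.four 0 : Set G)).relIndex (Subgroup.normalizer (W.qd.four 0 : Set G)) = 6 ∧
      ∃ g ∈ Subgroup.normalizer (W.qd.four 0 : Set G), Odd (orderOf g) ∧
        g * x ^ (4 * e : ℤ) * g⁻¹ = y ∧ g * y * g⁻¹ = x ^ (4 * e : ℤ) * y ∧
        g * (x ^ (4 * e : ℤ) * y) * g⁻¹ = x ^ (4 * e : ℤ)) := by
  have D := W.qd
  set c := x ^ (4 * e : ℤ) with hc
  set N := Subgroup.normalizer (D.four 0 : Set G)
  set C := Subgroup.centralizer (D.four 0 : Set G)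
  have hv : ∀ k, (![c, y, c * y] : Fin 3 → G) k ∈ D.four 0 ∧ (![c, y, c * y] : Fin 3 → G) k ≠ 1 := by
    intro k
    fin_cases k
    · exact ⟨W.c_mem_four, D.c_ne_one⟩
    · exact ⟨W.y_mem_four, fun h => D.a_ne_b 0 0 (by simpa using h.symm)⟩
    · exact ⟨W.cy_mem_four, fun h => D.a_ne_b 0 (4 * e) (by simpa using h.symm)⟩
  have hbot : ∀ u w : G, u⁻¹ * w ∈ (⊥ : Subgroup G) ↔ u = w := fun u w => by
    rw [Subgroup.mem_bot, inv_mul_eq_one]
  have h := three_dichotomy (N := N) (C := C) ⊥ ![c, y, c * y] ?_ ?_ ?_ ?_ ?_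
    (x ^ (2 * e : ℤ)) ?_ ?_ ?_
  · rcases h with ⟨h2, hfix⟩ | ⟨h6, g, hg, hodd, hg3⟩
    · exact Or.inl ⟨h2, fun n hn => ((hbot _ _).mp (hfix n hn)).symm⟩
    · exact Or.inr ⟨h6, g, hg, hodd, ((hbot _ _).mp (hg3 0)).symm,
        ((hbot _ _).mp (hg3 1)).symm, ((hbot _ _).mp (hg3 2)).symm⟩
  · intro k l h
    rw [hbot] at h
    fin_cases k <;> fin_cases l
    · rfl
    · exact absurd h.symm W.y_ne_c
    · exact absurd h.symm W.cy_ne_c
    · exact absurd h W.y_ne_c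
    · rfl
    · exact absurd h.symm W.cy_ne_y
    · exact absurd h W.cy_ne_c
    · exact absurd h W.cy_ne_y
    · rfl
  · intro n _ w hw
    rw [Subgroup.mem_bot] at hw ⊢
    rw [hw]; group
  · intro n hn k
    have hmem := (Subgroup.mem_normalizer_iff.mp hn _).mp (hv k).1
    rcases W.four0_cases hmem with h | h | h | h
    · exfalso
      rw [conj_eq_one_iff] at h
      exact (hv k).2 h
    · exact ⟨0, (hbot _ _).mpr h.symm⟩
    · exact ⟨1, (hbot _ _).mpr h.symm⟩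
    · exact ⟨2, (hbot _ _).mpr h.symm⟩
  · intro n _ hfix
    rw [Subgroup.mem_centralizer_iff]
    intro w hw
    have h' : ∀ k, Commute n ((![c, y, c * y] : Fin 3 → G) k) := fun k =>
      mul_inv_eq_iff_eq_mul.mp ((hbot _ _).mp (hfix k)).symm
    rcases W.four0_cases hw with rfl | rfl | rfl | rfl
    · simp
    · exact (h' 0).eq.symm
    · exact (h' 1).eq.symm
    · exact (h' 2).eq.symm
  · intro n hn _ k
    rw [hbot, ← Subgroup.mem_centralizer_iff.mp hn _ (hv k).1]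
    group
  · refine Subgroup.mem_normalizer_fintype fun w hw => ?_
    obtain ⟨m, rfl | rfl⟩ := D.mem_four.mp hw
    · exact D.mem_four.mpr ⟨m, Or.inl (by group)⟩
    · exact D.mem_four.mpr ⟨m + 1 - 2 * e, Or.inr (by rw [D.a_conj_b]; ring_nf)⟩
  · rw [hbot]
    show c = _ * c * _
    rw [hc]; group
  · rw [hbot]
    show c * y = x ^ (2 * e : ℤ) * y * (x ^ (2 * e : ℤ))⁻¹
    have := D.a_conj_b (2 * e) 0
    rw [zpow_zero, one_mul] at this
    rw [this, hc, D.b_congr]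
    exact ⟨e, by ring⟩

theorem quat0_cases {v : G} (hv : v ∈ W.qd.quat 0) :
    v ∈ Subgroup.zpowers (x ^ (4 * e : ℤ)) ∨
    (x ^ (2 * e : ℤ))⁻¹ * v ∈ Subgroup.zpowers (x ^ (4 * e : ℤ)) ∨
    (x * y)⁻¹ * v ∈ Subgroup.zpowers (x ^ (4 * e : ℤ)) ∨
    (x ^ (2 * e + 1 : ℤ) * y)⁻¹ * v ∈ Subgroup.zpowers (x ^ (4 * e : ℤ)) := by
  have D := W.qd
  obtain ⟨m, rfl | rfl⟩ := D.mem_quat.mp hv <;> rcases Int.even_or_odd' m with ⟨l, rfl | rfl⟩
  · exact Or.inl (W.mem_zc.mpr ⟨l, by ring_nf⟩)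
  · refine Or.inr (Or.inl (W.mem_zc.mpr ⟨l, ?_⟩))
    rw [← zpow_neg, ← zpow_add]; ring_nf
  · refine Or.inr (Or.inr (Or.inl (W.mem_zc.mpr ⟨-l, ?_⟩)))
    rw [show x * y = x ^ (1 : ℤ) * y by simp, D.b_inv, D.b_mul_b]
    exact D.zpow_eq_of (l * (2 * e) - (2 * e - 1) * 0) (by ring)
  · refine Or.inr (Or.inr (Or.inr (W.mem_zc.mpr ⟨-l, ?_⟩)))
    rw [D.b_inv, D.b_mul_b]
    exact D.zpow_eq_of (2 * e * l) (by ring)

theorem i_mem_quat : x ^ (2 * e : ℤ) ∈ W.qd.quat 0 :=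
  W.qd.mem_quat.mpr ⟨1, Or.inl (by rw [mul_one])⟩

theorem j_mem_quat : x * y ∈ W.qd.quat 0 :=
  W.qd.mem_quat.mpr ⟨0, Or.inr (by simp)⟩

theorem k_mem_quat : x ^ (2 * e + 1 : ℤ) * y ∈ W.qd.quat 0 :=
  W.qd.mem_quat.mpr ⟨1, Or.inr (by ring_nf)⟩

theorem c_comm_quat {v : G} (hv : v ∈ W.qd.quat 0) : Commute (x ^ (4 * e : ℤ)) v :=
  W.qd.c_comm (W.qd.quat_le 0 hv)

theorem quat0_invol {v : G} (hv : v ∈ W.qd.quat 0) (h : v * v = 1) (h1 : v ≠ 1) :
    v = x ^ (4 * e : ℤ) := by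
  have D := W.qd
  rcases D.sq_one (D.quat_le 0 hv) h with h2 | h2 | ⟨k, rfl⟩
  · exact absurd h2 h1
  · exact h2
  · obtain ⟨m, hm | hm⟩ := D.mem_quat.mp hv
    · exact absurd hm.symm (D.a_ne_b _ _)
    · obtain ⟨p, hp⟩ := D.b_congr.mp hm
      simp only [mul_assoc] at hp
      omega

theorem quat_dich :
    ((W.qd.quat 0 ⊔ Subgroup.centralizer (W.qd.quat 0 : Set G)).relIndex
        (Subgroup.normalizer (W.qd.quat 0 : Set G)) = 2 ∧
      ∀ n ∈ Subgroup.normalizer (W.qd.quat 0 : Set G),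
        (x ^ (2 * e : ℤ))⁻¹ * (n * x ^ (2 * e : ℤ) * n⁻¹) ∈ Subgroup.zpowers (x ^ (4 * e : ℤ))) ∨
    ((W.qd.quat 0 ⊔ Subgroup.centralizer (W.qd.quat 0 : Set G)).relIndex
        (Subgroup.normalizer (W.qd.quat 0 : Set G)) = 6 ∧
      ∃ g ∈ Subgroup.normalizer (W.qd.quat 0 : Set G), Odd (orderOf g) ∧
        (x * y)⁻¹ * (g * x ^ (2 * e : ℤ) * g⁻¹) ∈ Subgroup.zpowers (x ^ (4 * e : ℤ)) ∧
        (x ^ (2 * e + 1 : ℤ) * y)⁻¹ * (g * (x * y) * g⁻¹) ∈ Subgroup.zpowers (x ^ (4 * e : ℤ)) ∧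
        (x ^ (2 * e : ℤ))⁻¹ * (g * (x ^ (2 * e + 1 : ℤ) * y) * g⁻¹) ∈
          Subgroup.zpowers (x ^ (4 * e : ℤ))) := by
  have D := W.qd
  set Q := D.quat 0 with hQ
  set Z := Subgroup.zpowers (x ^ (4 * e : ℤ)) with hZdef
  set v : Fin 3 → G := ![x ^ (2 * e : ℤ), x * y, x ^ (2 * e + 1 : ℤ) * y] with hvdef
  have hv : ∀ k, v k ∈ Q := by
    intro k; fin_cases k
    exacts [W.i_mem_quat, W.j_mem_quat, W.k_mem_quat]
  have hxy : x * y = x ^ (2 * 0 + 1 : ℤ) * y := by simp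
  have hv4 : ∀ k, orderOf (v k) = 4 := by
    intro k; fin_cases k
    · exact D.orderOf_i
    · show orderOf (x * y) = 4
      rw [hxy]; exact D.orderOf_b_odd 0
    · show orderOf (x ^ (2 * e + 1 : ℤ) * y) = 4
      exact D.orderOf_b_odd _
  have hdvd : ∀ {u : ℤ}, x ^ u ∈ Z → (4 * e : ℤ) ∣ u := by
    intro u hu
    obtain ⟨m, hm⟩ := W.mem_zc.mp hu
    obtain ⟨p, hp⟩ := D.zpow_congr.mp hm
    exact ⟨m + 2 * p, by linarith⟩
  have hnb : ∀ {u : ℤ}, x ^ u * y ∉ Z := fun {u} hu => by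
    obtain ⟨m, hm⟩ := W.mem_zc.mp hu
    exact D.a_ne_b _ _ hm.symm
  have hyv : ∀ k, (x ^ (2 * e : ℤ))⁻¹ * v k ∈ Z → k = 0 := by
    intro k h
    fin_cases k
    · rfl
    · exfalso
      refine hnb (u := -(2 * e) + 1) ?_
      rwa [zpow_add, zpow_one, zpow_neg, mul_assoc]
    · exfalso
      refine hnb (u := -(2 * e) + (2 * e + 1)) ?_
      rwa [zpow_add, zpow_neg, mul_assoc]
  have h := three_dichotomy (N := Subgroup.normalizer (Q : Set G))
    (C := Q ⊔ Subgroup.centralizer (Q : Set G)) Z v ?_ ?_ ?_ ?_ ?_ (x ^ (e : ℤ)) ?_ ?_ ?_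
  · rcases h with ⟨h2, hfix⟩ | ⟨h6, g, hg, hodd, hg3⟩
    · exact Or.inl ⟨h2, hfix⟩
    · exact Or.inr ⟨h6, g, hg, hodd, hg3 0, hg3 1, hg3 2⟩
  · intro k l h
    have hsym : (v l)⁻¹ * v k ∈ Z := by simpa using inv_mem h
    by_cases hk : k = 0
    · subst hk; exact (hyv l h).symm
    by_cases hl : l = 0
    · subst hl; exact hyv k hsym
    have hjk : ¬ (x * y)⁻¹ * (x ^ (2 * e + 1 : ℤ) * y) ∈ Z := by
      intro hh
      rw [hxy, D.b_inv, D.b_mul_b] at hh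
      obtain ⟨p, hp⟩ := hdvd hh
      have h2 : (2 * e : ℤ) * (4 * e - 1 - 2 * p) = (2 * e) * 0 := by linarith
      have h3 := mul_left_cancel₀ (mul_ne_zero two_ne_zero D.e_ne) h2
      omega
    fin_cases k <;> fin_cases l
    · exact absurd rfl hk
    · exact absurd rfl hk
    · exact absurd rfl hk
    · exact absurd rfl hl
    · rfl
    · exact absurd h hjk
    · exact absurd rfl hl
    · exact absurd hsym hjk
    · rfl
  · intro n hn w hw
    obtain ⟨m, rfl⟩ := Subgroup.mem_zpowers_iff.mp hw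
    have hcQ : x ^ (4 * e : ℤ) ∈ Q := D.mem_quat.mpr ⟨2, Or.inl (by ring_nf)⟩
    have hconj := (Subgroup.mem_normalizer_iff.mp hn _).mp hcQ
    have hce : n * x ^ (4 * e : ℤ) * n⁻¹ = x ^ (4 * e : ℤ) := by
      refine W.quat0_invol hconj ?_ ?_
      · calc n * x ^ (4 * e : ℤ) * n⁻¹ * (n * x ^ (4 * e : ℤ) * n⁻¹)
            = n * (x ^ (4 * e : ℤ) * x ^ (4 * e : ℤ)) * n⁻¹ := by group
          _ = 1 := by rw [D.c_sq]; group
      · rw [Ne, conj_eq_one_iff]; exact D.c_ne_one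
    rw [← conj_zpow, hce]; exact hw
  · intro n hn k
    have hmem := (Subgroup.mem_normalizer_iff.mp hn _).mp (hv k)
    rcases W.quat0_cases hmem with h | h | h | h
    · exfalso
      obtain ⟨m, hm⟩ := W.mem_zc.mp h
      have h4 : orderOf (n * v k * n⁻¹) = 4 :=
        ((MulAut.conj n).orderOf_eq (v k)).trans (hv4 k)
      have h2 : orderOf (n * v k * n⁻¹) ∣ 2 := by
        apply orderOf_dvd_of_pow_eq_one
        rw [hm, sq, ← zpow_add, D.zpow_eq_one]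
        exact ⟨m, by ring⟩
      rw [h4] at h2
      norm_num at h2
    · exact ⟨0, h⟩
    · exact ⟨1, h⟩
    · exact ⟨2, h⟩
  · intro n _ hfix
    -- after correcting by an element of `Q`, `n` centralises `i` and `j`
    have hi := hfix 0
    have hj := hfix 1
    simp only [hvdef, Matrix.cons_val_zero, Matrix.cons_val_one] at hi hj
    obtain ⟨m, hm⟩ := W.mem_zc.mp hi
    obtain ⟨l, hl⟩ := W.mem_zc.mp hj
    rw [inv_mul_eq_iff_eq_mul] at hm hl
    have hpick : ∃ q ∈ Q, q * x ^ (2 * e : ℤ) * q⁻¹ = n * x ^ (2 * e : ℤ) * n⁻¹ ∧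
        q * (x * y) * q⁻¹ = n * (x * y) * n⁻¹ := by
      rw [hm, hl, hxy, D.b_mul_a, ← zpow_add]
      rcases Int.even_or_odd' m with ⟨m', rfl | rfl⟩ <;>
        rcases Int.even_or_odd' l with ⟨l', rfl | rfl⟩
      · refine ⟨1, Q.one_mem, ?_, ?_⟩
        · rw [inv_one, mul_one, one_mul]; exact D.zpow_eq_of (-m') (by ring)
        · rw [inv_one, mul_one, one_mul, D.b_congr]; exact ⟨-((4 * e - 1) * l'), by ring⟩
      · refine ⟨x ^ (2 * e : ℤ), W.i_mem_quat, ?_, ?_⟩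
        · rw [mul_inv_cancel_right]; exact D.zpow_eq_of (-m') (by ring)
        · rw [D.a_conj_b, D.b_congr]
          exact ⟨e * (1 - 2 * e) * 0 + (-(4 * e - 1) * l' - 3 * e + 1), by ring⟩
      · refine ⟨x * y, W.j_mem_quat, ?_, ?_⟩
        · rw [hxy, D.b_conj_a]; exact D.zpow_eq_of (e - m' - 1) (by ring)
        · rw [hxy, mul_inv_cancel_right, D.b_congr]; exact ⟨-((4 * e - 1) * l'), by ring⟩
      · refine ⟨x ^ (2 * e + 1 : ℤ) * y, W.k_mem_quat, ?_, ?_⟩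
        · rw [D.b_conj_a]; exact D.zpow_eq_of (e - m' - 1) (by ring)
        · rw [D.b_conj_b, D.b_congr]
          exact ⟨-(4 * e - 1) * l' - 3 * e + 1, by ring⟩
    obtain ⟨q, hq, hqi, hqj⟩ := hpick
    have hC : q⁻¹ * n ∈ Subgroup.centralizer (Q : Set G) := by
      have c1 : Commute (q⁻¹ * n) (x ^ (2 * e : ℤ)) := by
        show q⁻¹ * n * x ^ (2 * e : ℤ) = x ^ (2 * e : ℤ) * (q⁻¹ * n)
        calc q⁻¹ * n * x ^ (2 * e : ℤ) = q⁻¹ * (n * x ^ (2 * e : ℤ) * n⁻¹) * n := by group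
          _ = _ := by rw [← hqi]; group
      have c2 : Commute (q⁻¹ * n) (x * y) := by
        show q⁻¹ * n * (x * y) = x * y * (q⁻¹ * n)
        calc q⁻¹ * n * (x * y) = q⁻¹ * (n * (x * y) * n⁻¹) * n := by group
          _ = _ := by rw [← hqj]; group
      rw [Subgroup.mem_centralizer_iff]
      intro w hw
      obtain ⟨p, rfl | rfl⟩ := D.mem_quat.mp hw
      · rw [zpow_mul]; exact (c1.zpow_right p).eq.symm
      · have e1 : x ^ (2 * 0 + 1 + 2 * e * p : ℤ) * y = (x ^ (2 * e : ℤ)) ^ p * (x * y) := by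
          rw [← zpow_mul, ← mul_assoc, ← zpow_add_one]; ring_nf
        rw [e1]; exact ((c1.zpow_right p).mul_right c2).eq.symm
    have := mul_mem (Subgroup.mem_sup_left hq : q ∈ Q ⊔ Subgroup.centralizer (Q : Set G))
      (Subgroup.mem_sup_right hC)
    rwa [mul_inv_cancel_left] at this
  · intro n hn _ k
    have hnorm : Q ≤ Subgroup.normalizer (Subgroup.centralizer (Q : Set G) : Set G) := by
      intro q hq
      have key : ∀ q ∈ Q, ∀ w ∈ Subgroup.centralizer (Q : Set G),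
          q * w * q⁻¹ ∈ Subgroup.centralizer (Q : Set G) := by
        intro q hq w hw
        rw [Subgroup.mem_centralizer_iff] at hw ⊢
        intro u hu
        have := hw (q⁻¹ * u * q) (mul_mem (mul_mem (inv_mem hq) hu) hq)
        calc u * (q * w * q⁻¹) = q * ((q⁻¹ * u * q) * w) * q⁻¹ := by group
          _ = q * w * q⁻¹ * u := by rw [this]; group
      rw [Subgroup.mem_normalizer_iff]
      intro w
      refine ⟨key q hq w, fun h => ?_⟩
      have := key q⁻¹ (inv_mem hq) _ h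
      simpa [mul_assoc] using this
    have hn' : n ∈ (↑(Q ⊔ Subgroup.centralizer (Q : Set G)) : Set G) := hn
    rw [Subgroup.coe_mul_of_left_le_normalizer_right _ _ hnorm] at hn'
    obtain ⟨q, hq, w, hw, rfl⟩ := hn'
    have hwv := Subgroup.mem_centralizer_iff.mp hw _ (hv k)
    have e1 : q * w * v k * (q * w)⁻¹ = q * v k * q⁻¹ := by
      calc q * w * v k * (q * w)⁻¹ = q * (w * v k) * w⁻¹ * q⁻¹ := by group
        _ = _ := by rw [← hwv]; group
    show (v k)⁻¹ * (q * w * v k * (q * w)⁻¹) ∈ Z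
    rw [e1]
    -- commutators inside `Q` lie in `Z`
    have key : ∀ a ∈ Q, ∀ b ∈ Q, b⁻¹ * (a * b * a⁻¹) ∈ Z := by
      intro a ha b hb
      obtain ⟨p, rfl | rfl⟩ := D.mem_quat.mp ha <;> obtain ⟨r, rfl | rfl⟩ := D.mem_quat.mp hb
      · rw [← zpow_add, ← zpow_neg, ← zpow_neg, ← zpow_add, ← zpow_add]
        exact W.mem_zc.mpr ⟨0, by ring_nf⟩
      · rw [D.a_conj_b, D.b_inv, D.b_mul_b]
        exact W.mem_zc.mpr ⟨-p, D.zpow_eq_of (3 * e * p - 4 * e * e * p) (by ring)⟩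
      · rw [D.b_conj_a, ← zpow_neg, ← zpow_add]
        exact W.mem_zc.mpr ⟨(2 * e - 1) * r, by ring_nf⟩
      · rw [D.b_conj_b, D.b_inv, D.b_mul_b]
        exact W.mem_zc.mpr ⟨r - p, D.zpow_eq_of
          (3 * e * (p - r) + 4 * e * e * (r - p)) (by ring)⟩
    exact key q hq _ (hv k)
  · refine Subgroup.mem_normalizer_fintype fun w hw => ?_
    obtain ⟨m, rfl | rfl⟩ := D.mem_quat.mp hw
    · exact D.mem_quat.mpr ⟨m, Or.inl (by group)⟩
    · exact D.mem_quat.mpr ⟨m + 1 - 2 * e, Or.inr (by rw [D.a_conj_b]; ring_nf)⟩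
  · show (x ^ (2 * e : ℤ))⁻¹ * (x ^ (e : ℤ) * x ^ (2 * e : ℤ) * (x ^ (e : ℤ))⁻¹) ∈ Z
    rw [show (x ^ (2 * e : ℤ))⁻¹ * (x ^ (e : ℤ) * x ^ (2 * e : ℤ) * (x ^ (e : ℤ))⁻¹) = 1 by group]
    exact Z.one_mem
  · show (x ^ (2 * e + 1 : ℤ) * y)⁻¹ * (x ^ (e : ℤ) * (x * y) * (x ^ (e : ℤ))⁻¹) ∈ Z
    rw [hxy, D.a_conj_b, D.b_inv, D.b_mul_b]
    exact W.mem_zc.mpr ⟨e, D.zpow_eq_of (-2 * (e : ℤ) * e) (by ring)⟩

end QDSylow

end Cfsg.Agent.TwoFusion36
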