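import Cfsg.Agent.TwoFusion36.FusionTools

/-!
# Small tools for 2-subgroups and transfer kernels (helper36)
-/

set_option linter.unusedSectionVars false

namespace Cfsg.Agent.TwoFusion36

variable {G : Type*} [Group G] [Finite G]

/-- A 2-subgroup of even index in `M` is normal of index two in some 2-subgroup of `M`. -/
theorem exists_double {M P : Subgroup G} (hPM : P ≤ M) (hP : IsPGroup 2 P)
    (h : 2 ∣ P.relIndex M) :
    ∃ R : Subgroup G, R ≤ M ∧ P ≤ R ∧ IsPGroup 2 R ∧ Nat.card R = 2 * Nat.card P ∧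
      ∀ r ∈ R, ∀ p ∈ P, r * p * r⁻¹ ∈ P := by
  obtain ⟨n, hn⟩ := IsPGroup.iff_card.mp hP
  have hP' : Nat.card (P.subgroupOf M) = 2 ^ n := by
    rw [Nat.card_congr (Subgroup.subgroupOfEquivOfLe hPM).toEquiv, hn]
  have hdvd : 2 ^ (n + 1) ∣ Nat.card M := by
    rw [← Subgroup.card_mul_index (P.subgroupOf M), hP', pow_succ]
    exact Nat.mul_dvd_mul_left _ h
  obtain ⟨K, hK, hPK⟩ := Sylow.exists_subgroup_card_pow_succ hdvd hP'
  have hle : P ≤ K.map M.subtype := fun p hp => ⟨⟨p, hPM hp⟩, hPK hp, rfl⟩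
  have hcard : Nat.card (K.map M.subtype) = 2 ^ (n + 1) := by
    rw [Subgroup.card_map_of_injective M.subtype_injective, hK]
  refine ⟨K.map M.subtype, Subgroup.map_subtype_le K, hle, IsPGroup.of_card hcard,
    by rw [hcard, hn]; ring, ?_⟩
  have hidx : (P.subgroupOf (K.map M.subtype)).index = 2 := by
    apply Nat.eq_of_mul_eq_mul_left (Nat.card_pos : 0 < Nat.card P)
    conv_lhs => rw [← Nat.card_congr (Subgroup.subgroupOfEquivOfLe hle).toEquiv]
    rw [Subgroup.card_mul_index, hcard, hn, pow_succ]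
  have hN := Subgroup.normal_of_index_eq_two hidx
  intro r hr p hp
  exact hN.conj_mem ⟨p, hle hp⟩ hp ⟨r, hr⟩

/-- A 2-subgroup whose order is that of a Sylow 2-subgroup `P` of `M` maps onto `P`. -/
theorem exists_conj_eq {M P R : Subgroup G} (hPM : P ≤ M) (hP : IsPGroup 2 P)
    (hidx : ¬ 2 ∣ P.relIndex M) (hRM : R ≤ M) (hR : IsPGroup 2 R)
    (hcard : Nat.card P ≤ Nat.card R) :
    ∃ m ∈ M, ∀ v, v ∈ P ↔ ∃ r ∈ R, m * r * m⁻¹ = v := by
  obtain ⟨m, hm, hmR⟩ := exists_conj_into hPM hP hidx hRM hR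
  have he : R.map (MulAut.conj m).toMonoidHom = P := by
    refine Subgroup.eq_of_le_of_card_ge ?_ ?_
    · rintro _ ⟨r, hr, rfl⟩; exact hmR r hr
    · rwa [Subgroup.card_map_of_injective (f := (MulAut.conj m).toMonoidHom)
        (MulAut.conj m).injective]
  exact ⟨m, hm, fun v => by rw [← he]; exact Subgroup.mem_map⟩

theorem card_le_of_sylow {M P R : Subgroup G} (hPM : P ≤ M) (hP : IsPGroup 2 P)
    (hidx : ¬ 2 ∣ P.relIndex M) (hRM : R ≤ M) (hR : IsPGroup 2 R) :
    Nat.card R ≤ Nat.card P := by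
  obtain ⟨m, -, hmR⟩ := exists_conj_into hPM hP hidx hRM hR
  rw [← Subgroup.card_map_of_injective (K := R) (f := (MulAut.conj m).toMonoidHom)
    (MulAut.conj m).injective]
  refine Nat.le_of_dvd Nat.card_pos (Subgroup.card_dvd_of_le ?_)
  rintro _ ⟨r, hr, rfl⟩
  exact hmR r hr

theorem odd_mem_of_index_pow {K : Subgroup G} [K.Normal] {a : ℕ} (hK : K.index = 2 ^ a) {g : G}
    (hg : Odd (orderOf g)) : g ∈ K := by
  have h1 : orderOf (QuotientGroup.mk g : G ⧸ K) ∣ 2 ^ a := by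
    rw [← hK]; exact orderOf_dvd_natCard _
  have h2 : orderOf (QuotientGroup.mk g : G ⧸ K) ∣ orderOf g :=
    orderOf_map_dvd (QuotientGroup.mk' K) g
  have h3 := Nat.dvd_gcd h2 h1
  rw [(Nat.Coprime.pow_right a (Nat.coprime_two_right.mpr hg)).gcd_eq_one, Nat.dvd_one,
    orderOf_eq_one_iff, QuotientGroup.eq_one_iff] at h3
  exact h3

/-- In a normal subgroup of 2-power index, an index-two subgroup absorbs odd commutators. -/
theorem core_pow {K : Subgroup G} [K.Normal] {a : ℕ} (hK : K.index = 2 ^ a) {M : Subgroup G}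
    (hM : M ≤ K) (H : Subgroup K) (hH : H.index = 2) :
    ∀ g : G, Odd (orderOf g) → ∀ v ∈ M, g * v * g⁻¹ * v⁻¹ ∈ H.map K.subtype := by
  intro g hg v hv
  exact ⟨_, comm_mem_of_index_two hH (g := ⟨g, odd_mem_of_index_pow hK hg⟩)
    (by rw [← Subgroup.orderOf_coe]; exact hg) ⟨v, hM hv⟩, rfl⟩

theorem no_index_two_core (S : Sylow 2 G) {K : Subgroup G} [K.Normal] {M : Subgroup G}
    (hSK : (S : Subgroup G) ⊓ K = M)
    (hcore : ∀ H : Subgroup K, H.index = 2 → M ≤ H.map K.subtype) :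
    ∀ H : Subgroup K, H.index ≠ 2 := by
  refine no_index_two_normal S K fun H hH v hv => ?_
  obtain ⟨u, hu, huv⟩ := hcore H hH (hSK ▸ Subgroup.mem_inf.mpr ⟨hv, v.2⟩)
  exact Subtype.ext (huv : (u : G) = (v : G)) ▸ hu

/-- The normaliser of `A` is a 2-group modulo the centraliser when `Aut A` is a 2-group. -/
theorem centralizer_relIndex_two_pow {A : Subgroup G} (h : IsPGroup 2 (MulAut A)) :
    ∃ a : ℕ, (Subgroup.centralizer (A : Set G)).relIndex (Subgroup.normalizer (A : Set G)) = 2 ^ a := by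
  rw [Subgroup.relIndex, ← Subgroup.normalizerMonoidHom_ker, Subgroup.index_ker]
  exact IsPGroup.iff_card.mp (h.to_subgroup _)

end Cfsg.Agent.TwoFusion36
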