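import Cfsg.Agent.TwoFusion36.WreathedAut
import Cfsg.Agent.TwoFusion36.QDFusion

/-!
# Fusion in groups with a wreathed Sylow 2-subgroup: local dichotomies (helper36)
-/

set_option linter.unusedSectionVars false

namespace Cfsg.Agent.TwoFusion36

variable {G : Type*} [Group G] [Finite G]

theorem inf_odd_relIndex {N K P : Subgroup G} (hPN : P ≤ N) (hP : IsPGroup 2 P)
    (hidx : ¬ 2 ∣ P.relIndex N) (hKN : K ≤ N) (hK : ∀ n ∈ N, ∀ k ∈ K, n * k * n⁻¹ ∈ K) :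
    ¬ 2 ∣ (P ⊓ K).relIndex K := by
  let P₀ : Sylow 2 N := (hP.comap_subtype (K := N)).toSylow hidx
  haveI : (K.subgroupOf N).Normal := ⟨fun k hk n => hK n n.2 k hk⟩
  have h := inf_sylow_normal P₀ (K.subgroupOf N)
  rw [Subgroup.inf_relIndex_right] at h ⊢
  rwa [← Subgroup.relIndex_subgroupOf hKN]

theorem relIndex_two_pow {C K : Subgroup G} (hCK : C ≤ K)
    (hnorm : ∀ k ∈ K, ∀ c ∈ C, k * c * k⁻¹ ∈ C) (hpow : ∀ k ∈ K, ∃ t : ℕ, k ^ 2 ^ t ∈ C) :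
    ∃ a : ℕ, C.relIndex K = 2 ^ a := by
  haveI : (C.subgroupOf K).Normal := ⟨fun c hc k => hnorm k k.2 c hc⟩
  have hQ : IsPGroup 2 (K ⧸ C.subgroupOf K) := by
    intro q
    induction q using QuotientGroup.induction_on with
    | _ k =>
      obtain ⟨t, ht⟩ := hpow k k.2
      refine ⟨t, ?_⟩
      rw [← QuotientGroup.mk_pow, QuotientGroup.eq_one_iff, Subgroup.mem_subgroupOf]
      simpa using ht
  obtain ⟨a, ha⟩ := IsPGroup.iff_card.mp hQ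
  exact ⟨a, ha⟩

theorem eq_one_of_dvd_two_pow {m a : ℕ} (h : m ∣ 2 ^ a) (hodd : ¬ 2 ∣ m) : m = 1 := by
  obtain ⟨j, -, rfl⟩ := (Nat.dvd_prime_pow Nat.prime_two).mp h
  rcases j with _ | j
  · rfl
  · exact absurd (dvd_pow_self 2 (Nat.succ_ne_zero j)) hodd

/-- A normal subgroup `K` of `N` with 2-quotient over `C` and Sylow trace inside `C` equals `C`. -/
theorem le_of_pow_mem {N K C P : Subgroup G} (hPN : P ≤ N) (hP : IsPGroup 2 P)
    (hidx : ¬ 2 ∣ P.relIndex N) (hKN : K ≤ N) (hK : ∀ n ∈ N, ∀ k ∈ K, n * k * n⁻¹ ∈ K)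
    (hCK : C ≤ K) (hnorm : ∀ k ∈ K, ∀ c ∈ C, k * c * k⁻¹ ∈ C)
    (hpow : ∀ k ∈ K, ∃ t : ℕ, k ^ 2 ^ t ∈ C) (hPC : P ⊓ K ≤ C) : K ≤ C := by
  obtain ⟨a, ha⟩ := relIndex_two_pow hCK hnorm hpow
  have h1 := inf_odd_relIndex hPN hP hidx hKN hK
  have h2 : C.relIndex K ∣ (P ⊓ K).relIndex K := Subgroup.relIndex_dvd_of_le_left K hPC
  exact Subgroup.relIndex_eq_one.mp
    (eq_one_of_dvd_two_pow ha.dvd fun h => h1 (h.trans h2))

theorem fix_abelian {A : Subgroup G} (hA : ∀ u ∈ A, ∀ v ∈ A, Commute u v) {n : G}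
    (hn : ∀ u ∈ A, n * u * n⁻¹ ∈ A) (hfix : ∀ w ∈ A, w * w = 1 → n * w * n⁻¹ = w) (k : ℕ) :
    ∀ u ∈ A, u ^ 2 ^ (k + 1) = 1 → n ^ 2 ^ k * u * (n ^ 2 ^ k)⁻¹ = u := by
  have hnm : ∀ (m : ℕ), ∀ u ∈ A, n ^ m * u * (n ^ m)⁻¹ ∈ A := by
    intro m
    induction m with
    | zero => intro u hu; simpa using hu
    | succ m ih =>
      intro u hu
      rw [show n ^ (m + 1) * u * (n ^ (m + 1))⁻¹ = n * (n ^ m * u * (n ^ m)⁻¹) * n⁻¹ by
        rw [pow_succ']; group]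
      exact hn _ (ih u hu)
  have hfm : ∀ (m : ℕ), ∀ w ∈ A, w * w = 1 → n ^ m * w * (n ^ m)⁻¹ = w := by
    intro m w hw hw2
    induction m with
    | zero => simp
    | succ m ih =>
      rw [show n ^ (m + 1) * w * (n ^ (m + 1))⁻¹ = n * (n ^ m * w * (n ^ m)⁻¹) * n⁻¹ by
        rw [pow_succ']; group, ih, hfix w hw hw2]
  induction k with
  | zero => intro u hu h; exact hfm _ u hu (by simpa [sq] using h)
  | succ k ih =>
    intro u hu h
    set m := n ^ 2 ^ k with hm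
    have hu2 : m * (u * u) * m⁻¹ = u * u :=
      ih _ (mul_mem hu hu) (by rw [← sq, ← pow_mul, ← pow_succ']; exact h)
    set w := m * u * m⁻¹ * u⁻¹ with hw
    have hwA : w ∈ A := mul_mem (hnm _ u hu) (inv_mem hu)
    have hw2 : w * w = 1 := by
      have hc : Commute u⁻¹ (m * u * m⁻¹) := hA _ (inv_mem hu) _ (hnm _ u hu)
      have h2 : w * w = m * u * m⁻¹ * (u⁻¹ * (m * u * m⁻¹)) * u⁻¹ := by rw [hw]; group
      rw [h2, hc.eq, show m * u * m⁻¹ * (m * u * m⁻¹ * u⁻¹) * u⁻¹ =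
        (m * (u * u) * m⁻¹) * (u * u)⁻¹ by group, hu2, mul_inv_cancel]
    have e : m * u * m⁻¹ = w * u := by rw [hw]; group
    rw [show n ^ 2 ^ (k + 1) = m * m by rw [hm, ← pow_add, pow_succ]; ring_nf]
    calc m * m * u * (m * m)⁻¹ = m * (m * u * m⁻¹) * m⁻¹ := by group
      _ = m * w * m⁻¹ * (m * u * m⁻¹) := by
          conv_lhs => rw [e]
          group
      _ = w * w * u := by rw [hfm _ w hwA hw2, mul_assoc w w u, ← e]
      _ = u := by rw [hw2, one_mul]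

/-- The setting: a wreathed Sylow 2-subgroup with coordinates. -/
structure WrSylow (S : Sylow 2 G) (f : ℕ) (x y z : G) : Prop where
  wr : IsWr (S : Subgroup G) f x y z

namespace WrSylow

variable {S : Sylow 2 G} {f : ℕ} {x y z : G} (W : WrSylow S f x y z)
include W

theorem hdV : ((2 * f : ℕ) : ℤ) ∣ 4 * f := ⟨2, by push_cast; ring⟩

theorem invol_U {v : G} (hv : v ∈ W.wr.abel) (h : v * v = 1) :
    v = 1 ∨ v = x ^ (2 * f : ℤ) * y ^ (2 * f : ℤ) ∨ v = x ^ (2 * f : ℤ) * y ^ (0 : ℤ) ∨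
      v = x ^ (0 : ℤ) * y ^ (2 * f : ℤ) := by
  rcases W.wr.sq_one (W.wr.abel_le hv) h with h | h | h | h | ⟨i, j, h, -⟩
  · exact Or.inl h
  · exact Or.inr (Or.inl h)
  · exact Or.inr (Or.inr (Or.inl h))
  · exact Or.inr (Or.inr (Or.inr h))
  · exact absurd (h ▸ hv) (W.wr.v_notMem_abel i j)

theorem S_le_normalizer_abel : (S : Subgroup G) ≤ Subgroup.normalizer (W.wr.abel : Set G) := by
  intro s hs
  refine Subgroup.mem_normalizer_fintype fun u hu => ?_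
  obtain ⟨i, j, rfl⟩ := hu
  obtain ⟨a, b, rfl | rfl⟩ := W.wr.cases hs
  · exact ⟨_, _, W.wr.u_conj_u a b i j⟩
  · exact ⟨_, _, W.wr.v_conj_u a b i j⟩

theorem centralizer_abel_inf {v : G} (hv : v ∈ (S : Subgroup G))
    (hc : ∀ u ∈ W.wr.abel, Commute v u) : v ∈ W.wr.abel := by
  obtain ⟨i, j, rfl | rfl⟩ := W.wr.cases hv
  · exact ⟨i, j, rfl⟩
  · exact absurd (W.wr.commute_u_v.mp (hc _ ⟨1, 0, rfl⟩).symm) W.wr.not_dvd_one

theorem c_mem_abel : x ^ (2 * f : ℤ) * y ^ (2 * f : ℤ) ∈ W.wr.abel := ⟨_, _, rfl⟩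

theorem u1_ne_c : x ^ (2 * f : ℤ) * y ^ (0 : ℤ) ≠ x ^ (2 * f : ℤ) * y ^ (2 * f : ℤ) := fun h => by
  have := (W.wr.u_congr.mp h).2
  rw [zero_sub, dvd_neg] at this
  exact W.wr.not_dvd_half this

theorem u2_ne_c : x ^ (0 : ℤ) * y ^ (2 * f : ℤ) ≠ x ^ (2 * f : ℤ) * y ^ (2 * f : ℤ) := fun h => by
  have := (W.wr.u_congr.mp h).1
  rw [zero_sub, dvd_neg] at this
  exact W.wr.not_dvd_half this

theorem u2_ne_u1 : x ^ (0 : ℤ) * y ^ (2 * f : ℤ) ≠ x ^ (2 * f : ℤ) * y ^ (0 : ℤ) := fun h => by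
  have := (W.wr.u_congr.mp h).1
  rw [zero_sub, dvd_neg] at this
  exact W.wr.not_dvd_half this

theorem abel_dich :
    ((Subgroup.centralizer (W.wr.abel : Set G)).relIndex (Subgroup.normalizer (W.wr.abel : Set G)) = 2 ∧
      ∀ n ∈ Subgroup.normalizer (W.wr.abel : Set G),
        n * (x ^ (2 * f : ℤ) * y ^ (2 * f : ℤ)) * n⁻¹ = x ^ (2 * f : ℤ) * y ^ (2 * f : ℤ) ∧
        ((∀ u ∈ W.wr.abel, n * u * n⁻¹ = u) ∨ ∀ u ∈ W.wr.abel, n * u * n⁻¹ = z * u * z⁻¹)) ∨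
    ((Subgroup.centralizer (W.wr.abel : Set G)).relIndex (Subgroup.normalizer (W.wr.abel : Set G)) = 6 ∧
      ∃ g ∈ Subgroup.normalizer (W.wr.abel : Set G), Odd (orderOf g) ∧
        g * (x ^ (2 * f : ℤ) * y ^ (2 * f : ℤ)) * g⁻¹ = x ^ (2 * f : ℤ) * y ^ (0 : ℤ) ∧
        g * (x ^ (2 * f : ℤ) * y ^ (0 : ℤ)) * g⁻¹ = x ^ (0 : ℤ) * y ^ (2 * f : ℤ) ∧
        g * (x ^ (0 : ℤ) * y ^ (2 * f : ℤ)) * g⁻¹ = x ^ (2 * f : ℤ) * y ^ (2 * f : ℤ)) := by
  have D := W.wr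
  set c := x ^ (2 * f : ℤ) * y ^ (2 * f : ℤ) with hc
  set u₁ := x ^ (2 * f : ℤ) * y ^ (0 : ℤ) with hu1
  set u₂ := x ^ (0 : ℤ) * y ^ (2 * f : ℤ) with hu2
  set N := Subgroup.normalizer (D.abel : Set G)
  set C := Subgroup.centralizer (D.abel : Set G)
  have hbot : ∀ u w : G, u⁻¹ * w ∈ (⊥ : Subgroup G) ↔ u = w := fun u w => by
    rw [Subgroup.mem_bot, inv_mul_eq_one]
  have hv : ∀ k, (![c, u₁, u₂] : Fin 3 → G) k ∈ D.abel ∧
      orderOf ((![c, u₁, u₂] : Fin 3 → G) k) = 2 := by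
    intro k
    fin_cases k
    · exact ⟨⟨_, _, rfl⟩, D.orderOf_c⟩
    · exact ⟨⟨_, _, rfl⟩, D.orderOf_u1⟩
    · exact ⟨⟨_, _, rfl⟩, D.orderOf_u2⟩
  have hkerC : ∀ n ∈ N, (∀ k, n * (![c, u₁, u₂] : Fin 3 → G) k * n⁻¹ = (![c, u₁, u₂] : Fin 3 → G) k) →
      n ∈ C := by
    -- the kernel of the action on the three involutions centralises `U`
    let K : Subgroup G :=
      { carrier := {n | n ∈ N ∧ ∀ k,
          n * (![c, u₁, u₂] : Fin 3 → G) k * n⁻¹ = (![c, u₁, u₂] : Fin 3 → G) k}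
        one_mem' := ⟨N.one_mem, fun k => by simp⟩
        mul_mem' := fun {a b} ha hb => ⟨mul_mem ha.1 hb.1, fun k => by
          rw [show ∀ v : G, a * b * v * (a * b)⁻¹ = a * (b * v * b⁻¹) * a⁻¹ from
            fun v => by group, hb.2 k, ha.2 k]⟩
        inv_mem' := fun {a} ha => ⟨inv_mem ha.1, fun k => by
          conv_lhs => rw [← ha.2 k]
          group⟩ }
    suffices hKC : K ≤ C from fun n hn h => hKC ⟨hn, h⟩
    obtain ⟨k₀, hk₀⟩ := D.hpow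
    refine le_of_pow_mem W.S_le_normalizer_abel S.isPGroup'
      (fun h => S.not_dvd_index (h.trans (Subgroup.relIndex_dvd_index_of_le W.S_le_normalizer_abel)))
      (fun n hn => hn.1) ?_ ?_ ?_ ?_ ?_
    · intro n hn k hk
      refine ⟨mul_mem (mul_mem hn hk.1) (inv_mem hn), fun i => ?_⟩
      obtain ⟨hm, ho⟩ := hv i
      have hmem : n⁻¹ * (![c, u₁, u₂] : Fin 3 → G) i * n ∈ D.abel := by
        have := (Subgroup.mem_normalizer_iff.mp (inv_mem hn) _).mp hm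
        rwa [inv_inv] at this
      have hfix : k * (n⁻¹ * (![c, u₁, u₂] : Fin 3 → G) i * n) * k⁻¹ =
          n⁻¹ * (![c, u₁, u₂] : Fin 3 → G) i * n := by
        have hsq : n⁻¹ * (![c, u₁, u₂] : Fin 3 → G) i * n *
            (n⁻¹ * (![c, u₁, u₂] : Fin 3 → G) i * n) = 1 := by
          have h2 := pow_orderOf_eq_one ((![c, u₁, u₂] : Fin 3 → G) i)
          rw [ho, sq] at h2
          calc n⁻¹ * (![c, u₁, u₂] : Fin 3 → G) i * n * (n⁻¹ * (![c, u₁, u₂] : Fin 3 → G) i * n)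
              = n⁻¹ * ((![c, u₁, u₂] : Fin 3 → G) i * (![c, u₁, u₂] : Fin 3 → G) i) * n := by group
            _ = 1 := by rw [h2]; group
        rcases W.invol_U hmem hsq with h | h | h | h <;> rw [h]
        · group
        · exact hk.2 0
        · exact hk.2 1
        · exact hk.2 2
      calc n * k * n⁻¹ * (![c, u₁, u₂] : Fin 3 → G) i * (n * k * n⁻¹)⁻¹
          = n * (k * (n⁻¹ * (![c, u₁, u₂] : Fin 3 → G) i * n) * k⁻¹) * n⁻¹ := by group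
        _ = _ := by rw [hfix]; group
    · intro n hn
      refine ⟨Subgroup.mem_normalizer_fintype fun u hu => ?_, fun k => ?_⟩
      · rw [← Subgroup.mem_centralizer_iff.mp hn u hu, mul_inv_cancel_right]; exact hu
      · rw [← Subgroup.mem_centralizer_iff.mp hn _ (hv k).1, mul_inv_cancel_right]
    · intro k hk w hw
      rw [Subgroup.mem_centralizer_iff] at hw ⊢
      intro u hu
      have hu' : k⁻¹ * u * k ∈ D.abel := by
        have := (Subgroup.mem_normalizer_iff.mp (inv_mem hk.1) _).mp hu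
        rwa [inv_inv] at this
      calc u * (k * w * k⁻¹) = k * ((k⁻¹ * u * k) * w) * k⁻¹ := by group
        _ = k * w * k⁻¹ * u := by rw [hw _ hu']; group
    · intro n hn
      refine ⟨k₀ + 1, ?_⟩
      rw [Subgroup.mem_centralizer_iff]
      intro u hu
      have hu4 : u ^ 2 ^ (k₀ + 1 + 1) = 1 := by
        obtain ⟨i, j, rfl⟩ := hu
        rw [show 2 ^ (k₀ + 1 + 1) = 4 * f by rw [hk₀]; ring, ← zpow_natCast,
          (D.comm.zpow_zpow i j).mul_zpow, ← zpow_mul, ← zpow_mul, D.u_eq_one]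
        exact ⟨⟨i, by push_cast; ring⟩, ⟨j, by push_cast; ring⟩⟩
      have := fix_abelian (A := D.abel) (fun _ ha _ hb => D.abel_comm ha hb)
        (fun u hu => (Subgroup.mem_normalizer_iff.mp hn.1 u).mp hu) (fun w hw hw2 => ?_) (k₀ + 1) u hu hu4
      · exact (mul_inv_eq_iff_eq_mul.mp this).symm
      · rcases W.invol_U hw hw2 with rfl | rfl | rfl | rfl
        · simp
        · exact hn.2 0
        · exact hn.2 1
        · exact hn.2 2
    · rintro v ⟨hvS, hvK⟩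
      rw [Subgroup.mem_centralizer_iff]
      obtain ⟨i, j, rfl | rfl⟩ := D.cases hvS
      · exact fun u hu => (D.abel_comm hu ⟨i, j, rfl⟩).eq
      · exfalso
        have h1 : x ^ i * y ^ j * z * u₁ * (x ^ i * y ^ j * z)⁻¹ = u₁ := hvK.2 1
        rw [hu1, D.v_conj_u] at h1
        exact W.u2_ne_u1 h1
  have hz : z ∈ N := W.S_le_normalizer_abel D.hz
  have h := three_dichotomy (N := N) (C := C) ⊥ ![c, u₁, u₂] ?_ ?_ ?_
    (fun n hn h => hkerC n hn fun k => ((hbot _ _).mp (h k)).symm) ?_ z hz ?_ ?_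
  · rcases h with ⟨h2, hfix⟩ | ⟨h6, g, hg, hodd, hg3⟩
    · refine Or.inl ⟨h2, fun n hn => ?_⟩
      have hnc : n * c * n⁻¹ = c := ((hbot _ _).mp (hfix n hn)).symm
      refine ⟨hnc, ?_⟩
      have hmem := (Subgroup.mem_normalizer_iff.mp hn _).mp (hv 1).1
      have hsq : n * u₁ * n⁻¹ * (n * u₁ * n⁻¹) = 1 := by
        have h2 := pow_orderOf_eq_one u₁
        rw [show orderOf u₁ = 2 from D.orderOf_u1, sq] at h2
        calc n * u₁ * n⁻¹ * (n * u₁ * n⁻¹) = n * (u₁ * u₁) * n⁻¹ := by group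
          _ = 1 := by rw [h2]; group
      have hcu : u₂ = c * u₁ := by
        rw [hc, hu1, hu2, D.u_mul]; exact D.u_eq_of (-1) 0 (by ring) (by ring)
      have hfix1 : ∀ m ∈ N, m * c * m⁻¹ = c → m * u₁ * m⁻¹ = u₁ →
          ∀ u ∈ D.abel, m * u * m⁻¹ = u := by
        intro m hm h0 h1 u hu
        have h2 : m * u₂ * m⁻¹ = u₂ := by
          rw [hcu, show m * (c * u₁) * m⁻¹ = (m * c * m⁻¹) * (m * u₁ * m⁻¹) by group, h0, h1]
        have := hkerC m hm fun k => by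
          fin_cases k
          exacts [h0, h1, h2]
        rw [← Subgroup.mem_centralizer_iff.mp this u hu, mul_inv_cancel_right]
      rcases W.invol_U hmem hsq with h | h | h | h
      · exfalso
        have h' : n * u₁ * n⁻¹ = 1 := h
        rw [conj_eq_one_iff] at h'
        have := (hv 1).2
        simp [h'] at this
      · exact absurd (mul_left_cancel (mul_right_cancel
          ((show n * u₁ * n⁻¹ = c from h).trans hnc.symm))) W.u1_ne_c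
      · exact Or.inl (hfix1 n hn hnc h)
      · right
        intro u hu
        have hzc : z * c * z⁻¹ = c := by rw [hc, D.z_mul, mul_inv_cancel_right]
        have hzu : z * u₂ * z⁻¹ = u₁ := D.u2_conj
        have key := hfix1 (z * n) (mul_mem hz hn) (by
          rw [show z * n * c * (z * n)⁻¹ = z * (n * c * n⁻¹) * z⁻¹ by group, hnc, hzc]) (by
          rw [show z * n * u₁ * (z * n)⁻¹ = z * (n * u₁ * n⁻¹) * z⁻¹ by group,
            show n * u₁ * n⁻¹ = u₂ from h, hzu]) u hu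
        have hzz : z * z = 1 := D.zz
        calc n * u * n⁻¹ = (z * z) * (n * u * n⁻¹) * (z * z)⁻¹ := by rw [hzz]; group
          _ = z * (z * n * u * (z * n)⁻¹) * z⁻¹ := by group
          _ = z * u * z⁻¹ := by rw [key]
    · exact Or.inr ⟨h6, g, hg, hodd, ((hbot _ _).mp (hg3 0)).symm,
        ((hbot _ _).mp (hg3 1)).symm, ((hbot _ _).mp (hg3 2)).symm⟩
  · intro k l h
    rw [hbot] at h
    fin_cases k <;> fin_cases l
    · rfl
    · exact absurd h.symm W.u1_ne_c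
    · exact absurd h.symm W.u2_ne_c
    · exact absurd h W.u1_ne_c
    · rfl
    · exact absurd h.symm W.u2_ne_u1
    · exact absurd h W.u2_ne_c
    · exact absurd h W.u2_ne_u1
    · rfl
  · intro n _ w hw
    rw [Subgroup.mem_bot] at hw ⊢
    rw [hw]; group
  · intro n hn k
    have hmem := (Subgroup.mem_normalizer_iff.mp hn _).mp (hv k).1
    have hsq : n * (![c, u₁, u₂] : Fin 3 → G) k * n⁻¹ * (n * (![c, u₁, u₂] : Fin 3 → G) k * n⁻¹) = 1 := by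
      have h2 := pow_orderOf_eq_one ((![c, u₁, u₂] : Fin 3 → G) k)
      rw [(hv k).2, sq] at h2
      calc n * (![c, u₁, u₂] : Fin 3 → G) k * n⁻¹ * (n * (![c, u₁, u₂] : Fin 3 → G) k * n⁻¹)
          = n * ((![c, u₁, u₂] : Fin 3 → G) k * (![c, u₁, u₂] : Fin 3 → G) k) * n⁻¹ := by group
        _ = 1 := by rw [h2]; group
    rcases W.invol_U hmem hsq with h | h | h | h
    · exfalso
      rw [conj_eq_one_iff] at h
      have := (hv k).2
      rw [h] at this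
      simp at this
    · exact ⟨0, (hbot _ _).mpr h.symm⟩
    · exact ⟨1, (hbot _ _).mpr h.symm⟩
    · exact ⟨2, (hbot _ _).mpr h.symm⟩
  · intro n hn _ k
    rw [hbot, ← Subgroup.mem_centralizer_iff.mp hn _ (hv k).1, mul_inv_cancel_right]
  · rw [hbot]
    show c = z * c * z⁻¹
    rw [hc, D.z_mul, mul_inv_cancel_right]
  · rw [hbot]
    show u₂ = z * u₁ * z⁻¹
    rw [hu1, D.z_mul, mul_inv_cancel_right]

theorem v_mem_V {i j : ℤ} : x ^ i * y ^ j * z ∈ W.wr.dsub (2 * f : ℕ) 0 ↔ (2 * f : ℤ) ∣ i - j := by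
  rw [W.wr.v_mem_dsub W.hdV, sub_zero]; push_cast; rfl

theorem u_mem_V {i j : ℤ} : x ^ i * y ^ j ∈ W.wr.dsub (2 * f : ℕ) 0 ↔ (2 * f : ℤ) ∣ i - j := by
  rw [W.wr.u_mem_dsub W.hdV]; push_cast; rfl

theorem V0_cases {v : G} (hv : v ∈ W.wr.dsub (2 * f : ℕ) 0) :
    v ∈ Subgroup.zpowers (x * y) ∨
    (x ^ (2 * f : ℤ) * y ^ (0 : ℤ))⁻¹ * v ∈ Subgroup.zpowers (x * y) ∨
    (x ^ (0 : ℤ) * y ^ (0 : ℤ) * z)⁻¹ * v ∈ Subgroup.zpowers (x * y) ∨
    (x ^ (2 * f : ℤ) * y ^ (0 : ℤ) * z)⁻¹ * v ∈ Subgroup.zpowers (x * y) := by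
  have D := W.wr
  obtain ⟨i, j, ⟨rfl, t, ht⟩ | ⟨rfl, t, ht⟩⟩ := hv <;> rcases Int.even_or_odd' t with ⟨l, rfl | rfl⟩
  · exact Or.inl (D.mem_diag.mpr ⟨i, D.diag_of_dvd ⟨l, by push_cast at ht; linarith⟩⟩)
  · refine Or.inr (Or.inl (D.mem_diag.mpr ⟨i - 2 * f, ?_⟩))
    rw [D.u_inv, D.u_mul]
    exact D.u_eq_of 0 (-l) (by ring) (by push_cast at ht; linarith)
  · refine Or.inr (Or.inr (Or.inl (D.mem_diag.mpr ⟨j, ?_⟩)))
    rw [D.v_inv, D.v_mul_v]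
    exact D.u_eq_of 0 l (by ring) (by push_cast at ht; linarith)
  · refine Or.inr (Or.inr (Or.inr (D.mem_diag.mpr ⟨j, ?_⟩)))
    rw [D.v_inv, D.v_mul_v]
    exact D.u_eq_of 0 l (by ring) (by push_cast at ht; linarith)

theorem V_norm {v : G} (hv : v ∈ (S : Subgroup G)) :
    v ∈ Subgroup.normalizer (W.wr.dsub (2 * f : ℕ) 0 : Set G) ↔ v ∈ W.wr.dsub (f : ℤ) 0 := by
  have D := W.wr
  constructor
  · intro h
    refine D.norm_dsub_v (dvd_zero 2) hv _ rfl ((Subgroup.mem_normalizer_iff.mp h _).mp ?_)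
    exact W.v_mem_V.mpr (by simp)
  · rintro ⟨p, q, ⟨rfl, t, ht⟩ | ⟨rfl, t, ht⟩⟩ <;> refine Subgroup.mem_normalizer_fintype ?_ <;>
      rintro _ ⟨i, j, ⟨rfl, r, hr⟩ | ⟨rfl, r, hr⟩⟩ <;> push_cast at hr
    · rw [D.u_conj_u]; exact W.u_mem_V.mpr ⟨r, hr⟩
    · rw [D.u_conj_v]; exact W.v_mem_V.mpr ⟨r + t, by linarith⟩
    · rw [D.v_conj_u]; exact W.u_mem_V.mpr ⟨-r, by linarith⟩
    · rw [D.v_conj_v]; exact W.v_mem_V.mpr ⟨t - r, by linarith⟩

theorem exists_Q0 : ∃ Q : Subgroup G, Q ≤ S ∧ Nonempty (Q ≃* QuaternionGroup 2) ∧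
    Q ⊔ Subgroup.zpowers (x * y) = W.wr.dsub (2 * f : ℕ) 0 := by
  have D := W.wr
  have hgsq : x ^ (f : ℤ) * y ^ (-(f : ℤ)) * (x ^ (f : ℤ) * y ^ (-(f : ℤ)))
      = x ^ (2 * f : ℤ) * y ^ (2 * f : ℤ) := by
    rw [D.u_mul]; exact D.u_eq_of 0 (-1) (by ring) (by ring)
  have hord : orderOf (x ^ (f : ℤ) * y ^ (-(f : ℤ))) = 2 * 2 := by
    refine orderOf_eq_prime_pow (p := 2) (n := 1) ?_ ?_
    · rw [pow_one, sq, hgsq]
      intro h1
      exact D.not_dvd_half (D.u_eq_one.mp h1).1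
    · rw [show (2 : ℕ) ^ (1 + 1) = 2 * 2 from rfl, pow_mul, sq, sq, hgsq]
      rw [← sq, ← D.orderOf_c, pow_orderOf_eq_one]
  have hab : x ^ (2 * f : ℤ) * y ^ (0 : ℤ) * z * (x ^ (f : ℤ) * y ^ (-(f : ℤ))) *
      (x ^ (2 * f : ℤ) * y ^ (0 : ℤ) * z)⁻¹ = (x ^ (f : ℤ) * y ^ (-(f : ℤ)))⁻¹ := by
    rw [D.v_conj_u, D.u_inv]; ring_nf
  have hbb : x ^ (2 * f : ℤ) * y ^ (0 : ℤ) * z * (x ^ (2 * f : ℤ) * y ^ (0 : ℤ) * z) =
      (x ^ (f : ℤ) * y ^ (-(f : ℤ))) ^ 2 := by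
    rw [sq, hgsq, D.v_sq]; exact D.u_eq_of 0 0 (by ring) (by ring)
  let Q : Subgroup G := sub2 _ _ hab ⟨((2 : ℕ) : ℤ), hbb.trans (zpow_natCast _ 2).symm⟩
  obtain ⟨eQ⟩ := nonempty_equiv_quaternion _ _ hord hbb hab
    (fun m hm => D.v_notMem_abel _ _ (hm ▸ zpow_mem (D.mem_abel.mpr ⟨_, _, rfl⟩) m)) Q
    (fun v => mem_sub2)
  have hg : x ^ (f : ℤ) * y ^ (-(f : ℤ)) ∈ D.dsub (2 * f : ℕ) 0 :=
    W.u_mem_V.mpr ⟨1, by ring⟩
  have hb : x ^ (2 * f : ℤ) * y ^ (0 : ℤ) * z ∈ D.dsub (2 * f : ℕ) 0 :=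
    W.v_mem_V.mpr ⟨1, by ring⟩
  have hQV : Q ≤ D.dsub (2 * f : ℕ) 0 := by
    intro v hv
    obtain ⟨m, rfl | rfl⟩ := mem_sub2.mp hv
    · exact zpow_mem hg m
    · exact mul_mem hb (zpow_mem hg m)
  refine ⟨Q, hQV.trans (D.dsub_le _ _), ⟨eQ⟩, ?_⟩
  obtain ⟨a', -, ha'⟩ := D.quat_sup (hQV.trans (D.dsub_le _ _)) eQ
  refine Subgroup.eq_of_le_of_card_ge (sup_le hQV ?_) ?_
  · intro v hv
    obtain ⟨t, rfl⟩ := D.mem_diag.mp hv
    exact W.u_mem_V.mpr (by simp)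
  · rw [ha']
    have hne : 2 * f ≠ 0 := by have := D.one_le; omega
    have h1 := D.card_dsub (d := 2 * f) (a := a') hne W.hdV
    have h2 := D.card_dsub (d := 2 * f) (a := 0) hne W.hdV
    exact (Nat.eq_of_mul_eq_mul_left (Nat.pos_of_ne_zero hne) (h2.trans h1.symm)).le

theorem dsub_map {a : ℤ} (ha : 2 ∣ a) : ∃ s ∈ (S : Subgroup G),
    (W.wr.dsub (2 * f : ℕ) a).map (MulAut.conj s).toMonoidHom = W.wr.dsub (2 * f : ℕ) 0 := by
  have D := W.wr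
  obtain ⟨h, rfl⟩ := ha
  refine ⟨x ^ (-h) * y ^ (0 : ℤ), D.u_mem _ _, le_antisymm ?_ ?_⟩
  · rintro _ ⟨v, ⟨i, j, ⟨rfl, hij⟩ | ⟨rfl, hij⟩⟩, rfl⟩
    · show x ^ (-h) * y ^ (0 : ℤ) * (x ^ i * y ^ j) * (x ^ (-h) * y ^ (0 : ℤ))⁻¹ ∈ _
      rw [D.u_conj_u, D.u_mem_dsub W.hdV]; exact hij
    · show x ^ (-h) * y ^ (0 : ℤ) * (x ^ i * y ^ j * z) * (x ^ (-h) * y ^ (0 : ℤ))⁻¹ ∈ _
      rw [D.u_conj_v, D.v_mem_dsub W.hdV]
      rwa [show -h + i - 0 - (0 + j - -h) - 0 = i - j - 2 * h by ring]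
  · rintro _ ⟨i, j, ⟨rfl, hij⟩ | ⟨rfl, hij⟩⟩
    · exact ⟨_, (D.u_mem_dsub W.hdV).mpr hij, D.u_conj_u _ _ _ _⟩
    · refine ⟨x ^ (i + h) * y ^ (j - h) * z, (D.v_mem_dsub W.hdV).mpr ?_, ?_⟩
      · rwa [show i + h - (j - h) - 2 * h = i - j - 0 by ring]
      · show x ^ (-h) * y ^ (0 : ℤ) * (x ^ (i + h) * y ^ (j - h) * z) * (x ^ (-h) * y ^ (0 : ℤ))⁻¹ = _
        rw [D.u_conj_v]; ring_nf

theorem V_nc : ¬ IsMulCommutative (W.wr.dsub (2 * f : ℕ) 0) :=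
  W.wr.dsub_nc (d := 2 * f) W.hdV (by push_cast; exact W.wr.not_dvd_half)

theorem diag_le_V : Subgroup.zpowers (x * y) ≤ W.wr.dsub (2 * f : ℕ) 0 := by
  intro v hv
  obtain ⟨t, rfl⟩ := W.wr.mem_diag.mp hv
  exact W.u_mem_V.mpr (by simp)

/-- A conjugate of `V` inside `S` is conjugate to `V` in `S`. -/
theorem V_into {g : G} (hg : ∀ v ∈ W.wr.dsub (2 * f : ℕ) 0, g * v * g⁻¹ ∈ (S : Subgroup G)) :
    ∃ s ∈ (S : Subgroup G), s * g ∈ Subgroup.normalizer (W.wr.dsub (2 * f : ℕ) 0 : Set G) := by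
  have D := W.wr
  obtain ⟨Q, -, ⟨eQ⟩, hQ⟩ := W.exists_Q0
  set V := D.dsub (2 * f : ℕ) 0 with hV
  set V' := V.map (MulAut.conj g).toMonoidHom with hV'
  have hV'S : V' ≤ S := by rintro _ ⟨v, hv, rfl⟩; exact hg v hv
  have hV'nc : ¬ IsMulCommutative V' := fun h => W.V_nc ⟨⟨fun a b => Subtype.ext (by
    have h1 : g * (a : G) * g⁻¹ * (g * (b : G) * g⁻¹) = g * (b : G) * g⁻¹ * (g * (a : G) * g⁻¹) :=
      congrArg Subtype.val (h.is_comm.comm (⟨_, a, a.2, rfl⟩ : V') ⟨_, b, b.2, rfl⟩)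
    have h2 : g * ((a : G) * b) * g⁻¹ = g * ((b : G) * a) * g⁻¹ := by
      calc g * ((a : G) * b) * g⁻¹ = g * (a : G) * g⁻¹ * (g * (b : G) * g⁻¹) := by group
        _ = g * (b : G) * g⁻¹ * (g * (a : G) * g⁻¹) := h1
        _ = g * ((b : G) * a) * g⁻¹ := by group
    exact mul_left_cancel (mul_right_cancel h2))⟩⟩
  have hZ : (Subgroup.zpowers (x * y)).map (MulAut.conj g).toMonoidHom = Subgroup.zpowers (x * y) := by
    refine Subgroup.eq_of_le_of_card_ge ?_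
      (by rw [Subgroup.card_map_of_injective (MulAut.conj g).injective])
    rintro _ ⟨w, hw, rfl⟩
    refine D.center_le_diag hV'S hV'nc
      ⟨⟨g * w * g⁻¹, w, W.diag_le_V hw, rfl⟩, ?_, rfl⟩
    rw [SetLike.mem_coe, Subgroup.mem_center_iff]
    rintro ⟨_, v, hv, rfl⟩
    refine Subtype.ext ?_
    obtain ⟨t, rfl⟩ := D.mem_diag.mp hw
    show g * v * g⁻¹ * (g * (x ^ t * y ^ t) * g⁻¹) = g * (x ^ t * y ^ t) * g⁻¹ * (g * v * g⁻¹)
    calc g * v * g⁻¹ * (g * (x ^ t * y ^ t) * g⁻¹) = g * (v * (x ^ t * y ^ t)) * g⁻¹ := by group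
      _ = g * ((x ^ t * y ^ t) * v) * g⁻¹ := by rw [(D.diag_comm t (D.dsub_le _ _ hv)).eq]
      _ = _ := by group
  have hQV : Q ≤ V := hQ ▸ le_sup_left
  have hQS : Q.map (MulAut.conj g).toMonoidHom ≤ S :=
    le_trans (Subgroup.map_mono hQV) hV'S
  obtain ⟨a, ha, hQa⟩ := D.quat_sup hQS
    ((Subgroup.equivMapOfInjective Q _ (MulAut.conj g).injective).symm.trans eQ)
  have hVa : V' = D.dsub (2 * f : ℕ) a := by
    rw [← hQa, ← hZ, ← Subgroup.map_sup, hQ, hV', hV]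
  obtain ⟨s, hs, hsa⟩ := W.dsub_map ha
  refine ⟨s, hs, Subgroup.mem_normalizer_fintype fun v hv => ?_⟩
  have hmap : V.map (MulAut.conj (s * g)).toMonoidHom = V := by
    rw [map_conj_mul, ← hV', hVa, hsa]
  exact hmap ▸ ⟨v, hv, rfl⟩

theorem NV_sylow : ¬ 2 ∣ (W.wr.dsub (f : ℤ) 0).relIndex
    (Subgroup.normalizer (W.wr.dsub (2 * f : ℕ) 0 : Set G)) := by
  have D := W.wr
  set V := D.dsub (2 * f : ℕ) 0 with hV
  set P := D.dsub (f : ℤ) 0 with hP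
  set N := Subgroup.normalizer (V : Set G)
  have hPN : P ≤ N := fun v hv => (W.V_norm (D.dsub_le _ _ hv)).mpr hv
  obtain ⟨R, hR⟩ := ((S.isPGroup'.to_le (D.dsub_le (f : ℤ) 0)).comap_subtype
    (K := N)).exists_le_sylow
  have hRp : IsPGroup 2 ((R : Subgroup N).map N.subtype) := R.isPGroup'.map _
  obtain ⟨g, -, hg⟩ := exists_conj_into_sylow S (M := ⊤) le_top le_top hRp
  have hVR : V ≤ (R : Subgroup N).map N.subtype := by
    intro v hv
    have hvP : v ∈ P := by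
      obtain ⟨i, j, ⟨rfl, t, ht⟩ | ⟨rfl, t, ht⟩⟩ := hv <;> push_cast at ht
      · exact (D.u_mem_dsub ⟨4, by ring⟩).mpr ⟨2 * t, by linarith⟩
      · exact (D.v_mem_dsub ⟨4, by ring⟩).mpr ⟨2 * t, by linarith⟩
    exact ⟨⟨v, hPN hvP⟩, hR hvP, rfl⟩
  obtain ⟨s, hs, hsg⟩ := W.V_into fun v hv => hg v (hVR hv)
  have hcard : Nat.card ((R : Subgroup N).map N.subtype) ≤ Nat.card P := by
    rw [← Subgroup.card_map_of_injective (f := (MulAut.conj (s * g)).toMonoidHom)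
      (MulAut.conj (s * g)).injective]
    refine Nat.le_of_dvd Nat.card_pos (Subgroup.card_dvd_of_le ?_)
    rintro _ ⟨v, hv, rfl⟩
    have hvN : v ∈ N := by obtain ⟨w, -, rfl⟩ := hv; exact w.2
    refine (W.V_norm ?_).mp (mul_mem (mul_mem hsg hvN) (inv_mem hsg))
    show s * g * v * (s * g)⁻¹ ∈ (S : Subgroup G)
    rw [show s * g * v * (s * g)⁻¹ = s * (g * v * g⁻¹) * s⁻¹ by group]
    exact mul_mem (mul_mem hs (hg v hv)) (inv_mem hs)
  intro hdvd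
  have hle : P.subgroupOf N = (R : Subgroup N) := by
    refine Subgroup.eq_of_le_of_card_ge hR ?_
    rw [Subgroup.card_map_of_injective N.subtype_injective] at hcard
    rwa [Nat.card_congr (Subgroup.subgroupOfEquivOfLe hPN).toEquiv]
  refine R.not_dvd_index ?_
  rwa [Subgroup.relIndex, hle] at hdvd

theorem V_commutator {a b : G} (ha : a ∈ W.wr.dsub (2 * f : ℕ) 0) (hb : b ∈ W.wr.dsub (2 * f : ℕ) 0) :
    b⁻¹ * (a * b * a⁻¹) ∈ Subgroup.zpowers (x * y) := by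
  have D := W.wr
  rw [D.mem_diag]
  obtain ⟨p, q, ⟨rfl, t, ht⟩ | ⟨rfl, t, ht⟩⟩ := ha <;>
    obtain ⟨i, j, ⟨rfl, r, hr⟩ | ⟨rfl, r, hr⟩⟩ := hb <;> push_cast at ht hr
  · exact ⟨0, by rw [D.u_conj_u]; simp⟩
  · refine ⟨q - p, ?_⟩
    rw [D.u_conj_v, D.v_inv, D.v_mul_v]
    exact D.u_eq_of 0 t (by ring) (by linarith)
  · refine ⟨j - i, ?_⟩
    rw [D.v_conj_u, D.u_inv, D.u_mul]
    exact D.u_eq_of 0 r (by ring) (by linarith)
  · refine ⟨q + i - p - j, ?_⟩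
    rw [D.v_conj_v, D.v_inv, D.v_mul_v]
    exact D.u_eq_of 0 (t - r) (by ring) (by linarith)

theorem V_gens {v : G} (hv : v ∈ W.wr.dsub (2 * f : ℕ) 0) :
    ∃ t : ℤ, ∃ w ∈ Subgroup.zpowers (x * y), v = (x ^ (2 * f : ℤ) * y ^ (0 : ℤ)) ^ t * w ∨
      v = (x ^ (2 * f : ℤ) * y ^ (0 : ℤ)) ^ t * z * w := by
  have D := W.wr
  obtain ⟨i, j, ⟨rfl, t, ht⟩ | ⟨rfl, t, ht⟩⟩ := hv <;> push_cast at ht <;>
    refine ⟨t, x ^ j * y ^ j, D.mem_diag.mpr ⟨j, rfl⟩, ?_⟩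
  · left
    rw [(D.comm.zpow_zpow _ _).mul_zpow, ← zpow_mul, ← zpow_mul, D.u_mul]
    exact D.u_eq_of 0 0 (by linarith) (by ring)
  · right
    rw [(D.comm.zpow_zpow _ _).mul_zpow, ← zpow_mul, ← zpow_mul, mul_assoc _ z, D.z_mul,
      ← mul_assoc, D.u_mul, D.v_congr]
    exact ⟨⟨0, by linarith⟩, ⟨0, by ring⟩⟩

theorem V_dich :
    ((W.wr.dsub (2 * f : ℕ) 0 ⊔ Subgroup.centralizer (W.wr.dsub (2 * f : ℕ) 0 : Set G)).relIndex
        (Subgroup.normalizer (W.wr.dsub (2 * f : ℕ) 0 : Set G)) = 2 ∧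
      ∀ n ∈ Subgroup.normalizer (W.wr.dsub (2 * f : ℕ) 0 : Set G),
        (x ^ (2 * f : ℤ) * y ^ (0 : ℤ))⁻¹ * (n * (x ^ (2 * f : ℤ) * y ^ (0 : ℤ)) * n⁻¹) ∈
          Subgroup.zpowers (x * y)) ∨
    ((W.wr.dsub (2 * f : ℕ) 0 ⊔ Subgroup.centralizer (W.wr.dsub (2 * f : ℕ) 0 : Set G)).relIndex
        (Subgroup.normalizer (W.wr.dsub (2 * f : ℕ) 0 : Set G)) = 6 ∧
      ∃ g ∈ Subgroup.normalizer (W.wr.dsub (2 * f : ℕ) 0 : Set G), Odd (orderOf g) ∧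
        (x ^ (0 : ℤ) * y ^ (0 : ℤ) * z)⁻¹ * (g * (x ^ (2 * f : ℤ) * y ^ (0 : ℤ)) * g⁻¹) ∈
          Subgroup.zpowers (x * y) ∧
        (x ^ (2 * f : ℤ) * y ^ (0 : ℤ) * z)⁻¹ * (g * (x ^ (0 : ℤ) * y ^ (0 : ℤ) * z) * g⁻¹) ∈
          Subgroup.zpowers (x * y) ∧
        (x ^ (2 * f : ℤ) * y ^ (0 : ℤ))⁻¹ * (g * (x ^ (2 * f : ℤ) * y ^ (0 : ℤ) * z) * g⁻¹) ∈
          Subgroup.zpowers (x * y)) := by
  have D := W.wr
  set V := D.dsub (2 * f : ℕ) 0 with hV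
  set N := Subgroup.normalizer (V : Set G) with hN
  set Z := Subgroup.zpowers (x * y) with hZdef
  set v : Fin 3 → G := ![x ^ (2 * f : ℤ) * y ^ (0 : ℤ), x ^ (0 : ℤ) * y ^ (0 : ℤ) * z,
    x ^ (2 * f : ℤ) * y ^ (0 : ℤ) * z] with hvdef
  have hv : ∀ k, v k ∈ V := by
    intro k; fin_cases k
    · exact W.u_mem_V.mpr ⟨1, by ring⟩
    · exact W.v_mem_V.mpr (by simp)
    · exact W.v_mem_V.mpr ⟨1, by ring⟩
  have hnb : ∀ i j : ℤ, x ^ i * y ^ j * z ∉ Z := fun i j h => by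
    obtain ⟨t, ht⟩ := D.mem_diag.mp h
    exact D.u_ne_v _ _ _ _ ht.symm
  have hu1Z : x ^ (2 * f : ℤ) * y ^ (0 : ℤ) ∉ Z := fun h => by
    obtain ⟨t, ht⟩ := D.mem_diag.mp h
    obtain ⟨h1, h2⟩ := D.u_congr.mp ht
    have := dvd_sub h1 h2
    rw [show (2 * f : ℤ) - t - (0 - t) = 2 * f by ring] at this
    exact D.not_dvd_half this
  have hvZ : ∀ k, v k ∉ Z := by
    intro k; fin_cases k
    exacts [hu1Z, hnb (0 : ℤ) 0, hnb (2 * f : ℤ) 0]
  have hZc : ∀ n ∈ N, ∀ w ∈ Z, n * w * n⁻¹ ∈ Z := by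
    intro n hn w hw
    refine D.center_le_diag (D.dsub_le _ _) W.V_nc
      ⟨⟨n * w * n⁻¹, (Subgroup.mem_normalizer_iff.mp hn _).mp (W.diag_le_V hw)⟩, ?_, rfl⟩
    rw [SetLike.mem_coe, Subgroup.mem_center_iff]
    rintro ⟨b, hb⟩
    apply Subtype.ext
    show b * (n * w * n⁻¹) = n * w * n⁻¹ * b
    have hb' : n⁻¹ * b * n ∈ V := by
      have := (Subgroup.mem_normalizer_iff.mp (inv_mem hn) _).mp hb
      rwa [inv_inv] at this
    obtain ⟨t, rfl⟩ := D.mem_diag.mp hw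
    calc b * (n * (x ^ t * y ^ t) * n⁻¹) = n * ((n⁻¹ * b * n) * (x ^ t * y ^ t)) * n⁻¹ := by group
      _ = n * ((x ^ t * y ^ t) * (n⁻¹ * b * n)) * n⁻¹ := by rw [(D.diag_comm t (D.dsub_le _ _ hb')).eq]
      _ = _ := by group
  have hcl : ∀ w ∈ V, w ∈ Z ∨ ∃ k, (v k)⁻¹ * w ∈ Z := by
    intro w hw
    rcases W.V0_cases hw with h | h | h | h
    exacts [Or.inl h, Or.inr ⟨0, h⟩, Or.inr ⟨1, h⟩, Or.inr ⟨2, h⟩]
  have hkerC : ∀ n ∈ N, (∀ k, (v k)⁻¹ * (n * v k * n⁻¹) ∈ Z) →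
      n ∈ V ⊔ Subgroup.centralizer (V : Set G) := by
    let K : Subgroup G :=
      { carrier := {n | n ∈ N ∧ ∀ k, (v k)⁻¹ * (n * v k * n⁻¹) ∈ Z}
        one_mem' := ⟨N.one_mem, fun k => by simp⟩
        mul_mem' := fun {a b} ha hb => ⟨mul_mem ha.1 hb.1, fun k => by
          have h1 := mul_mem (ha.2 k) (hZc a ha.1 _ (hb.2 k))
          simpa [mul_assoc] using h1⟩
        inv_mem' := fun {a} ha => ⟨inv_mem ha.1, fun k => by
          have h1 := hZc a⁻¹ (inv_mem ha.1) _ (inv_mem (ha.2 k))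
          simpa [mul_assoc] using h1⟩ }
    suffices hKC : K ≤ V ⊔ Subgroup.centralizer (V : Set G) from fun n hn h => hKC ⟨hn, h⟩
    obtain ⟨k₀, hk₀⟩ := D.hpow
    have hVN : V ≤ N := Subgroup.le_normalizer
    have hCN : Subgroup.centralizer (V : Set G) ≤ N := fun w hw =>
      Subgroup.mem_normalizer_fintype fun u hu => by
        rw [← Subgroup.mem_centralizer_iff.mp hw u hu, mul_inv_cancel_right]; exact hu
    have hPN : D.dsub (f : ℤ) 0 ≤ N := fun w hw => (W.V_norm (D.dsub_le _ _ hw)).mpr hw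
    have hVK : V ≤ K := fun a ha => ⟨hVN ha, fun k => W.V_commutator ha (hv k)⟩
    refine le_of_pow_mem hPN (S.isPGroup'.to_le (D.dsub_le _ _)) W.NV_sylow (fun n hn => hn.1)
      ?_ ?_ ?_ ?_ ?_
    · intro n hn k hk
      refine ⟨mul_mem (mul_mem hn hk.1) (inv_mem hn), fun i => ?_⟩
      have hmem : n⁻¹ * v i * n ∈ V := by
        have := (Subgroup.mem_normalizer_iff.mp (inv_mem hn) _).mp (hv i)
        rwa [inv_inv] at this
      have hfix : (n⁻¹ * v i * n)⁻¹ * (k * (n⁻¹ * v i * n) * k⁻¹) ∈ Z := by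
        rcases hcl _ hmem with h | ⟨l, hl⟩
        · exact mul_mem (inv_mem h) (hZc k hk.1 _ h)
        · generalize n⁻¹ * v i * n = w at hl ⊢
          have h1 := mul_mem (mul_mem (inv_mem hl) (hk.2 l)) (hZc k hk.1 _ hl)
          simpa [mul_assoc] using h1
      have := hZc n hn _ hfix
      simpa [mul_assoc] using this
    · refine sup_le hVK fun w hw => ⟨hCN hw, fun k => ?_⟩
      rw [← Subgroup.mem_centralizer_iff.mp hw _ (hv k), mul_inv_cancel_right, inv_mul_cancel]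
      exact Z.one_mem
    · intro k hk w hw
      have hmap : (V ⊔ Subgroup.centralizer (V : Set G)).map (MulAut.conj k).toMonoidHom =
          V ⊔ Subgroup.centralizer (V : Set G) := by
        have hVm : V.map (MulAut.conj k).toMonoidHom = V := Subgroup.eq_of_le_of_card_ge
          (by rintro _ ⟨u, hu, rfl⟩; exact (Subgroup.mem_normalizer_iff.mp hk.1 _).mp hu)
          (by rw [Subgroup.card_map_of_injective (MulAut.conj k).injective])
        rw [Subgroup.map_sup, hVm, ← centralizer_map_conj, hVm]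
      exact hmap ▸ ⟨w, hw, rfl⟩
    · intro n hn
      have hZfix : ∀ m : ℕ, n ^ m * (x ^ (2 * f : ℤ) * y ^ (2 * f : ℤ)) * (n ^ m)⁻¹ =
          x ^ (2 * f : ℤ) * y ^ (2 * f : ℤ) := by
        intro m
        have hcZ : x ^ (2 * f : ℤ) * y ^ (2 * f : ℤ) ∈ Z := D.mem_diag.mpr ⟨_, rfl⟩
        obtain ⟨t, ht⟩ := D.mem_diag.mp (hZc _ (pow_mem hn.1 m) _ hcZ)
        have hcU : n ^ m * (x ^ (2 * f : ℤ) * y ^ (2 * f : ℤ)) * (n ^ m)⁻¹ ∈ D.abel := ht ▸ ⟨t, t, rfl⟩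
        have ho : orderOf (n ^ m * (x ^ (2 * f : ℤ) * y ^ (2 * f : ℤ)) * (n ^ m)⁻¹) = 2 :=
          ((MulAut.conj (n ^ m)).orderOf_eq _).trans D.orderOf_c
        rw [ht] at hcU ho ⊢
        rcases W.invol_U hcU (by rw [← sq, ← ho]; exact pow_orderOf_eq_one _) with h | h | h | h
        · rw [h] at ho; simp at ho
        · exact h
        · obtain ⟨h1, h2⟩ := D.u_congr.mp h
          have := dvd_sub h2 h1
          rw [show t - 0 - (t - 2 * (f : ℤ)) = 2 * f by ring] at this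
          exact absurd this D.not_dvd_half
        · obtain ⟨h1, h2⟩ := D.u_congr.mp h
          have := dvd_sub h1 h2
          rw [show t - 0 - (t - 2 * (f : ℤ)) = 2 * f by ring] at this
          exact absurd this D.not_dvd_half
      have hpow4 : ∀ w ∈ Z, w ^ 2 ^ (k₀ + 1 + 1) = 1 := by
        intro w hw
        obtain ⟨t, rfl⟩ := D.mem_diag.mp hw
        rw [show 2 ^ (k₀ + 1 + 1) = 4 * f by rw [hk₀]; ring, ← zpow_natCast,
          (D.comm.zpow_zpow t t).mul_zpow, ← zpow_mul, ← zpow_mul, D.u_eq_one]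
        exact ⟨⟨t, by push_cast; ring⟩, ⟨t, by push_cast; ring⟩⟩
      set m := n ^ 2 ^ (k₀ + 1) with hmdef
      have hmZ : ∀ w ∈ Z, m * w * m⁻¹ = w := by
        intro w hw
        refine fix_abelian (A := Z) (fun a ha b hb => ?_) (fun u hu => hZc n hn.1 u hu)
          (fun u hu hu2 => ?_) (k₀ + 1) w hw (hpow4 w hw)
        · obtain ⟨t, rfl⟩ := D.mem_diag.mp ha
          exact D.diag_comm t (D.diag_le hb)
        · have hUu : u ∈ D.abel := by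
            obtain ⟨t, rfl⟩ := D.mem_diag.mp hu
            exact ⟨t, t, rfl⟩
          rcases W.invol_U hUu hu2 with rfl | rfl | rfl | rfl
          · simp
          · simpa using hZfix 1
          · exact absurd hu hu1Z
          · exfalso
            obtain ⟨t, ht⟩ := D.mem_diag.mp hu
            obtain ⟨h1, h2⟩ := D.u_congr.mp ht
            have := dvd_sub h2 h1
            rw [show (2 * f : ℤ) - t - (0 - t) = 2 * f by ring] at this
            exact D.not_dvd_half this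
      have hmK : ∀ k, (v k)⁻¹ * (m * v k * m⁻¹) ∈ Z := (pow_mem (show n ∈ K from hn) _ : m ∈ K).2
      refine ⟨k₀ + 1 + (k₀ + 1 + 1), Subgroup.mem_sup_right (Subgroup.mem_centralizer_iff.mpr ?_)⟩
      rw [pow_add, pow_mul, ← hmdef]
      intro u hu
      have hmj : ∀ j : ℕ, ∀ w ∈ Z, m ^ j * w * (m ^ j)⁻¹ = w := by
        intro j w hw
        induction j with
        | zero => simp
        | succ j ih =>
          rw [show m ^ (j + 1) * w * (m ^ (j + 1))⁻¹ = m * (m ^ j * w * (m ^ j)⁻¹) * m⁻¹ by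
            rw [pow_succ']; group, ih, hmZ w hw]
      have hmvk : ∀ k, m ^ 2 ^ (k₀ + 1 + 1) * v k * (m ^ 2 ^ (k₀ + 1 + 1))⁻¹ = v k := by
        intro k
        have key : ∀ j : ℕ, m ^ j * v k * (m ^ j)⁻¹ = v k * ((v k)⁻¹ * (m * v k * m⁻¹)) ^ j := by
          intro j
          induction j with
          | zero => simp
          | succ j ih =>
            have h0 := hmj j _ (hmK k)
            rw [show m ^ (j + 1) * v k * (m ^ (j + 1))⁻¹
                = (m ^ j * v k * (m ^ j)⁻¹) * (m ^ j * ((v k)⁻¹ * (m * v k * m⁻¹)) * (m ^ j)⁻¹) by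
              rw [pow_succ]; group, ih, h0, pow_succ, mul_assoc]
        rw [key, hpow4 _ (hmK k), mul_one]
      generalize hM : m ^ 2 ^ (k₀ + 1 + 1) = M at hmvk
      have hMZ : ∀ w ∈ Z, Commute M w := fun w hw =>
        mul_inv_eq_iff_eq_mul.mp (hM ▸ hmj _ w hw)
      have hM0 : Commute M (x ^ (2 * f : ℤ) * y ^ (0 : ℤ)) := mul_inv_eq_iff_eq_mul.mp (hmvk 0)
      have hM1 : Commute M z := by
        have h1 : M * v 1 * M⁻¹ = v 1 := hmvk 1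
        simp only [hvdef, Matrix.cons_val_one, Matrix.cons_val_zero, zpow_zero, one_mul] at h1
        exact mul_inv_eq_iff_eq_mul.mp h1
      obtain ⟨t, w, hw, rfl | rfl⟩ := W.V_gens hu
      · exact ((hM0.zpow_right t).mul_right (hMZ w hw)).eq.symm
      · exact (((hM0.zpow_right t).mul_right hM1).mul_right (hMZ w hw)).eq.symm
    · rintro w ⟨hwP, hwK⟩
      refine Subgroup.mem_sup_left ?_
      have h1 : (x ^ (0 : ℤ) * y ^ (0 : ℤ) * z)⁻¹ * (w * (x ^ (0 : ℤ) * y ^ (0 : ℤ) * z) * w⁻¹) ∈ Z :=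
        hwK.2 1
      obtain ⟨p, q, ⟨rfl, t, ht⟩ | ⟨rfl, t, ht⟩⟩ := hwP
      · rw [D.u_conj_v, D.v_inv, D.v_mul_v] at h1
        obtain ⟨r, hr⟩ := D.mem_diag.mp h1
        obtain ⟨⟨a, ha⟩, ⟨b, hb⟩⟩ := D.u_congr.mp hr
        exact W.u_mem_V.mpr ⟨b - a, by linarith⟩
      · rw [D.v_conj_v, D.v_inv, D.v_mul_v] at h1
        obtain ⟨r, hr⟩ := D.mem_diag.mp h1
        obtain ⟨⟨a, ha⟩, ⟨b, hb⟩⟩ := D.u_congr.mp hr
        exact W.v_mem_V.mpr ⟨b - a, by linarith⟩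
  have h := three_dichotomy (N := N) (C := V ⊔ Subgroup.centralizer (V : Set G)) Z v ?_ hZc ?_
    hkerC ?_ (x ^ (f : ℤ) * y ^ (0 : ℤ)) ?_ ?_ ?_
  · rcases h with ⟨h2, hfix⟩ | ⟨h6, g, hg, hodd, hg3⟩
    · exact Or.inl ⟨h2, hfix⟩
    · exact Or.inr ⟨h6, g, hg, hodd, hg3 0, hg3 1, hg3 2⟩
  · have hd : ∀ k, (v 0)⁻¹ * v k ∈ Z → k = 0 := by
      intro k h
      fin_cases k
      · rfl
      · simp only [hvdef] at h
        exfalso
        have h' : (x ^ (2 * f : ℤ) * y ^ (0 : ℤ))⁻¹ * (x ^ (0 : ℤ) * y ^ (0 : ℤ) * z) ∈ Z := h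
        rw [D.u_inv, D.u_mul_v] at h'
        exact hnb _ _ h'
      · exfalso
        have h' : (x ^ (2 * f : ℤ) * y ^ (0 : ℤ))⁻¹ * (x ^ (2 * f : ℤ) * y ^ (0 : ℤ) * z) ∈ Z := h
        rw [D.u_inv, D.u_mul_v] at h'
        exact hnb _ _ h'
    intro k l h
    have hsym : (v l)⁻¹ * v k ∈ Z := by simpa using inv_mem h
    by_cases hk : k = 0
    · subst hk; exact (hd l h).symm
    by_cases hl : l = 0
    · subst hl; exact hd k hsym
    have hjk : ¬ (x ^ (0 : ℤ) * y ^ (0 : ℤ) * z)⁻¹ * (x ^ (2 * f : ℤ) * y ^ (0 : ℤ) * z) ∈ Z := by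
      intro hh
      rw [D.v_inv, D.v_mul_v] at hh
      obtain ⟨t, ht⟩ := D.mem_diag.mp hh
      obtain ⟨h1, h2⟩ := D.u_congr.mp ht
      have := dvd_sub h2 h1
      rw [show (-0 + 2 * (f : ℤ)) - t - (-0 + 0 - t) = 2 * f by ring] at this
      exact D.not_dvd_half this
    fin_cases k <;> fin_cases l
    · exact absurd rfl hk
    · exact absurd rfl hk
    · exact absurd rfl hk
    · exact absurd rfl hl
    · rfl
    · exact absurd h hjk
    · exact absurd rfl hl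
    · exact absurd hsym hjk
    · rfl
  · intro n hn k
    rcases hcl _ ((Subgroup.mem_normalizer_iff.mp hn _).mp (hv k)) with h | h
    · exfalso
      have := hZc n⁻¹ (inv_mem hn) _ h
      exact hvZ k (by simpa [mul_assoc] using this)
    · exact h
  · intro c hc _ k
    have hnorm : V ≤ Subgroup.normalizer (Subgroup.centralizer (V : Set G) : Set G) := by
      intro a ha
      refine Subgroup.mem_normalizer_fintype fun w hw => ?_
      rw [SetLike.mem_coe, Subgroup.mem_centralizer_iff]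
      intro u hu
      have := Subgroup.mem_centralizer_iff.mp hw (a⁻¹ * u * a) (mul_mem (mul_mem (inv_mem ha) hu) ha)
      calc u * (a * w * a⁻¹) = a * ((a⁻¹ * u * a) * w) * a⁻¹ := by group
        _ = a * w * a⁻¹ * u := by rw [this]; group
    have hc' : c ∈ (↑(V ⊔ Subgroup.centralizer (V : Set G)) : Set G) := hc
    rw [Subgroup.coe_mul_of_left_le_normalizer_right _ _ hnorm] at hc'
    obtain ⟨a, ha, w, hw, rfl⟩ := hc'
    have hwv := Subgroup.mem_centralizer_iff.mp hw _ (hv k)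
    have e1 : a * w * v k * (a * w)⁻¹ = a * v k * a⁻¹ := by
      calc a * w * v k * (a * w)⁻¹ = a * (w * v k) * w⁻¹ * a⁻¹ := by group
        _ = _ := by rw [← hwv]; group
    show (v k)⁻¹ * (a * w * v k * (a * w)⁻¹) ∈ Z
    rw [e1]
    exact W.V_commutator ha (hv k)
  · exact (W.V_norm (D.u_mem _ _)).mpr ((D.u_mem_dsub ⟨4, by ring⟩).mpr ⟨1, by ring⟩)
  · show (x ^ (2 * f : ℤ) * y ^ (0 : ℤ))⁻¹ *
      (x ^ (f : ℤ) * y ^ (0 : ℤ) * (x ^ (2 * f : ℤ) * y ^ (0 : ℤ)) * (x ^ (f : ℤ) * y ^ (0 : ℤ))⁻¹) ∈ Z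
    rw [D.u_conj_u, inv_mul_cancel]
    exact Z.one_mem
  · show (x ^ (2 * f : ℤ) * y ^ (0 : ℤ) * z)⁻¹ * (x ^ (f : ℤ) * y ^ (0 : ℤ) *
      (x ^ (0 : ℤ) * y ^ (0 : ℤ) * z) * (x ^ (f : ℤ) * y ^ (0 : ℤ))⁻¹) ∈ Z
    rw [D.u_conj_v, D.v_inv, D.v_mul_v]
    exact D.mem_diag.mpr ⟨-f, D.u_eq_of 0 0 (by ring) (by ring)⟩

end WrSylow

end Cfsg.Agent.TwoFusion36
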