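import Cfsg.Agent.TwoFusion36.WrFusion
import Cfsg.Agent.TwoFusion36.TwoTools
import Cfsg.Agent.TwoFusion36.QDFusion

/-!
# Control of fusion by the two local normalisers, wreathed case (helper36)
-/

set_option linter.unusedSectionVars false

namespace Cfsg.Agent.TwoFusion36

variable {G : Type*} [Group G] [Finite G]

/-- The elements fixing `c` and moving `v` at most to `v * c` form a subgroup. -/
theorem exists_two_conj_subgroup {v c : G} (hcc : c * c = 1) :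
    ∃ T : Subgroup G, ∀ n, n ∈ T ↔ n * c * n⁻¹ = c ∧ (n * v * n⁻¹ = v ∨ n * v * n⁻¹ = v * c) := by
  refine ⟨
    { carrier := {n | n * c * n⁻¹ = c ∧ (n * v * n⁻¹ = v ∨ n * v * n⁻¹ = v * c)}
      one_mem' := ⟨by simp, Or.inl (by simp)⟩
      mul_mem' := ?_
      inv_mem' := ?_ }, fun n => Iff.rfl⟩
  · rintro p q ⟨hpc, hpv⟩ ⟨hqc, hqv⟩
    refine ⟨by rw [show p * q * c * (p * q)⁻¹ = p * (q * c * q⁻¹) * p⁻¹ by group, hqc, hpc], ?_⟩
    have key : p * (v * c) * p⁻¹ = p * v * p⁻¹ * c := by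
      rw [show p * (v * c) * p⁻¹ = p * v * p⁻¹ * (p * c * p⁻¹) by group, hpc]
    rw [show p * q * v * (p * q)⁻¹ = p * (q * v * q⁻¹) * p⁻¹ by group]
    rcases hqv with hqv | hqv <;> rcases hpv with hpv | hpv
    · exact Or.inl (by rw [hqv, hpv])
    · exact Or.inr (by rw [hqv, hpv])
    · exact Or.inr (by rw [hqv, key, hpv])
    · exact Or.inl (by rw [hqv, key, hpv, mul_assoc, hcc, mul_one])
  · rintro p ⟨hpc, hpv⟩
    have h1 : p⁻¹ * c * p⁻¹⁻¹ = c := by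
      conv_lhs => rw [← hpc]
      group
    refine ⟨h1, hpv.imp (fun h => ?_) (fun h => ?_)⟩
    · conv_lhs => rw [← h]
      group
    · have h5 : p⁻¹ * (v * c) * p⁻¹⁻¹ = v := by rw [← h]; group
      rw [show p⁻¹ * (v * c) * p⁻¹⁻¹ = p⁻¹ * v * p⁻¹⁻¹ * (p⁻¹ * c * p⁻¹⁻¹) by group, h1] at h5
      rw [eq_mul_inv_of_mul_eq h5, inv_eq_of_mul_eq_one_right hcc]

namespace WrSylow

variable {S : Sylow 2 G} {f : ℕ} {x y z : G}

/-- `N(U)` acts on `U` as `z` or trivially. -/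
def UFix (W : WrSylow S f x y z) : Prop :=
  ∀ n ∈ Subgroup.normalizer (W.wr.abel : Set G),
    n * (x ^ (2 * f : ℤ) * y ^ (2 * f : ℤ)) * n⁻¹ = x ^ (2 * f : ℤ) * y ^ (2 * f : ℤ) ∧
    ((∀ u ∈ W.wr.abel, n * u * n⁻¹ = u) ∨ ∀ u ∈ W.wr.abel, n * u * n⁻¹ = z * u * z⁻¹)

/-- Some element of odd order of `N(U)` permutes the three involutions. -/
def UMove (W : WrSylow S f x y z) : Prop :=
  ∃ g ∈ Subgroup.normalizer (W.wr.abel : Set G), Odd (orderOf g) ∧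
    g * (x ^ (2 * f : ℤ) * y ^ (2 * f : ℤ)) * g⁻¹ = x ^ (2 * f : ℤ) * y ^ (0 : ℤ) ∧
    g * (x ^ (2 * f : ℤ) * y ^ (0 : ℤ)) * g⁻¹ = x ^ (0 : ℤ) * y ^ (2 * f : ℤ) ∧
    g * (x ^ (0 : ℤ) * y ^ (2 * f : ℤ)) * g⁻¹ = x ^ (2 * f : ℤ) * y ^ (2 * f : ℤ)

/-- `N(V)` fixes the coset of the first involution. -/
def VFix (W : WrSylow S f x y z) : Prop :=
  ∀ n ∈ Subgroup.normalizer (W.wr.dsub (2 * f : ℕ) 0 : Set G),
    (x ^ (2 * f : ℤ) * y ^ (0 : ℤ))⁻¹ * (n * (x ^ (2 * f : ℤ) * y ^ (0 : ℤ)) * n⁻¹) ∈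
      Subgroup.zpowers (x * y)

/-- Some element of odd order of `N(V)` permutes the three cosets of the centre. -/
def VMove (W : WrSylow S f x y z) : Prop :=
  ∃ g ∈ Subgroup.normalizer (W.wr.dsub (2 * f : ℕ) 0 : Set G), Odd (orderOf g) ∧
    (x ^ (0 : ℤ) * y ^ (0 : ℤ) * z)⁻¹ * (g * (x ^ (2 * f : ℤ) * y ^ (0 : ℤ)) * g⁻¹) ∈
      Subgroup.zpowers (x * y) ∧
    (x ^ (2 * f : ℤ) * y ^ (0 : ℤ) * z)⁻¹ * (g * (x ^ (0 : ℤ) * y ^ (0 : ℤ) * z) * g⁻¹) ∈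
      Subgroup.zpowers (x * y) ∧
    (x ^ (2 * f : ℤ) * y ^ (0 : ℤ))⁻¹ * (g * (x ^ (2 * f : ℤ) * y ^ (0 : ℤ) * z) * g⁻¹) ∈
      Subgroup.zpowers (x * y)

variable (W : WrSylow S f x y z)
include W

theorem uFix_or_uMove : W.UFix ∨ W.UMove :=
  W.abel_dich.imp (fun h => h.2) (fun h => h.2)

theorem vFix_or_vMove : W.VFix ∨ W.VMove :=
  W.V_dich.imp (fun h => h.2) (fun h => h.2)

theorem uMove_of_six (h : (Subgroup.centralizer (W.wr.abel : Set G)).relIndex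
    (Subgroup.normalizer (W.wr.abel : Set G)) = 6) : W.UMove := by
  rcases W.abel_dich with ⟨h2, -⟩ | ⟨-, h6⟩
  · omega
  · exact h6

theorem uFix_of_two (h : (Subgroup.centralizer (W.wr.abel : Set G)).relIndex
    (Subgroup.normalizer (W.wr.abel : Set G)) = 2) : W.UFix := by
  rcases W.abel_dich with ⟨-, h2⟩ | ⟨h6, -⟩
  · exact h2
  · omega

theorem vMove_of_six (h : (W.wr.dsub (2 * f : ℕ) 0 ⊔
      Subgroup.centralizer (W.wr.dsub (2 * f : ℕ) 0 : Set G)).relIndex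
    (Subgroup.normalizer (W.wr.dsub (2 * f : ℕ) 0 : Set G)) = 6) : W.VMove := by
  rcases W.V_dich with ⟨h2, -⟩ | ⟨-, h6⟩
  · omega
  · exact h6

theorem vFix_of_two (h : (W.wr.dsub (2 * f : ℕ) 0 ⊔
      Subgroup.centralizer (W.wr.dsub (2 * f : ℕ) 0 : Set G)).relIndex
    (Subgroup.normalizer (W.wr.dsub (2 * f : ℕ) 0 : Set G)) = 2) : W.VFix := by
  rcases W.V_dich with ⟨-, h2⟩ | ⟨h6, -⟩
  · exact h2
  · omega

theorem abel_two : IsPGroup 2 W.wr.abel := S.isPGroup'.to_le W.wr.abel_le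

/-- `N(V)` normalises the centre of `S`. -/
theorem NV_Z {n : G} (hn : n ∈ Subgroup.normalizer (W.wr.dsub (2 * f : ℕ) 0 : Set G))
    {w : G} (hw : w ∈ Subgroup.zpowers (x * y)) : n * w * n⁻¹ ∈ Subgroup.zpowers (x * y) := by
  have D := W.wr
  refine D.center_le_diag (D.dsub_le _ _) W.V_nc
    ⟨⟨n * w * n⁻¹, (Subgroup.mem_normalizer_iff.mp hn _).mp (W.diag_le_V hw)⟩, ?_, rfl⟩
  rw [SetLike.mem_coe, Subgroup.mem_center_iff]
  rintro ⟨b, hb⟩
  apply Subtype.ext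
  show b * (n * w * n⁻¹) = n * w * n⁻¹ * b
  have hb' : n⁻¹ * b * n ∈ D.dsub (2 * f : ℕ) 0 := by
    have := (Subgroup.mem_normalizer_iff.mp (inv_mem hn) _).mp hb
    rwa [inv_inv] at this
  obtain ⟨t, rfl⟩ := D.mem_diag.mp hw
  calc b * (n * (x ^ t * y ^ t) * n⁻¹) = n * ((n⁻¹ * b * n) * (x ^ t * y ^ t)) * n⁻¹ := by group
    _ = n * ((x ^ t * y ^ t) * (n⁻¹ * b * n)) * n⁻¹ := by
        rw [(D.diag_comm t (D.dsub_le _ _ hb')).eq]
    _ = _ := by group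

theorem v_notMem_diag (i j : ℤ) : x ^ i * y ^ j * z ∉ Subgroup.zpowers (x * y) := fun h => by
  obtain ⟨t, ht⟩ := W.wr.mem_diag.mp h
  exact W.wr.u_ne_v t t i j ht.symm

theorem NV_c {n : G} (hn : n ∈ Subgroup.normalizer (W.wr.dsub (2 * f : ℕ) 0 : Set G)) :
    n * (x ^ (2 * f : ℤ) * y ^ (2 * f : ℤ)) * n⁻¹ = x ^ (2 * f : ℤ) * y ^ (2 * f : ℤ) := by
  have D := W.wr
  obtain ⟨t, ht⟩ := D.mem_diag.mp (W.NV_Z hn (D.mem_diag.mpr ⟨2 * f, rfl⟩))
  have ho : orderOf (x ^ t * y ^ t) = 2 := by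
    rw [← ht]; exact ((MulAut.conj n).orderOf_eq _).trans D.orderOf_c
  have h2 : x ^ t * y ^ t * (x ^ t * y ^ t) = 1 := by rw [← sq, ← ho, pow_orderOf_eq_one]
  rw [D.u_mul, D.u_eq_one] at h2
  obtain ⟨⟨p, hp⟩, -⟩ := h2
  rw [ht, D.u_congr]
  rcases Int.even_or_odd' p with ⟨l, rfl | rfl⟩
  · exfalso
    have h1 : x ^ t * y ^ t = 1 := D.u_eq_one.mpr ⟨⟨l, by linarith⟩, ⟨l, by linarith⟩⟩
    rw [h1, orderOf_one] at ho
    omega
  · exact ⟨⟨l, by linarith⟩, ⟨l, by linarith⟩⟩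

/-- If `N(V)` fixes the first coset, a centraliser of an element of `A \ U` is small. -/
theorem A_bound (h2 : W.VFix) (t : ℤ) {R : Subgroup G} (hR : IsPGroup 2 R)
    (hRv : ∀ r ∈ R, Commute r (x ^ t * y ^ t * z)) : Nat.card R ≤ 8 * f := by
  have D := W.wr
  set A := D.dsub (4 * f : ℕ) 0 with hA
  set V := D.dsub (2 * f : ℕ) 0 with hV
  set v := x ^ t * y ^ t * z with hv
  set c := x ^ (2 * f : ℤ) * y ^ (2 * f : ℤ) with hc
  have h4 : ((4 * f : ℕ) : ℤ) ∣ 4 * f := ⟨1, by push_cast; ring⟩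
  have huA : ∀ {i j : ℤ}, x ^ i * y ^ j ∈ A ↔ (4 * f : ℤ) ∣ i - j := by
    intro i j; rw [hA, D.u_mem_dsub h4]; push_cast; rfl
  have hvA : ∀ {i j : ℤ}, x ^ i * y ^ j * z ∈ A ↔ (4 * f : ℤ) ∣ i - j := by
    intro i j; rw [hA, D.v_mem_dsub h4, sub_zero]; push_cast; rfl
  have hA2 : IsPGroup 2 A := S.isPGroup'.to_le (D.dsub_le _ _)
  have hf := D.one_le
  have hcardA : Nat.card A = 8 * f := by
    have h1 : 4 * f * Nat.card A = 32 * f ^ 2 := D.card_dsub (by omega) h4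
    apply Nat.eq_of_mul_eq_mul_left (show 0 < 4 * f by omega)
    rw [h1]; ring
  have hcardV : Nat.card V = 16 * f := by
    have h1 : 2 * f * Nat.card V = 32 * f ^ 2 := D.card_dsub (by omega) W.hdV
    apply Nat.eq_of_mul_eq_mul_left (show 0 < 2 * f by omega)
    rw [h1]; ring
  have hV2 : IsPGroup 2 V := S.isPGroup'.to_le (D.dsub_le _ _)
  have hvAmem : v ∈ A := hvA.mpr (by simp)
  set M := Subgroup.centralizer ({v} : Set G) with hM
  have hAM : A ≤ M := by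
    intro a ha
    rw [hM, Subgroup.mem_centralizer_singleton_iff]
    obtain ⟨i, j, ⟨rfl, hij⟩ | ⟨rfl, hij⟩⟩ := ha <;> push_cast at hij
    · exact (D.commute_u_v.mpr hij).eq
    · rw [sub_zero] at hij
      rw [hv, D.v_mul_v, D.v_mul_v, D.u_congr]
      exact ⟨by rw [show i + t - (t + j) = i - j by ring]; exact hij,
        by rw [show j + t - (t + i) = -(i - j) by ring]; exact dvd_neg.mpr hij⟩
  have hRM : R ≤ M := fun r hr => Subgroup.mem_centralizer_singleton_iff.mpr (hRv r hr).eq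
  by_cases hdvd : 2 ∣ A.relIndex M
  swap
  · exact hcardA ▸ card_le_of_sylow hAM hA2 hdvd hRM hR
  exfalso
  obtain ⟨R₁, hR₁M, -, hR₁2, hR₁card, hR₁A⟩ := exists_double hAM hA2 hdvd
  set N := Subgroup.normalizer (A : Set G) with hN
  have hR₁N : R₁ ≤ N := fun r hr => Subgroup.mem_normalizer_fintype (hR₁A r hr)
  have hZA : Subgroup.zpowers (x * y) ≤ A := fun w hw => by
    obtain ⟨s, rfl⟩ := D.mem_diag.mp hw
    exact huA.mpr (by simp)
  have hAV : A ≤ V := by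
    rintro _ ⟨i, j, ⟨rfl, p, hp⟩ | ⟨rfl, p, hp⟩⟩ <;> push_cast at hp
    · exact W.u_mem_V.mpr ⟨2 * p, by linarith⟩
    · exact W.v_mem_V.mpr ⟨2 * p, by linarith⟩
  have hVN : V ≤ N := fun a ha => Subgroup.mem_normalizer_fintype fun b hb => by
    have h1 := mul_mem hb (hZA (W.V_commutator ha (hAV hb)))
    rwa [mul_inv_cancel_left] at h1
  by_cases hdV : 2 ∣ V.relIndex N
  · -- `N(A) ∩ N(V)` has no subgroup as large as the Sylow subgroup of `N(V)`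
    obtain ⟨R₂, hR₂N, -, hR₂2, hR₂card, hR₂V⟩ := exists_double hVN hV2 hdV
    have hfdvd : (f : ℤ) ∣ 4 * f := ⟨4, by ring⟩
    have hR₂NV : R₂ ≤ Subgroup.normalizer (V : Set G) := fun r hr =>
      Subgroup.mem_normalizer_fintype (hR₂V r hr)
    have hPN : D.dsub (f : ℤ) 0 ≤ Subgroup.normalizer (V : Set G) := fun w hw =>
      (W.V_norm (D.dsub_le _ _ hw)).mpr hw
    have hcardP : Nat.card (D.dsub (f : ℤ) 0) = 32 * f := by
      have h1 : f * Nat.card (D.dsub (f : ℤ) 0) = 32 * f ^ 2 := D.card_dsub (by omega) hfdvd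
      apply Nat.eq_of_mul_eq_mul_left (show 0 < f by omega)
      rw [h1]; ring
    obtain ⟨m, hm, hmP⟩ := exists_conj_eq hPN (S.isPGroup'.to_le (D.dsub_le _ _)) W.NV_sylow
      hR₂NV hR₂2 (by rw [hcardP, hR₂card, hcardV]; omega)
    obtain ⟨r, hr, hrx⟩ := (hmP (x ^ (f : ℤ) * y ^ (0 : ℤ))).mp
      ((D.u_mem_dsub hfdvd).mpr (by simp))
    have hzA : z ∈ A := by rw [D.z_eq]; exact hvA.mpr (by simp)
    have hq : ∃ i j : ℤ, m * z * m⁻¹ = x ^ i * y ^ j * z := by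
      have hqV : m * z * m⁻¹ ∈ V := (Subgroup.mem_normalizer_iff.mp hm _).mp (hAV hzA)
      rcases W.V0_cases hqV with h | h | h | h
      · exfalso
        have := W.NV_Z (inv_mem hm) h
        rw [show m⁻¹ * (m * z * m⁻¹) * m⁻¹⁻¹ = z by group, D.z_eq] at this
        exact W.v_notMem_diag _ _ this
      · exfalso
        have h1 := W.NV_Z (inv_mem hm) h
        have h3 := h2 m⁻¹ (inv_mem hm)
        have h4' := mul_mem h3 h1
        rw [show (x ^ (2 * f : ℤ) * y ^ (0 : ℤ))⁻¹ *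
            (m⁻¹ * (x ^ (2 * f : ℤ) * y ^ (0 : ℤ)) * m⁻¹⁻¹) *
            (m⁻¹ * ((x ^ (2 * f : ℤ) * y ^ (0 : ℤ))⁻¹ * (m * z * m⁻¹)) * m⁻¹⁻¹) =
            (x ^ (2 * f : ℤ) * y ^ (0 : ℤ))⁻¹ * z by group] at h4'
        rw [D.u_inv, D.z_eq, D.u_mul_v] at h4'
        exact W.v_notMem_diag _ _ h4'
      · obtain ⟨s, hs⟩ := D.mem_diag.mp h
        exact ⟨0 + s, 0 + s, by rw [eq_mul_of_inv_mul_eq hs, D.v_mul_u]⟩
      · obtain ⟨s, hs⟩ := D.mem_diag.mp h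
        exact ⟨2 * f + s, 0 + s, by rw [eq_mul_of_inv_mul_eq hs, D.v_mul_u]⟩
    obtain ⟨i, j, hq⟩ := hq
    have hw : x ^ (f : ℤ) * y ^ (0 : ℤ) * (m * z * m⁻¹) * (x ^ (f : ℤ) * y ^ (0 : ℤ))⁻¹ =
        m * (r * z * r⁻¹) * m⁻¹ := by rw [← hrx]; group
    rw [hq, D.u_conj_v] at hw
    have hrz : r * z * r⁻¹ ∈ A := (Subgroup.mem_normalizer_iff.mp (hR₂N hr) _).mp hzA
    obtain ⟨i', j', ⟨h, hij⟩ | ⟨h, hij⟩⟩ := hrz <;> push_cast at hij
    · rw [h, D.diag_of_dvd hij] at hw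
      exact W.v_notMem_diag _ _ (hw ▸ W.NV_Z hm (D.mem_diag.mpr ⟨i', rfl⟩))
    · rw [sub_zero] at hij
      obtain ⟨s, hs⟩ := D.mem_diag.mp (W.NV_Z hm (D.mem_diag.mpr ⟨i', rfl⟩))
      rw [h, D.diag_of_dvd hij,
        show m * (x ^ i' * y ^ i' * z) * m⁻¹ = m * (x ^ i' * y ^ i') * m⁻¹ * (m * z * m⁻¹) by group,
        hs, hq, D.u_mul_v, D.v_congr] at hw
      obtain ⟨⟨p, hp⟩, ⟨p', hp'⟩⟩ := hw
      exact D.not_dvd_half ⟨p - p', by linarith⟩
  · -- then `N(A) = V C(A)`, and `v` has only the conjugates `v`, `v c`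
    obtain ⟨m, hm, hmV⟩ := exists_conj_eq hVN hV2 hdV hR₁N hR₁2
      (by rw [hcardV, hR₁card, hcardA]; omega)
    have hCN : Subgroup.centralizer (A : Set G) ≤ N := fun w hw =>
      Subgroup.mem_normalizer_fintype fun u hu => by
        rw [← Subgroup.mem_centralizer_iff.mp hw u hu, mul_inv_cancel_right]; exact hu
    obtain ⟨a, ha⟩ := centralizer_relIndex_two_pow (A := A)
      (D.isPGroup_mulAut h4 (fun h => by omega))
    have hNle : N ≤ V ⊔ Subgroup.centralizer (A : Set G) := by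
      apply Subgroup.relIndex_eq_one.mp
      refine eq_one_of_dvd_two_pow (a := a) ?_ fun h => hdV (h.trans ?_)
      · rw [← ha]; exact Subgroup.relIndex_dvd_of_le_left N le_sup_right
      exact Subgroup.relIndex_dvd_of_le_left N le_sup_left
    have hcc : c * c = 1 := by rw [← sq, ← D.orderOf_c, pow_orderOf_eq_one]
    obtain ⟨T, hTmem⟩ := exists_two_conj_subgroup (v := v) hcc
    have hT : N ≤ T := hNle.trans (sup_le (fun u hu => (hTmem u).mpr ⟨?_, ?_⟩)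
      (fun u hu => (hTmem u).mpr ?_))
    rotate_left
    · have := (D.diag_comm (2 * f) (D.dsub_le _ _ hu)).symm
      rw [hc, this.eq, mul_inv_cancel_right]
    · obtain ⟨p, q, ⟨rfl, s, hs⟩ | ⟨rfl, s, hs⟩⟩ := hu <;> push_cast at hs
      · rw [hv, D.u_conj_v]
        rcases Int.even_or_odd' s with ⟨l, rfl | rfl⟩
        · exact Or.inl (D.v_congr.mpr ⟨⟨l, by linarith⟩, ⟨-l, by linarith⟩⟩)
        · refine Or.inr ?_
          rw [hc, D.v_mul_u, D.v_congr]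
          exact ⟨⟨l, by linarith⟩, ⟨-l - 1, by linarith⟩⟩
      · rw [hv, D.v_conj_v]
        rcases Int.even_or_odd' s with ⟨l, rfl | rfl⟩
        · exact Or.inl (D.v_congr.mpr ⟨⟨l, by linarith⟩, ⟨-l, by linarith⟩⟩)
        · refine Or.inr ?_
          rw [hc, D.v_mul_u, D.v_congr]
          exact ⟨⟨l, by linarith⟩, ⟨-l - 1, by linarith⟩⟩
    · have hcA : c ∈ A := huA.mpr (by simp)
      exact ⟨by rw [← Subgroup.mem_centralizer_iff.mp hu c hcA, mul_inv_cancel_right],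
        Or.inl (by rw [← Subgroup.mem_centralizer_iff.mp hu v hvAmem, mul_inv_cancel_right])⟩
    obtain ⟨r, hr, hrx⟩ := (hmV (x ^ (2 * f : ℤ) * y ^ (0 : ℤ))).mp (W.u_mem_V.mpr ⟨1, by ring⟩)
    have hcomm : Commute (x ^ (2 * f : ℤ) * y ^ (0 : ℤ)) (m * v * m⁻¹) := by
      have h1 : r * v = v * r := Subgroup.mem_centralizer_singleton_iff.mp (hR₁M hr)
      rw [← hrx]
      show _ * _ = _ * _
      calc m * r * m⁻¹ * (m * v * m⁻¹) = m * (r * v) * m⁻¹ := by group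
        _ = m * (v * r) * m⁻¹ := by rw [h1]
        _ = _ := by group
    rcases ((hTmem m).mp (hT hm)).2 with h | h <;> rw [h] at hcomm
    · have := D.commute_u_v.mp hcomm
      rw [sub_zero] at this
      exact D.not_dvd_half this
    · rw [hv, hc, D.v_mul_u] at hcomm
      have := D.commute_u_v.mp hcomm
      rw [sub_zero] at this
      exact D.not_dvd_half this

theorem A_not_conj (h2 : W.VFix) {t : ℤ} {g w : G} (hw : w ∈ W.wr.abel)
    (h : g * (x ^ t * y ^ t * z) * g⁻¹ = w) : False := by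
  have hR : Nat.card (W.wr.abel.map (MulAut.conj g⁻¹).toMonoidHom) ≤ 8 * f := by
    refine W.A_bound h2 t (W.abel_two.map _) ?_
    rintro _ ⟨u, hu, rfl⟩
    show g⁻¹ * u * g⁻¹⁻¹ * (x ^ t * y ^ t * z) = x ^ t * y ^ t * z * (g⁻¹ * u * g⁻¹⁻¹)
    calc g⁻¹ * u * g⁻¹⁻¹ * (x ^ t * y ^ t * z)
        = g⁻¹ * (u * (g * (x ^ t * y ^ t * z) * g⁻¹)) * g⁻¹⁻¹ := by group
      _ = g⁻¹ * ((g * (x ^ t * y ^ t * z) * g⁻¹) * u) * g⁻¹⁻¹ := by
          rw [h, (W.wr.abel_comm hu hw).eq]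
      _ = _ := by group
  rw [Subgroup.card_map_of_injective (f := (MulAut.conj g⁻¹).toMonoidHom)
    (MulAut.conj g⁻¹).injective, W.wr.card_abel] at hR
  have := W.wr.one_le
  nlinarith

theorem out_conj_rep {i j t : ℤ} (h : (4 * f : ℤ) ∣ i + j - 2 * t) :
    ∃ s ∈ (S : Subgroup G), s * (x ^ i * y ^ j * z) * s⁻¹ = x ^ t * y ^ t * z := by
  refine ⟨_, W.wr.u_mem (t - i) 0, ?_⟩
  rw [W.wr.u_conj_v, W.wr.v_congr]
  exact ⟨⟨0, by ring⟩, by rwa [show 0 + j - (t - i) - t = i + j - 2 * t by ring]⟩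

theorem conj_mul_self {a b g : G} (h : g * a * g⁻¹ = b) : g * (a * a) * g⁻¹ = b * b := by
  rw [← h]; group

/-- When `N(V)` fixes the first coset, no outside element is conjugate to an element of `U`. -/
theorem out_not_conj (h2 : W.VFix) {i j : ℤ} {g w : G} (hw : w ∈ W.wr.abel)
    (h : g * (x ^ i * y ^ j * z) * g⁻¹ = w) : False := by
  have D := W.wr
  rcases Int.even_or_odd' (i + j) with ⟨t, ht | ht⟩
  · obtain ⟨s, -, hs⟩ := W.out_conj_rep (i := i) (j := j) (t := t) ⟨0, by rw [ht]; ring⟩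
    refine W.A_not_conj h2 hw (t := t) (g := g * s⁻¹) ?_
    rw [← hs, ← h]; group
  · obtain ⟨k, l, rfl⟩ := hw
    have h1 : g * (x ^ i * y ^ j * z * (x ^ i * y ^ j * z)) ^ (2 * f) * g⁻¹ = 1 := by
      rw [← conj_pow, W.conj_mul_self h, D.u_mul, ← zpow_natCast, (D.comm.zpow_zpow _ _).mul_zpow,
        ← zpow_mul, ← zpow_mul, D.u_eq_one]
      exact ⟨⟨k, by push_cast; ring⟩, ⟨l, by push_cast; ring⟩⟩
    rw [conj_eq_one_iff, D.v_sq, ← zpow_natCast, (D.comm.zpow_zpow _ _).mul_zpow, ← zpow_mul,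
      ← zpow_mul, D.u_eq_one] at h1
    obtain ⟨⟨p, hp⟩, -⟩ := h1
    push_cast at hp
    rw [ht] at hp
    exact D.not_dvd_half ⟨p - t, by linarith⟩

theorem abel_sign (h2 : W.VFix) {g s w : G} (hs : s ∈ (S : Subgroup G)) (hw : w ∈ W.wr.abel)
    (h : g * s * g⁻¹ = w) : s ∈ W.wr.abel := by
  obtain ⟨i, j, rfl | rfl⟩ := W.wr.cases hs
  · exact ⟨i, j, rfl⟩
  · exact (W.out_not_conj h2 hw h).elim

theorem z_not_conj_abel (h2 : W.VFix) {w : G} (hw : w ∈ W.wr.abel) : ¬ IsConj z w := fun h => by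
  obtain ⟨g, hg⟩ := isConj_iff.mp h
  rw [W.wr.z_eq] at hg
  exact W.out_not_conj h2 hw hg

/-- `U` is a Sylow subgroup of the centraliser of each of its non-central elements. -/
theorem centralizer_sylow (hU : W.UFix) {i j : ℤ} (h : ¬ (4 * f : ℤ) ∣ i - j) :
    ¬ 2 ∣ W.wr.abel.relIndex (Subgroup.centralizer ({x ^ i * y ^ j} : Set G)) := by
  have D := W.wr
  intro hdvd
  have hUM : D.abel ≤ Subgroup.centralizer ({x ^ i * y ^ j} : Set G) := fun u hu =>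
    Subgroup.mem_centralizer_singleton_iff.mpr (D.abel_comm hu ⟨i, j, rfl⟩).eq
  obtain ⟨R, hRM, -, hR2, hRcard, hRU⟩ := exists_double hUM W.abel_two hdvd
  obtain ⟨m, hm, hmS⟩ := exists_conj_eq W.S_le_normalizer_abel S.isPGroup'
    (fun hd => S.not_dvd_index (hd.trans (Subgroup.relIndex_dvd_index_of_le
      W.S_le_normalizer_abel)))
    (fun r hr => Subgroup.mem_normalizer_fintype (hRU r hr)) hR2
    (by rw [hRcard, D.card_abel, D.card]; exact le_of_eq (by ring))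
  obtain ⟨r, hr, hrz⟩ := (hmS z).mp D.hz
  have hcomm : Commute (m * (x ^ i * y ^ j) * m⁻¹) z := by
    have h1 : r * (x ^ i * y ^ j) = (x ^ i * y ^ j) * r :=
      Subgroup.mem_centralizer_singleton_iff.mp (hRM hr)
    rw [← hrz]
    show _ * _ = _ * _
    calc m * (x ^ i * y ^ j) * m⁻¹ * (m * r * m⁻¹) = m * ((x ^ i * y ^ j) * r) * m⁻¹ := by group
      _ = m * (r * (x ^ i * y ^ j)) * m⁻¹ := by rw [h1]
      _ = _ := by group
  rw [D.z_eq] at hcomm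
  rcases (hU m hm).2 with hf | hf <;> rw [hf _ ⟨i, j, rfl⟩] at hcomm
  · exact h (D.commute_u_v.mp hcomm)
  · rw [show x ^ (0 : ℤ) * y ^ (0 : ℤ) * z = z by simp, D.z_mul, mul_inv_cancel_right] at hcomm
    rw [D.z_eq] at hcomm
    exact h (by rw [show i - j = -(j - i) by ring]; exact dvd_neg.mpr (D.commute_u_v.mp hcomm))

theorem centralizer_diag (k : ℤ) :
    (S : Subgroup G) ≤ Subgroup.centralizer ({x ^ k * y ^ k} : Set G) := fun _ hs =>
  Subgroup.mem_centralizer_singleton_iff.mpr (W.wr.diag_comm k hs).eq.symm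

theorem conj_centralizer {a b g : G} (h : g * a * g⁻¹ = b) {K : Subgroup G}
    (hK : K ≤ Subgroup.centralizer ({a} : Set G)) :
    K.map (MulAut.conj g).toMonoidHom ≤ Subgroup.centralizer ({b} : Set G) := by
  rintro _ ⟨v, hv, rfl⟩
  rw [Subgroup.mem_centralizer_singleton_iff, ← h]
  show g * v * g⁻¹ * (g * a * g⁻¹) = g * a * g⁻¹ * (g * v * g⁻¹)
  calc g * v * g⁻¹ * (g * a * g⁻¹) = g * (v * a) * g⁻¹ := by group
    _ = g * (a * v) * g⁻¹ := by rw [Subgroup.mem_centralizer_singleton_iff.mp (hK hv)]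
    _ = _ := by group

/-- A non-central element of `U` is not conjugate to a central element of `S`. -/
theorem nd_not_diag (hU : W.UFix) {i j k : ℤ} {g : G} (h : g * (x ^ k * y ^ k) * g⁻¹ = x ^ i * y ^ j) :
    (4 * f : ℤ) ∣ i - j := by
  by_contra hij
  have h1 := card_le_of_sylow (fun u hu =>
      Subgroup.mem_centralizer_singleton_iff.mpr (W.wr.abel_comm hu ⟨i, j, rfl⟩).eq)
    W.abel_two (W.centralizer_sylow hU hij) (W.conj_centralizer h (W.centralizer_diag k))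
    (S.isPGroup'.map _)
  rw [Subgroup.card_map_of_injective (f := (MulAut.conj g).toMonoidHom) (MulAut.conj g).injective,
    W.wr.card, W.wr.card_abel] at h1
  have := W.wr.one_le
  nlinarith

theorem normalizer_S_le {n : G} (h : ∀ s ∈ (S : Subgroup G), n * s * n⁻¹ ∈ (S : Subgroup G)) :
    n ∈ Subgroup.normalizer (W.wr.abel : Set G) := by
  have D := W.wr
  have he : D.abel.map (MulAut.conj n).toMonoidHom = D.abel := by
    refine D.eq_abel ?_ ?_ ?_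
    · rintro _ ⟨u, hu, rfl⟩; exact h u (D.abel_le hu)
    · refine ⟨⟨fun a b => ?_⟩⟩
      obtain ⟨_, p, hp, rfl⟩ := a
      obtain ⟨_, q, hq, rfl⟩ := b
      apply Subtype.ext
      show n * p * n⁻¹ * (n * q * n⁻¹) = n * q * n⁻¹ * (n * p * n⁻¹)
      calc n * p * n⁻¹ * (n * q * n⁻¹) = n * (p * q) * n⁻¹ := by group
        _ = n * (q * p) * n⁻¹ := by rw [(D.abel_comm hp hq).eq]
        _ = _ := by group
    · rw [Subgroup.card_map_of_injective (f := (MulAut.conj n).toMonoidHom)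
        (MulAut.conj n).injective, D.card_abel]
  refine Subgroup.mem_normalizer_fintype fun u hu => ?_
  rw [SetLike.mem_coe, ← he]
  exact ⟨u, hu, rfl⟩

/-- Fusion inside `U`. -/
theorem abel_fusion (hU : W.UFix) {u w g : G} (hu : u ∈ W.wr.abel) (hw : w ∈ W.wr.abel)
    (h : g * u * g⁻¹ = w) : w = u ∨ w = z * u * z⁻¹ := by
  have D := W.wr
  obtain ⟨i, j, rfl⟩ := hu
  obtain ⟨k, l, rfl⟩ := hw
  have hinv : g⁻¹ * (x ^ k * y ^ l) * g⁻¹⁻¹ = x ^ i * y ^ j := by rw [← h]; group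
  suffices ∃ m ∈ Subgroup.normalizer (D.abel : Set G),
      m * (x ^ i * y ^ j) * m⁻¹ = x ^ k * y ^ l by
    obtain ⟨m, hm, hmu⟩ := this
    rcases (hU m hm).2 with hf | hf
    · exact Or.inl (by rw [← hmu, hf _ ⟨i, j, rfl⟩])
    · exact Or.inr (by rw [← hmu, hf _ ⟨i, j, rfl⟩])
  by_cases hij : (4 * f : ℤ) ∣ i - j
  · rw [D.diag_of_dvd hij] at h hinv ⊢
    have hkl := W.nd_not_diag hU h
    rw [D.diag_of_dvd hkl] at h ⊢
    obtain ⟨m, hm, hmR⟩ := exists_conj_into_sylow S (W.centralizer_diag k)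
      (W.conj_centralizer h (W.centralizer_diag i)) (S.isPGroup'.map _)
    refine ⟨m * g, W.normalizer_S_le fun s hs => ?_, ?_⟩
    · rw [show m * g * s * (m * g)⁻¹ = m * (g * s * g⁻¹) * m⁻¹ by group]
      exact hmR _ ⟨s, hs, rfl⟩
    · rw [show m * g * (x ^ i * y ^ i) * (m * g)⁻¹ = m * (g * (x ^ i * y ^ i) * g⁻¹) * m⁻¹ by group,
        h, Subgroup.mem_centralizer_singleton_iff.mp hm, mul_inv_cancel_right]
  · have hkl : ¬ (4 * f : ℤ) ∣ k - l := fun hkl => by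
      rw [D.diag_of_dvd hkl] at hinv
      exact hij (W.nd_not_diag hU hinv)
    obtain ⟨m, hm, hmR⟩ := exists_conj_into
      (fun u hu => Subgroup.mem_centralizer_singleton_iff.mpr (D.abel_comm hu ⟨k, l, rfl⟩).eq)
      W.abel_two (W.centralizer_sylow hU hkl)
      (W.conj_centralizer h (fun u hu => Subgroup.mem_centralizer_singleton_iff.mpr
        (D.abel_comm hu ⟨i, j, rfl⟩).eq)) (W.abel_two.map _)
    refine ⟨m * g, Subgroup.mem_normalizer_fintype fun u hu => ?_, ?_⟩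
    · rw [show m * g * u * (m * g)⁻¹ = m * (g * u * g⁻¹) * m⁻¹ by group]
      exact hmR _ ⟨u, hu, rfl⟩
    · rw [show m * g * (x ^ i * y ^ j) * (m * g)⁻¹ = m * (g * (x ^ i * y ^ j) * g⁻¹) * m⁻¹ by group,
        h, Subgroup.mem_centralizer_singleton_iff.mp hm, mul_inv_cancel_right]

theorem abel_fusion_coord (hU : W.UFix) {i j k l : ℤ} {g : G}
    (h : g * (x ^ i * y ^ j) * g⁻¹ = x ^ k * y ^ l) :
    x ^ k * y ^ l = x ^ i * y ^ j ∨ x ^ k * y ^ l = x ^ j * y ^ i := by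
  rcases W.abel_fusion hU ⟨i, j, rfl⟩ ⟨k, l, rfl⟩ h with h' | h'
  · exact Or.inl h'
  · rw [W.wr.z_mul, mul_inv_cancel_right] at h'
    exact Or.inr h'

/-- An element outside `U` is never conjugate to a central element of `S`. -/
theorem out_not_diag (hU : W.UFix) {i j k : ℤ} {g : G}
    (h : g * (x ^ i * y ^ j * z) * g⁻¹ = x ^ k * y ^ k) : False := by
  have D := W.wr
  rcases W.vFix_or_vMove with hV | ⟨g₀, hg₀, -, -, hg2, hg3⟩
  · exact W.out_not_conj hV ⟨k, k, rfl⟩ h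
  have h1 := W.conj_mul_self h
  rw [D.v_sq, D.u_mul] at h1
  have he : (4 * f : ℤ) ∣ i + j - 2 * k := by
    rcases W.abel_fusion_coord hU h1 with h' | h' <;>
    · have h2 := (D.u_congr.mp h').1
      rw [show i + j - 2 * k = -(k + k - (i + j)) by ring]
      exact dvd_neg.mpr h2
  obtain ⟨s, -, hs⟩ := W.out_conj_rep he
  obtain ⟨a, ha⟩ := D.mem_diag.mp hg2
  obtain ⟨b, hb⟩ := D.mem_diag.mp hg3
  obtain ⟨c, hc⟩ := D.mem_diag.mp (W.NV_Z (mul_mem hg₀ hg₀) (D.mem_diag.mpr ⟨k, rfl⟩))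
  obtain ⟨d, hd⟩ := D.mem_diag.mp (W.NV_Z hg₀ (D.mem_diag.mpr ⟨a, rfl⟩))
  have e : g₀ * g₀ * (x ^ k * y ^ k * z) * (g₀ * g₀)⁻¹ =
      x ^ (c + (2 * f + b + d)) * y ^ (c + (0 + b + d)) := by
    rw [show g₀ * g₀ * (x ^ k * y ^ k * z) * (g₀ * g₀)⁻¹ =
      g₀ * g₀ * (x ^ k * y ^ k) * (g₀ * g₀)⁻¹ *
        (g₀ * (g₀ * z * g₀⁻¹) * g₀⁻¹) by group, hc]
    have hz : g₀ * z * g₀⁻¹ = x ^ (2 * f : ℤ) * y ^ (0 : ℤ) * z * (x ^ a * y ^ a) := by
      rw [← eq_mul_of_inv_mul_eq ha, ← D.z_eq]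
    rw [hz, show g₀ * (x ^ (2 * f : ℤ) * y ^ (0 : ℤ) * z * (x ^ a * y ^ a)) * g₀⁻¹ =
      g₀ * (x ^ (2 * f : ℤ) * y ^ (0 : ℤ) * z) * g₀⁻¹ * (g₀ * (x ^ a * y ^ a) * g₀⁻¹) by group,
      hd, eq_mul_of_inv_mul_eq hb, D.u_mul, D.u_mul, D.u_mul]
  have h4 : g₀ * g₀ * (s * g⁻¹) * (x ^ k * y ^ k) * (g₀ * g₀ * (s * g⁻¹))⁻¹ =
      x ^ (c + (2 * f + b + d)) * y ^ (c + (0 + b + d)) := by
    rw [← e, ← hs, ← h]; group
  have h5 := W.nd_not_diag hU h4
  rw [show c + (2 * f + b + d) - (c + (0 + b + d)) = 2 * (f : ℤ) by ring] at h5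
  exact D.not_dvd_half h5

theorem diag_fixed (hU : W.UFix) {k : ℤ} {g w : G} (hw : w ∈ (S : Subgroup G))
    (h : g * (x ^ k * y ^ k) * g⁻¹ = w) : w = x ^ k * y ^ k := by
  obtain ⟨i, j, rfl | rfl⟩ := W.wr.cases hw
  · rcases W.abel_fusion_coord hU h with h' | h' <;> exact h'
  · exact (W.out_not_diag hU (i := i) (j := j) (g := g⁻¹) (k := k) (by rw [← h]; group)).elim

/-- `θ` on mixed pairs. -/
theorem theta_mixed (hU : W.UFix) {i j k l : ℤ} {g : G}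
    (h : g * (x ^ k * y ^ l) * g⁻¹ = x ^ i * y ^ j * z) :
    (4 * f : ℤ) ∣ i + j + 2 * f - (k + l) := by
  have D := W.wr
  have h1 : g⁻¹ * (x ^ (i + j) * y ^ (i + j)) * g⁻¹⁻¹ = x ^ (k + k) * y ^ (l + l) := by
    rw [← D.v_sq, ← D.u_mul, ← h]; group
  have h2 := W.diag_fixed hU (D.u_mem _ _) h1
  obtain ⟨⟨p, hp⟩, ⟨q, hq⟩⟩ := D.u_congr.mp h2
  rcases Int.even_or_odd' (p - q) with ⟨r, hr | hr⟩
  · exfalso
    have hkl : (4 * f : ℤ) ∣ k - l := ⟨r, by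
      have : (k + k - (i + j)) - (l + l - (i + j)) = 4 * f * (2 * r) := by rw [hp, hq, ← hr]; ring
      linarith⟩
    rw [D.diag_of_dvd hkl] at h
    exact W.out_not_diag hU (g := g⁻¹) (k := k) (i := i) (j := j) (by rw [← h]; group)
  · refine ⟨r + 1 - p, ?_⟩
    have h3 : (k + k - (i + j)) - (l + l - (i + j)) = 4 * f * (2 * r + 1) := by rw [hp, hq, ← hr]; ring
    linarith

end WrSylow

end Cfsg.Agent.TwoFusion36
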