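import Cfsg.Agent.TwoFusion36.Basic
import Cfsg.Prelude.Def_CaseTheorems

/-!
# The wreathed 2-group, in coordinates (helper36)

`IsWr S f x y z`: `S = (⟨x⟩ × ⟨y⟩)⟨z⟩` with `x, y` of order `4 f`, `f` a power of two,
and `z` an involution exchanging `x` and `y`.
-/

set_option linter.unusedSectionVars false

namespace Cfsg.Agent.TwoFusion36

variable {G : Type*} [Group G]

/-- Coordinates of a wreathed group of order `32 f ^ 2`. -/
structure IsWr (S : Subgroup G) (f : ℕ) (x y z : G) : Prop where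
  hx : x ∈ S
  hy : y ∈ S
  hz : z ∈ S
  hpow : ∃ k, f = 2 ^ k
  ordx : orderOf x = 4 * f
  comm : Commute x y
  disj : Subgroup.zpowers x ⊓ Subgroup.zpowers y = ⊥
  zz : z * z = 1
  rel : z * x * z⁻¹ = y
  card : Nat.card S = 32 * f ^ 2

namespace IsWr

variable {S : Subgroup G} {f : ℕ} {x y z : G} (D : IsWr S f x y z)
include D

theorem one_le : 1 ≤ f := by obtain ⟨k, rfl⟩ := D.hpow; exact Nat.one_le_two_pow

theorem f_ne : (f : ℤ) ≠ 0 := by have := D.one_le; omega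

theorem zinv : z⁻¹ = z := inv_eq_of_mul_eq_one_right D.zz

theorem ordy : orderOf y = 4 * f := by
  rw [← D.rel, ← MulAut.conj_apply, MulEquiv.orderOf_eq, D.ordx]

theorem zy : z * y * z⁻¹ = x := by
  rw [← D.rel]
  calc z * (z * x * z⁻¹) * z⁻¹ = (z * z) * x * (z * z)⁻¹ := by group
    _ = x := by rw [D.zz]; group

theorem u_eq_one {i j : ℤ} : x ^ i * y ^ j = 1 ↔ (4 * f : ℤ) ∣ i ∧ (4 * f : ℤ) ∣ j := by
  constructor
  · intro h
    rw [mul_eq_one_iff_eq_inv] at h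
    have hm : x ^ i ∈ Subgroup.zpowers x ⊓ Subgroup.zpowers y :=
      Subgroup.mem_inf.mpr ⟨zpow_mem (Subgroup.mem_zpowers x) i, by
          rw [h]; exact inv_mem (zpow_mem (Subgroup.mem_zpowers y) j)⟩
    rw [D.disj, Subgroup.mem_bot] at hm
    rw [hm, eq_comm, inv_eq_one] at h
    rw [← orderOf_dvd_iff_zpow_eq_one, D.ordx] at hm
    rw [← orderOf_dvd_iff_zpow_eq_one, D.ordy] at h
    exact_mod_cast And.intro hm h
  · rintro ⟨hi, hj⟩
    have h1 : x ^ i = 1 := orderOf_dvd_iff_zpow_eq_one.mp (by rw [D.ordx]; exact_mod_cast hi)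
    have h2 : y ^ j = 1 := orderOf_dvd_iff_zpow_eq_one.mp (by rw [D.ordy]; exact_mod_cast hj)
    rw [h1, h2, one_mul]

theorem u_mul (i j k l : ℤ) :
    x ^ i * y ^ j * (x ^ k * y ^ l) = x ^ (i + k) * y ^ (j + l) := by
  rw [zpow_add, zpow_add, mul_assoc, ← mul_assoc (y ^ j), (D.comm.symm.zpow_zpow j k).eq]
  group

theorem u_inv (i j : ℤ) : (x ^ i * y ^ j)⁻¹ = x ^ (-i) * y ^ (-j) := by
  apply inv_eq_of_mul_eq_one_right
  rw [D.u_mul]; simp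

theorem u_congr {i j k l : ℤ} :
    x ^ i * y ^ j = x ^ k * y ^ l ↔ (4 * f : ℤ) ∣ i - k ∧ (4 * f : ℤ) ∣ j - l := by
  rw [← mul_inv_eq_one, D.u_inv, D.u_mul, D.u_eq_one, sub_eq_add_neg, sub_eq_add_neg]

theorem u_eq_of {i j k l : ℤ} (p q : ℤ) (h1 : i = k + 4 * f * p) (h2 : j = l + 4 * f * q) :
    x ^ i * y ^ j = x ^ k * y ^ l :=
  D.u_congr.mpr ⟨⟨p, by rw [h1]; ring⟩, ⟨q, by rw [h2]; ring⟩⟩

theorem v_congr {i j k l : ℤ} :
    x ^ i * y ^ j * z = x ^ k * y ^ l * z ↔ (4 * f : ℤ) ∣ i - k ∧ (4 * f : ℤ) ∣ j - l := by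
  rw [mul_left_inj, D.u_congr]

theorem z_mul (i j : ℤ) : z * (x ^ i * y ^ j) = x ^ j * y ^ i * z := by
  have h : z * (x ^ i * y ^ j) * z⁻¹ = x ^ j * y ^ i := by
    calc z * (x ^ i * y ^ j) * z⁻¹ = z * x ^ i * z⁻¹ * (z * y ^ j * z⁻¹) := by group
      _ = x ^ j * y ^ i := by
        rw [← conj_zpow, ← conj_zpow, D.rel, D.zy]
        exact (D.comm.symm.zpow_zpow i j).eq
  rw [← h]; group

theorem v_mul_u (i j k l : ℤ) :
    x ^ i * y ^ j * z * (x ^ k * y ^ l) = x ^ (i + l) * y ^ (j + k) * z := by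
  rw [mul_assoc, D.z_mul, ← mul_assoc, D.u_mul]

theorem v_mul_v (i j k l : ℤ) :
    x ^ i * y ^ j * z * (x ^ k * y ^ l * z) = x ^ (i + l) * y ^ (j + k) := by
  rw [← mul_assoc, D.v_mul_u, mul_assoc, D.zz, mul_one]

theorem u_mul_v (i j k l : ℤ) :
    x ^ i * y ^ j * (x ^ k * y ^ l * z) = x ^ (i + k) * y ^ (j + l) * z := by
  rw [← mul_assoc, D.u_mul]

theorem v_inv (i j : ℤ) : (x ^ i * y ^ j * z)⁻¹ = x ^ (-j) * y ^ (-i) * z := by
  apply inv_eq_of_mul_eq_one_right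
  rw [D.v_mul_v]; simp

theorem u_conj_u (a b i j : ℤ) :
    x ^ a * y ^ b * (x ^ i * y ^ j) * (x ^ a * y ^ b)⁻¹ = x ^ i * y ^ j := by
  rw [D.u_mul, D.u_inv, D.u_mul]; ring_nf

theorem u_conj_v (a b i j : ℤ) :
    x ^ a * y ^ b * (x ^ i * y ^ j * z) * (x ^ a * y ^ b)⁻¹
      = x ^ (a + i - b) * y ^ (b + j - a) * z := by
  rw [D.u_mul_v, D.u_inv, D.v_mul_u]; ring_nf

theorem v_conj_u (a b i j : ℤ) :
    x ^ a * y ^ b * z * (x ^ i * y ^ j) * (x ^ a * y ^ b * z)⁻¹ = x ^ j * y ^ i := by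
  rw [D.v_mul_u, D.v_inv, D.v_mul_v]; ring_nf

theorem v_conj_v (a b i j : ℤ) :
    x ^ a * y ^ b * z * (x ^ i * y ^ j * z) * (x ^ a * y ^ b * z)⁻¹
      = x ^ (a + j - b) * y ^ (b + i - a) * z := by
  rw [D.v_mul_v, D.v_inv, D.u_mul_v]; ring_nf

theorem z_eq : z = x ^ (0 : ℤ) * y ^ (0 : ℤ) * z := by simp

theorem u_ne_v (i j k l : ℤ) : x ^ i * y ^ j ≠ x ^ k * y ^ l * z := by
  intro h
  have hz : z = x ^ (i - k) * y ^ (j - l) := by
    calc z = (x ^ k * y ^ l)⁻¹ * (x ^ k * y ^ l * z) := by group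
      _ = (x ^ k * y ^ l)⁻¹ * (x ^ i * y ^ j) := by rw [h]
      _ = _ := by rw [D.u_inv, D.u_mul]; ring_nf
  have h1 : z * (x ^ (1 : ℤ) * y ^ (0 : ℤ)) * z⁻¹ = x ^ (1 : ℤ) * y ^ (0 : ℤ) := by
    rw [hz]; exact D.u_conj_u _ _ _ _
  rw [D.z_mul, mul_inv_cancel_right] at h1
  obtain ⟨⟨p, hp⟩, -⟩ := D.u_congr.mp h1
  rw [mul_assoc] at hp
  have := D.one_le
  omega

theorem u_mem (i j : ℤ) : x ^ i * y ^ j ∈ S := mul_mem (zpow_mem D.hx i) (zpow_mem D.hy j)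

theorem v_mem (i j : ℤ) : x ^ i * y ^ j * z ∈ S := mul_mem (D.u_mem i j) D.hz

theorem ordx_pow : x ^ (4 * f) = 1 := D.ordx ▸ pow_orderOf_eq_one x

theorem ordy_pow : y ^ (4 * f) = 1 := D.ordy ▸ pow_orderOf_eq_one y

end IsWr

/-- The abelian subgroup `⟨x⟩ × ⟨y⟩`. -/
def IsWr.abel {S : Subgroup G} {f : ℕ} {x y z : G} (D : IsWr S f x y z) : Subgroup G where
  carrier := {v | ∃ i j : ℤ, v = x ^ i * y ^ j}
  one_mem' := ⟨0, 0, by simp⟩
  mul_mem' := by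
    rintro _ _ ⟨i, j, rfl⟩ ⟨k, l, rfl⟩
    exact ⟨_, _, D.u_mul i j k l⟩
  inv_mem' := by
    rintro _ ⟨i, j, rfl⟩
    exact ⟨_, _, D.u_inv i j⟩

/-- `{d ∣ i - j} ∪ {d ∣ i - j - a}z`. -/
def IsWr.dsub {S : Subgroup G} {f : ℕ} {x y z : G} (D : IsWr S f x y z) (d a : ℤ) :
    Subgroup G where
  carrier := {v | ∃ i j : ℤ, (v = x ^ i * y ^ j ∧ d ∣ i - j) ∨
    (v = x ^ i * y ^ j * z ∧ d ∣ i - j - a)}
  one_mem' := ⟨0, 0, Or.inl ⟨by simp, by simp⟩⟩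
  mul_mem' := by
    rintro _ _ ⟨i, j, ⟨rfl, p, hp⟩ | ⟨rfl, p, hp⟩⟩ ⟨k, l, ⟨rfl, q, hq⟩ | ⟨rfl, q, hq⟩⟩
    · exact ⟨_, _, Or.inl ⟨D.u_mul i j k l, p + q, by linarith⟩⟩
    · exact ⟨_, _, Or.inr ⟨D.u_mul_v i j k l, p + q, by linarith⟩⟩
    · exact ⟨_, _, Or.inr ⟨D.v_mul_u i j k l, p - q, by linarith⟩⟩
    · exact ⟨_, _, Or.inl ⟨D.v_mul_v i j k l, p - q, by linarith⟩⟩
  inv_mem' := by
    rintro _ ⟨i, j, ⟨rfl, p, hp⟩ | ⟨rfl, p, hp⟩⟩
    · exact ⟨_, _, Or.inl ⟨D.u_inv i j, -p, by linarith⟩⟩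
    · exact ⟨_, _, Or.inr ⟨D.v_inv i j, p, by linarith⟩⟩

/-- `{d ∣ i + j} ∪ {d ∣ i + j - a}z`. -/
def IsWr.ssub {S : Subgroup G} {f : ℕ} {x y z : G} (D : IsWr S f x y z) (d a : ℤ)
    (ha : d ∣ 2 * a) : Subgroup G where
  carrier := {v | ∃ i j : ℤ, (v = x ^ i * y ^ j ∧ d ∣ i + j) ∨
    (v = x ^ i * y ^ j * z ∧ d ∣ i + j - a)}
  one_mem' := ⟨0, 0, Or.inl ⟨by simp, by simp⟩⟩
  mul_mem' := by
    obtain ⟨r, hr⟩ := ha
    rintro _ _ ⟨i, j, ⟨rfl, p, hp⟩ | ⟨rfl, p, hp⟩⟩ ⟨k, l, ⟨rfl, q, hq⟩ | ⟨rfl, q, hq⟩⟩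
    · exact ⟨_, _, Or.inl ⟨D.u_mul i j k l, p + q, by linarith⟩⟩
    · exact ⟨_, _, Or.inr ⟨D.u_mul_v i j k l, p + q, by linarith⟩⟩
    · exact ⟨_, _, Or.inr ⟨D.v_mul_u i j k l, p + q, by linarith⟩⟩
    · exact ⟨_, _, Or.inl ⟨D.v_mul_v i j k l, p + q + r, by linarith⟩⟩
  inv_mem' := by
    obtain ⟨r, hr⟩ := ha
    rintro _ ⟨i, j, ⟨rfl, p, hp⟩ | ⟨rfl, p, hp⟩⟩
    · exact ⟨_, _, Or.inl ⟨D.u_inv i j, -p, by linarith⟩⟩
    · exact ⟨_, _, Or.inr ⟨D.v_inv i j, -p - r, by linarith⟩⟩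

namespace IsWr

variable {S : Subgroup G} {f : ℕ} {x y z : G} (D : IsWr S f x y z)
include D

theorem mem_abel {v : G} : v ∈ D.abel ↔ ∃ i j : ℤ, v = x ^ i * y ^ j := Iff.rfl

theorem abel_le : D.abel ≤ S := by rintro _ ⟨i, j, rfl⟩; exact D.u_mem i j

theorem v_notMem_abel (i j : ℤ) : x ^ i * y ^ j * z ∉ D.abel := by
  rintro ⟨k, l, h⟩; exact D.u_ne_v k l i j h.symm

theorem abel_comm {u v : G} (hu : u ∈ D.abel) (hv : v ∈ D.abel) : Commute u v := by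
  obtain ⟨i, j, rfl⟩ := hu
  obtain ⟨k, l, rfl⟩ := hv
  show _ * _ = _ * _
  rw [D.u_mul, D.u_mul, add_comm i, add_comm j]

theorem abel_equiv :
    Nonempty (D.abel ≃* Multiplicative (ZMod (4 * f) × ZMod (4 * f))) := by
  let φx : Multiplicative (ZMod (4 * f)) →* G := (zpw x D.ordx_pow).toMultiplicativeLeft
  let φy : Multiplicative (ZMod (4 * f)) →* G := (zpw y D.ordy_pow).toMultiplicativeLeft
  have hφx : ∀ k : ℤ, φx (Multiplicative.ofAdd (k : ZMod (4 * f))) = x ^ k :=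
    fun k => zpw_intCast x D.ordx_pow k
  have hφy : ∀ k : ℤ, φy (Multiplicative.ofAdd (k : ZMod (4 * f))) = y ^ k :=
    fun k => zpw_intCast y D.ordy_pow k
  have hcomm : ∀ a b, Commute (φx a) (φy b) := by
    intro a b
    obtain ⟨i, hi⟩ := ZMod.intCast_surjective a.toAdd
    obtain ⟨j, hj⟩ := ZMod.intCast_surjective b.toAdd
    rw [← ofAdd_toAdd a, ← ofAdd_toAdd b, ← hi, ← hj, hφx, hφy]
    exact D.comm.zpow_zpow i j
  let φ := φx.noncommCoprod φy hcomm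
  have hφ : ∀ i j : ℤ, φ (Multiplicative.ofAdd (i : ZMod (4 * f)),
      Multiplicative.ofAdd (j : ZMod (4 * f))) = x ^ i * y ^ j := fun i j => by
    show φx _ * φy _ = _
    rw [hφx, hφy]
  have hsurj : ∀ p : Multiplicative (ZMod (4 * f)) × Multiplicative (ZMod (4 * f)),
      ∃ i j : ℤ, p = (Multiplicative.ofAdd (i : ZMod (4 * f)),
        Multiplicative.ofAdd (j : ZMod (4 * f))) := fun p => by
    obtain ⟨i, hi⟩ := ZMod.intCast_surjective p.1.toAdd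
    obtain ⟨j, hj⟩ := ZMod.intCast_surjective p.2.toAdd
    exact ⟨i, j, Prod.ext (by rw [hi, ofAdd_toAdd]) (by rw [hj, ofAdd_toAdd])⟩
  have hinj : Function.Injective φ := by
    rw [injective_iff_map_eq_one]
    intro p hp
    obtain ⟨i, j, rfl⟩ := hsurj p
    rw [hφ, D.u_eq_one] at hp
    have h1 : ((4 * f : ℕ) : ℤ) ∣ i := by exact_mod_cast hp.1
    have h2 : ((4 * f : ℕ) : ℤ) ∣ j := by exact_mod_cast hp.2
    rw [← ZMod.intCast_zmod_eq_zero_iff_dvd] at h1 h2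
    rw [h1, h2]; rfl
  have hrange : φ.range = D.abel := by
    ext v
    constructor
    · rintro ⟨p, rfl⟩
      obtain ⟨i, j, rfl⟩ := hsurj p
      exact ⟨i, j, hφ i j⟩
    · rintro ⟨i, j, rfl⟩
      exact ⟨_, hφ i j⟩
  exact ⟨(((MonoidHom.ofInjective hinj).trans (MulEquiv.subgroupCongr hrange)).symm).trans
    (MulEquiv.prodMultiplicative _ _).symm⟩

theorem card_abel : Nat.card D.abel = 4 * f * (4 * f) := by
  obtain ⟨e⟩ := D.abel_equiv
  rw [Nat.card_congr e.toEquiv, Nat.card_congr Multiplicative.toAdd, Nat.card_prod, Nat.card_zmod]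

theorem cases {v : G} (hv : v ∈ S) :
    ∃ i j : ℤ, v = x ^ i * y ^ j ∨ v = x ^ i * y ^ j * z := by
  have hX : D.abel.relIndex S = 2 := by
    have h1 := (D.abel.subgroupOf S).card_mul_index
    rw [Nat.card_congr (Subgroup.subgroupOfEquivOfLe D.abel_le).toEquiv, D.card_abel, D.card] at h1
    have := D.one_le
    rw [Subgroup.relIndex]
    nlinarith
  have hz : (⟨z, D.hz⟩ : S) ∉ D.abel.subgroupOf S := fun h =>
    D.v_notMem_abel 0 0 (D.z_eq ▸ Subgroup.mem_subgroupOf.mp h)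
  have h2 := Subgroup.mul_mem_iff_of_index_two hX (a := ⟨v, hv⟩) (b := ⟨z, D.hz⟩)
  by_cases h : (⟨v, hv⟩ : S) ∈ D.abel.subgroupOf S
  · obtain ⟨i, j, hi⟩ := Subgroup.mem_subgroupOf.mp h
    exact ⟨i, j, Or.inl hi⟩
  · obtain ⟨i, j, hi⟩ := Subgroup.mem_subgroupOf.mp (h2.mpr (iff_of_false h hz))
    have hi' : v * z = x ^ i * y ^ j := hi
    exact ⟨i, j, Or.inr (by rw [← hi', mul_assoc, D.zz, mul_one])⟩

theorem dsub_le (d a : ℤ) : D.dsub d a ≤ S := by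
  rintro _ ⟨i, j, ⟨rfl, -⟩ | ⟨rfl, -⟩⟩
  exacts [D.u_mem i j, D.v_mem i j]

theorem ssub_le {d a : ℤ} (ha : d ∣ 2 * a) : D.ssub d a ha ≤ S := by
  rintro _ ⟨i, j, ⟨rfl, -⟩ | ⟨rfl, -⟩⟩
  exacts [D.u_mem i j, D.v_mem i j]

theorem u_mem_dsub {d a : ℤ} (hd : d ∣ (4 * f : ℤ)) {i j : ℤ} :
    x ^ i * y ^ j ∈ D.dsub d a ↔ d ∣ i - j := by
  refine ⟨?_, fun h => ⟨i, j, Or.inl ⟨rfl, h⟩⟩⟩
  rintro ⟨k, l, ⟨h, hkl⟩ | ⟨h, -⟩⟩
  · obtain ⟨h1, h2⟩ := D.u_congr.mp h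
    have := dvd_add (dvd_sub (hd.trans h1) (hd.trans h2)) hkl
    rwa [show i - k - (j - l) + (k - l) = i - j by ring] at this
  · exact absurd h (D.u_ne_v _ _ _ _)

theorem v_mem_dsub {d a : ℤ} (hd : d ∣ (4 * f : ℤ)) {i j : ℤ} :
    x ^ i * y ^ j * z ∈ D.dsub d a ↔ d ∣ i - j - a := by
  refine ⟨?_, fun h => ⟨i, j, Or.inr ⟨rfl, h⟩⟩⟩
  rintro ⟨k, l, ⟨h, -⟩ | ⟨h, hkl⟩⟩
  · exact absurd h.symm (D.u_ne_v _ _ _ _)
  · obtain ⟨h1, h2⟩ := D.v_congr.mp h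
    have := dvd_add (dvd_sub (hd.trans h1) (hd.trans h2)) hkl
    rwa [show i - k - (j - l) + (k - l - a) = i - j - a by ring] at this

theorem u_mem_ssub {d a : ℤ} {ha : d ∣ 2 * a} (hd : d ∣ (4 * f : ℤ)) {i j : ℤ} :
    x ^ i * y ^ j ∈ D.ssub d a ha ↔ d ∣ i + j := by
  refine ⟨?_, fun h => ⟨i, j, Or.inl ⟨rfl, h⟩⟩⟩
  rintro ⟨k, l, ⟨h, hkl⟩ | ⟨h, -⟩⟩
  · obtain ⟨h1, h2⟩ := D.u_congr.mp h
    have := dvd_add (dvd_add (hd.trans h1) (hd.trans h2)) hkl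
    rwa [show i - k + (j - l) + (k + l) = i + j by ring] at this
  · exact absurd h (D.u_ne_v _ _ _ _)

theorem v_mem_ssub {d a : ℤ} {ha : d ∣ 2 * a} (hd : d ∣ (4 * f : ℤ)) {i j : ℤ} :
    x ^ i * y ^ j * z ∈ D.ssub d a ha ↔ d ∣ i + j - a := by
  refine ⟨?_, fun h => ⟨i, j, Or.inr ⟨rfl, h⟩⟩⟩
  rintro ⟨k, l, ⟨h, -⟩ | ⟨h, hkl⟩⟩
  · exact absurd h.symm (D.u_ne_v _ _ _ _)
  · obtain ⟨h1, h2⟩ := D.v_congr.mp h
    have := dvd_add (dvd_add (hd.trans h1) (hd.trans h2)) hkl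
    rwa [show i - k + (j - l) + (k + l - a) = i + j - a by ring] at this

theorem card_dsub [Finite G] {d : ℕ} {a : ℤ} (hd0 : d ≠ 0) (hd : (d : ℤ) ∣ (4 * f : ℤ)) :
    d * Nat.card (D.dsub d a) = 32 * f ^ 2 := by
  rw [← D.card, show d * Nat.card (D.dsub d a) = Nat.card (Fin d × D.dsub d a) by
    rw [Nat.card_prod, Nat.card_fin]]
  refine Nat.card_eq_of_bijective (fun p : Fin d × D.dsub d a =>
    (⟨x ^ ((p.1 : ℕ) : ℤ) * p.2.1, mul_mem (zpow_mem D.hx _) (D.dsub_le _ _ p.2.2)⟩ : S)) ⟨?_, ?_⟩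
  · rintro ⟨t, w, hw⟩ ⟨t', w', hw'⟩ h
    have h' : x ^ ((t : ℕ) : ℤ) * w = x ^ ((t' : ℕ) : ℤ) * w' := congrArg Subtype.val h
    have hm : x ^ (((t : ℕ) : ℤ) - (t' : ℕ)) * y ^ (0 : ℤ) ∈ D.dsub d a := by
      have e : x ^ (((t : ℕ) : ℤ) - (t' : ℕ)) * y ^ (0 : ℤ) = w' * w⁻¹ := by
        rw [zpow_zero, mul_one, ← neg_add_eq_sub, zpow_add, zpow_neg]
        rw [eq_mul_inv_iff_mul_eq, mul_assoc, h', inv_mul_cancel_left]
      rw [e]; exact mul_mem hw' (inv_mem hw)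
    rw [D.u_mem_dsub hd, sub_zero] at hm
    have ht : t = t' := by
      apply Fin.ext
      have h3 := Int.eq_zero_of_abs_lt_dvd hm (by
        rw [abs_lt]; constructor <;> omega)
      omega
    subst ht
    have : w = w' := mul_left_cancel h'
    subst this
    rfl
  · rintro ⟨v, hv⟩
    have key : ∀ t : ℤ, ∃ r : Fin d, (d : ℤ) ∣ t - (r : ℕ) := by
      intro t
      have hd' : (0 : ℤ) < d := by omega
      refine ⟨⟨(t % d).toNat, by have := Int.emod_lt_of_pos t hd'; omega⟩, ?_⟩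
      have := Int.emod_nonneg t hd'.ne'
      simp only [Int.toNat_of_nonneg this]
      exact Int.dvd_self_sub_emod
    obtain ⟨i, j, rfl | rfl⟩ := D.cases hv
    · obtain ⟨r, hr⟩ := key (i - j)
      refine ⟨(r, ⟨x ^ (i - (r : ℕ)) * y ^ j, (D.u_mem_dsub hd).mpr ?_⟩), Subtype.ext ?_⟩
      · rwa [show i - ((r : ℕ) : ℤ) - j = i - j - (r : ℕ) by ring]
      · show x ^ _ * (x ^ _ * y ^ j) = _
        rw [← mul_assoc, ← zpow_add, add_sub_cancel]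
    · obtain ⟨r, hr⟩ := key (i - j - a)
      refine ⟨(r, ⟨x ^ (i - (r : ℕ)) * y ^ j * z, (D.v_mem_dsub hd).mpr ?_⟩), Subtype.ext ?_⟩
      · rwa [show i - ((r : ℕ) : ℤ) - j - a = i - j - a - (r : ℕ) by ring]
      · show x ^ _ * (x ^ _ * y ^ j * z) = _
        rw [← mul_assoc, ← mul_assoc, ← zpow_add, add_sub_cancel]

theorem card_ssub [Finite G] {d : ℕ} {a : ℤ} (ha : (d : ℤ) ∣ 2 * a) (hd0 : d ≠ 0)
    (hd : (d : ℤ) ∣ (4 * f : ℤ)) : d * Nat.card (D.ssub d a ha) = 32 * f ^ 2 := by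
  rw [← D.card, show d * Nat.card (D.ssub d a ha) = Nat.card (Fin d × D.ssub d a ha) by
    rw [Nat.card_prod, Nat.card_fin]]
  refine Nat.card_eq_of_bijective (fun p : Fin d × D.ssub d a ha =>
    (⟨x ^ ((p.1 : ℕ) : ℤ) * p.2.1, mul_mem (zpow_mem D.hx _) (D.ssub_le _ p.2.2)⟩ : S)) ⟨?_, ?_⟩
  · rintro ⟨t, w, hw⟩ ⟨t', w', hw'⟩ h
    have h' : x ^ ((t : ℕ) : ℤ) * w = x ^ ((t' : ℕ) : ℤ) * w' := congrArg Subtype.val h
    have hm : x ^ (((t : ℕ) : ℤ) - (t' : ℕ)) * y ^ (0 : ℤ) ∈ D.ssub d a ha := by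
      have e : x ^ (((t : ℕ) : ℤ) - (t' : ℕ)) * y ^ (0 : ℤ) = w' * w⁻¹ := by
        rw [zpow_zero, mul_one, ← neg_add_eq_sub, zpow_add, zpow_neg]
        rw [eq_mul_inv_iff_mul_eq, mul_assoc, h', inv_mul_cancel_left]
      rw [e]; exact mul_mem hw' (inv_mem hw)
    rw [D.u_mem_ssub hd, add_zero] at hm
    have ht : t = t' := by
      apply Fin.ext
      have h3 := Int.eq_zero_of_abs_lt_dvd hm (by
        rw [abs_lt]; constructor <;> omega)
      omega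
    subst ht
    have : w = w' := mul_left_cancel h'
    subst this
    rfl
  · rintro ⟨v, hv⟩
    have key : ∀ t : ℤ, ∃ r : Fin d, (d : ℤ) ∣ t - (r : ℕ) := by
      intro t
      have hd' : (0 : ℤ) < d := by omega
      refine ⟨⟨(t % d).toNat, by have := Int.emod_lt_of_pos t hd'; omega⟩, ?_⟩
      have := Int.emod_nonneg t hd'.ne'
      simp only [Int.toNat_of_nonneg this]
      exact Int.dvd_self_sub_emod
    obtain ⟨i, j, rfl | rfl⟩ := D.cases hv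
    · obtain ⟨r, hr⟩ := key (i + j)
      refine ⟨(r, ⟨x ^ (i - (r : ℕ)) * y ^ j, (D.u_mem_ssub hd).mpr ?_⟩), Subtype.ext ?_⟩
      · rwa [show i - ((r : ℕ) : ℤ) + j = i + j - (r : ℕ) by ring]
      · show x ^ _ * (x ^ _ * y ^ j) = _
        rw [← mul_assoc, ← zpow_add, add_sub_cancel]
    · obtain ⟨r, hr⟩ := key (i + j - a)
      refine ⟨(r, ⟨x ^ (i - (r : ℕ)) * y ^ j * z, (D.v_mem_ssub hd).mpr ?_⟩), Subtype.ext ?_⟩
      · rwa [show i - ((r : ℕ) : ℤ) + j - a = i + j - a - (r : ℕ) by ring]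
      · show x ^ _ * (x ^ _ * y ^ j * z) = _
        rw [← mul_assoc, ← mul_assoc, ← zpow_add, add_sub_cancel]

theorem diag_comm (a : ℤ) {v : G} (hv : v ∈ S) : Commute (x ^ a * y ^ a) v := by
  obtain ⟨i, j, rfl | rfl⟩ := D.cases hv
  · exact D.abel_comm ⟨a, a, rfl⟩ ⟨i, j, rfl⟩
  · show _ * _ = _ * _
    rw [D.u_mul_v, D.v_mul_u, add_comm a, add_comm a]

theorem commute_u_v {i j a b : ℤ} :
    Commute (x ^ i * y ^ j) (x ^ a * y ^ b * z) ↔ (4 * f : ℤ) ∣ i - j := by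
  show _ * _ = _ * _ ↔ _
  rw [D.u_mul_v, D.v_mul_u, D.v_congr]
  constructor
  · rintro ⟨h1, -⟩
    rwa [show i + a - (a + j) = i - j by ring] at h1
  · intro h
    exact ⟨by rwa [show i + a - (a + j) = i - j by ring],
      by rw [show j + b - (b + i) = -(i - j) by ring]; exact dvd_neg.mpr h⟩

theorem diag_of_dvd {i j : ℤ} (h : (4 * f : ℤ) ∣ i - j) : x ^ i * y ^ j = x ^ i * y ^ i :=
  D.u_congr.mpr ⟨by simp, by rw [show j - i = -(i - j) by ring]; exact dvd_neg.mpr h⟩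

theorem v_sq (i j : ℤ) :
    x ^ i * y ^ j * z * (x ^ i * y ^ j * z) = x ^ (i + j) * y ^ (i + j) := by
  rw [D.v_mul_v, add_comm j i]

theorem v_conj_rep {i j : ℤ} (h : (4 * f : ℤ) ∣ i + j) :
    ∃ s ∈ S, s * (x ^ i * y ^ j * z) * s⁻¹ = z := by
  refine ⟨_, D.u_mem (-i) 0, ?_⟩
  rw [D.u_conj_v]
  conv_rhs => rw [D.z_eq]
  rw [D.v_congr]
  exact ⟨⟨0, by ring⟩, by rw [show 0 + j - -i - 0 = i + j by ring]; exact h⟩

theorem orderOf_c : orderOf (x ^ (2 * f : ℤ) * y ^ (2 * f : ℤ)) = 2 := by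
  refine orderOf_eq_prime ?_ ?_
  · rw [sq, D.u_mul, D.u_eq_one]; exact ⟨⟨1, by ring⟩, ⟨1, by ring⟩⟩
  · rw [Ne, D.u_eq_one]; rintro ⟨⟨p, hp⟩, -⟩
    have h2 : (2 * f : ℤ) * 1 = (2 * f) * (2 * p) := by linarith
    have := mul_left_cancel₀ (mul_ne_zero two_ne_zero D.f_ne) h2
    omega

theorem not_dvd_half : ¬ (4 * f : ℤ) ∣ 2 * f := by
  rintro ⟨p, hp⟩
  have h2 : (2 * f : ℤ) * 1 = (2 * f) * (2 * p) := by linarith
  have := mul_left_cancel₀ (mul_ne_zero two_ne_zero D.f_ne) h2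
  omega

theorem orderOf_u1 : orderOf (x ^ (2 * f : ℤ) * y ^ (0 : ℤ)) = 2 := by
  refine orderOf_eq_prime ?_ ?_
  · rw [sq, D.u_mul, D.u_eq_one]; exact ⟨⟨1, by ring⟩, ⟨0, by ring⟩⟩
  · rw [Ne, D.u_eq_one]; exact fun h => D.not_dvd_half h.1

theorem orderOf_u2 : orderOf (x ^ (0 : ℤ) * y ^ (2 * f : ℤ)) = 2 := by
  refine orderOf_eq_prime ?_ ?_
  · rw [sq, D.u_mul, D.u_eq_one]; exact ⟨⟨0, by ring⟩, ⟨1, by ring⟩⟩
  · rw [Ne, D.u_eq_one]; exact fun h => D.not_dvd_half h.2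

theorem orderOf_z : orderOf z = 2 := by
  refine orderOf_eq_prime (by rw [sq, D.zz]) fun h => D.u_ne_v 0 0 0 0 ?_
  rw [h]; simp

theorem sq_one {v : G} (hv : v ∈ S) (h : v * v = 1) :
    v = 1 ∨ v = x ^ (2 * f : ℤ) * y ^ (2 * f : ℤ) ∨ v = x ^ (2 * f : ℤ) * y ^ (0 : ℤ) ∨
      v = x ^ (0 : ℤ) * y ^ (2 * f : ℤ) ∨
      ∃ i j : ℤ, v = x ^ i * y ^ j * z ∧ (4 * f : ℤ) ∣ i + j := by
  obtain ⟨i, j, rfl | rfl⟩ := D.cases hv
  · rw [D.u_mul, D.u_eq_one] at h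
    obtain ⟨⟨p, hp⟩, ⟨q, hq⟩⟩ := h
    have hi : i = 2 * f * p := by linarith
    have hj : j = 2 * f * q := by linarith
    rcases Int.even_or_odd' p with ⟨a, rfl | rfl⟩ <;> rcases Int.even_or_odd' q with ⟨b, rfl | rfl⟩
    · exact Or.inl (D.u_eq_one.mpr ⟨⟨a, by rw [hi]; ring⟩, ⟨b, by rw [hj]; ring⟩⟩)
    · exact Or.inr (Or.inr (Or.inr (Or.inl
        (D.u_eq_of a b (by rw [hi]; ring) (by rw [hj]; ring)))))
    · exact Or.inr (Or.inr (Or.inl (D.u_eq_of a b (by rw [hi]; ring) (by rw [hj]; ring))))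
    · exact Or.inr (Or.inl (D.u_eq_of a b (by rw [hi]; ring) (by rw [hj]; ring)))
  · rw [D.v_sq, D.u_eq_one] at h
    exact Or.inr (Or.inr (Or.inr (Or.inr ⟨i, j, rfl, h.1⟩)))

theorem u2_conj : z * (x ^ (0 : ℤ) * y ^ (2 * f : ℤ)) * z⁻¹ = x ^ (2 * f : ℤ) * y ^ (0 : ℤ) := by
  rw [D.z_mul, mul_inv_cancel_right]

/-- The abelian maximal subgroup is the only abelian subgroup of its order. -/
theorem eq_abel [Finite G] {M : Subgroup G} (hMS : M ≤ S) (hM : IsMulCommutative M)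
    (hcard : Nat.card M = 4 * f * (4 * f)) : M = D.abel := by
  refine Subgroup.eq_of_le_of_card_ge ?_ (by rw [D.card_abel, hcard])
  by_contra h
  obtain ⟨w, hw, hwU⟩ := SetLike.not_le_iff_exists.mp h
  obtain ⟨a, b, rfl | rfl⟩ := D.cases (hMS hw)
  · exact hwU ⟨a, b, rfl⟩
  have hc : ∀ u ∈ M, ∀ v ∈ M, Commute u v := fun u hu v hv =>
    congrArg Subtype.val (hM.is_comm.comm (⟨u, hu⟩ : M) ⟨v, hv⟩)
  have hle : M ≤ D.dsub (4 * f : ℕ) (a - b) := by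
    intro v hv
    have hd : ((4 * f : ℕ) : ℤ) = 4 * (f : ℤ) := by push_cast; ring
    rw [hd]
    obtain ⟨i, j, rfl | rfl⟩ := D.cases (hMS hv)
    · exact (D.u_mem_dsub dvd_rfl).mpr (D.commute_u_v.mp (hc _ hv _ hw))
    · rw [D.v_mem_dsub dvd_rfl]
      have hm := mul_mem hv hw
      rw [D.v_mul_v] at hm
      have := D.commute_u_v.mp (hc _ hm _ hw)
      rwa [show i + b - (j + a) = i - j - (a - b) by ring] at this
  have h1 := D.card_dsub (d := 4 * f) (a := a - b) (by have := D.one_le; omega) (by push_cast; exact dvd_rfl)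
  have h2 := Nat.le_of_dvd (Nat.card_pos) (Subgroup.card_dvd_of_le hle)
  rw [hcard] at h2
  have := D.one_le
  nlinarith

/-- The quaternion subgroup of order `8 f`. -/
theorem quat_ha : (4 * f : ℤ) ∣ 2 * (2 * f) := ⟨1, by ring⟩

theorem gq_equiv : Nonempty (D.ssub (4 * f) (2 * f) D.quat_ha ≃* QuaternionGroup (2 * f)) := by
  haveI : NeZero (2 * f) := ⟨by have := D.one_le; omega⟩
  have hpow : ∀ k : ℤ, (x ^ (1 : ℤ) * y ^ (-1 : ℤ)) ^ k = x ^ k * y ^ (-k) := by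
    intro k
    rw [(D.comm.zpow_zpow 1 (-1)).mul_zpow, ← zpow_mul, ← zpow_mul]
    ring_nf
  have hord : orderOf (x ^ (1 : ℤ) * y ^ (-1 : ℤ)) = 4 * f := by
    apply Nat.dvd_antisymm
    · apply orderOf_dvd_of_pow_eq_one
      rw [← zpow_natCast, hpow, D.u_eq_one]
      exact ⟨⟨1, by push_cast; ring⟩, ⟨-1, by push_cast; ring⟩⟩
    · have := pow_orderOf_eq_one (x ^ (1 : ℤ) * y ^ (-1 : ℤ))
      rw [← zpow_natCast, hpow, D.u_eq_one] at this
      exact_mod_cast this.1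
  refine nonempty_equiv_quaternion (x ^ (1 : ℤ) * y ^ (-1 : ℤ))
    (x ^ (2 * f : ℤ) * y ^ (0 : ℤ) * z) (hord.trans (by ring)) ?_ ?_ ?_ _ fun v => ?_
  · rw [D.v_sq, ← zpow_natCast, hpow]
    exact D.u_eq_of 0 1 (by push_cast; ring) (by push_cast; ring)
  · rw [D.v_conj_u, D.u_inv]; ring_nf
  · intro k h
    rw [hpow] at h
    exact D.u_ne_v _ _ _ _ h.symm
  · constructor
    · rintro ⟨i, j, ⟨rfl, p, hp⟩ | ⟨rfl, p, hp⟩⟩
      · refine ⟨i, Or.inl ?_⟩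
        rw [hpow]
        exact D.u_eq_of 0 p (by ring) (by linarith)
      · refine ⟨j, Or.inr ?_⟩
        rw [hpow, D.v_mul_u, D.v_congr]
        exact ⟨⟨p, by linarith⟩, ⟨0, by ring⟩⟩
    · rintro ⟨k, rfl | rfl⟩
      · rw [hpow]; exact ⟨_, _, Or.inl ⟨rfl, 0, by ring⟩⟩
      · rw [hpow, D.v_mul_u]; exact ⟨_, _, Or.inr ⟨rfl, 0, by ring⟩⟩

/-- The generalized quaternion subgroup of order `8 f` is unique. -/
theorem eq_gq [Finite G] {Y : Subgroup G} (hYS : Y ≤ S) (e : Y ≃* QuaternionGroup (2 * f)) :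
    Y = D.ssub (4 * f) (2 * f) D.quat_ha := by
  haveI : NeZero (2 * f) := ⟨by have := D.one_le; omega⟩
  refine Subgroup.eq_of_le_of_card_ge ?_ (by
    obtain ⟨e'⟩ := D.gq_equiv
    rw [Nat.card_congr e.toEquiv, Nat.card_congr e'.toEquiv])
  set A : G := ((e.symm (.a 1) : Y) : G) with hA
  set B : G := ((e.symm (.xa 0) : Y) : G) with hB
  have hAY : A ∈ Y := (e.symm (.a 1)).2
  have hBY : B ∈ Y := (e.symm (.xa 0)).2
  have hgen : ∀ w : Y, (∃ k : ℕ, (w : G) = A ^ k) ∨ ∃ i, e w = .xa i := by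
    intro w
    rcases hw : e w with i | i
    · refine Or.inl ⟨i.val, ?_⟩
      rw [hA, ← Subgroup.coe_pow, ← map_pow, QuaternionGroup.a_one_pow, ZMod.natCast_zmod_val, ← hw,
        MulEquiv.symm_apply_apply]
    · exact Or.inr ⟨i, rfl⟩
  have hout : ∀ w : Y, (w : G) ∉ D.abel → (w : G) * w * (w * w) = 1 ∧ (w : G) * w ≠ 1 := by
    intro w hwU
    have hA4 : A ∉ D.abel → f = 1 := by
      intro hAU
      obtain ⟨a, b, h | h⟩ := D.cases (hYS hAY)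
      · exact absurd ⟨a, b, h⟩ hAU
      have h2 : Commute (A * A) B := by
        rw [h, D.v_sq]; exact D.diag_comm _ (hYS hBY)
      have h3 : (QuaternionGroup.a 1 * QuaternionGroup.a 1 : QuaternionGroup (2 * f)) * .xa 0
          = .xa 0 * (.a 1 * .a 1) := by
        apply e.symm.injective
        simp only [map_mul]
        exact Subtype.ext h2.eq
      simp only [QuaternionGroup.a_mul_a, QuaternionGroup.a_mul_xa, QuaternionGroup.xa_mul_a] at h3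
      injection h3 with h4
      have h5 : ((4 : ℕ) : ZMod (2 * (2 * f))) = 0 := by push_cast; linear_combination -h4
      rw [ZMod.natCast_eq_zero_iff] at h5
      have h6 := Nat.le_of_dvd (by norm_num) h5
      have := D.one_le
      omega
    have hne : (e w) * (e w) ≠ 1 := by
      rcases hw : e w with i | i
      · intro h1
        rw [QuaternionGroup.a_mul_a, QuaternionGroup.one_def] at h1
        injection h1 with h1
        -- `i` is a multiple of `2 f`, hence `w` lies in the abelian subgroup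
        have h2 : ((2 * i.val : ℕ) : ZMod (2 * (2 * f))) = 0 := by
          push_cast; rw [ZMod.natCast_zmod_val]; linear_combination h1
        rw [ZMod.natCast_eq_zero_iff] at h2
        obtain ⟨p, hp⟩ := Nat.dvd_of_mul_dvd_mul_left (by norm_num : 0 < 2) h2
        refine hwU ?_
        have hwA : (w : G) = A ^ i.val := by
          rw [hA, ← Subgroup.coe_pow, ← map_pow, QuaternionGroup.a_one_pow, ZMod.natCast_zmod_val,
            ← hw, MulEquiv.symm_apply_apply]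
        rw [hwA, hp, mul_assoc, pow_mul, sq]
        refine pow_mem ?_ _
        obtain ⟨a, b, h | h⟩ := D.cases (hYS hAY)
        · exact mul_mem ⟨a, b, h⟩ ⟨a, b, h⟩
        · rw [h, D.v_sq]; exact ⟨_, _, rfl⟩
      · rw [← sq, QuaternionGroup.xa_sq, QuaternionGroup.one_def]
        intro h1
        injection h1 with h1
        rw [ZMod.natCast_eq_zero_iff] at h1
        have := Nat.le_of_dvd (by have := D.one_le; omega) h1
        have := D.one_le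
        omega
    have h4 : e w * e w * (e w * e w) = 1 := by
      have : e w ^ 4 = 1 := by
        rcases hw : e w with i | i
        · have hAU : A ∉ D.abel := by
            intro hAU
            refine hwU ?_
            have hwA : (w : G) = A ^ i.val := by
              rw [hA, ← Subgroup.coe_pow, ← map_pow, QuaternionGroup.a_one_pow,
                ZMod.natCast_zmod_val, ← hw, MulEquiv.symm_apply_apply]
            rw [hwA]; exact pow_mem hAU _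
          obtain rfl := hA4 hAU
          exact (by decide : ∀ q : QuaternionGroup 2, q ^ 4 = 1) _
        · exact QuaternionGroup.xa_pow_four i
      rw [← this, ← pow_two, ← pow_two, ← pow_mul]
    refine ⟨?_, fun h => hne ?_⟩
    · have := congrArg e.symm h4
      simp only [map_mul, MulEquiv.symm_apply_apply, map_one] at this
      exact congrArg Subtype.val this
    · rw [← map_mul, MulEquiv.map_eq_one_iff]
      exact Subtype.ext h
  have key : ∀ i j : ℤ, x ^ i * y ^ j * z ∈ Y → (4 * f : ℤ) ∣ i + j - 2 * f := by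
    intro i j hm
    obtain ⟨h1, h2⟩ := hout ⟨_, hm⟩ (D.v_notMem_abel i j)
    simp only [D.v_sq, D.u_mul, D.u_eq_one] at h1
    rw [D.v_sq, Ne, D.u_eq_one] at h2
    obtain ⟨⟨p, hp⟩, -⟩ := h1
    rcases Int.even_or_odd' p with ⟨q, rfl | rfl⟩
    · exact absurd ⟨⟨q, by linarith⟩, ⟨q, by linarith⟩⟩ h2
    · exact ⟨q, by linarith⟩
  intro v hv
  obtain ⟨i, j, rfl | rfl⟩ := D.cases (hYS hv)
  · rw [D.u_mem_ssub dvd_rfl]
    obtain ⟨a, b, hab⟩ : ∃ a b : ℤ, x ^ a * y ^ b * z ∈ Y := by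
      by_contra h
      push Not at h
      have hU : ∀ u : Y, (u : G) ∈ D.abel := by
        intro u
        obtain ⟨a, b, hu | hu⟩ := D.cases (hYS u.2)
        · exact ⟨a, b, hu⟩
        · exact absurd (hu ▸ u.2) (h a b)
      have h2 : (QuaternionGroup.a 1 : QuaternionGroup (2 * f)) * .xa 0 = .xa 0 * .a 1 := by
        apply e.symm.injective
        simp only [map_mul]
        exact Subtype.ext (D.abel_comm (hU _) (hU _)).eq
      simp only [QuaternionGroup.a_mul_xa, QuaternionGroup.xa_mul_a] at h2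
      injection h2 with h2
      have h5 : ((2 : ℕ) : ZMod (2 * (2 * f))) = 0 := by push_cast; linear_combination -h2
      rw [ZMod.natCast_eq_zero_iff] at h5
      have := Nat.le_of_dvd (by norm_num) h5
      have := D.one_le
      omega
    have h1 := key _ _ (D.u_mul_v i j a b ▸ mul_mem hv hab)
    have h2 := key _ _ hab
    have := dvd_sub h1 h2
    rwa [show i + a + (j + b) - 2 * (f : ℤ) - (a + b - 2 * f) = i + j by ring] at this
  · rw [D.v_mem_ssub dvd_rfl]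
    exact key i j hv

end IsWr

theorem exists_isWr {G : Type*} [Group G] {S : Subgroup G} (hS : Cfsg.IsWreathed S) :
    ∃ f x y z, IsWr S f x y z := by
  obtain ⟨n, hn, hcard, x, y, z, hx, hxy, hdisj, hz, hrel⟩ := hS
  obtain ⟨k, rfl⟩ : ∃ k, n = k + 2 := ⟨n - 2, by omega⟩
  refine ⟨2 ^ k, (x : G), (y : G), (z : G), x.2, y.2, z.2, ⟨k, rfl⟩, ?_, ?_, ?_, ?_, ?_, ?_⟩
  · rw [Subgroup.orderOf_coe, hx]; ring
  · exact congrArg Subtype.val hxy
  · rw [eq_bot_iff]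
    intro v hv
    obtain ⟨⟨i, hi⟩, ⟨j, hj⟩⟩ := hv
    have hi' : (x : G) ^ i = v := hi
    have hj' : (y : G) ^ j = v := hj
    have hm : x ^ i ∈ Subgroup.zpowers x ⊓ Subgroup.zpowers y :=
      ⟨⟨i, rfl⟩, ⟨j, Subtype.ext (by
        show ((y ^ j : S) : G) = ((x ^ i : S) : G)
        rw [Subgroup.coe_zpow, Subgroup.coe_zpow, hi', hj'])⟩⟩
    rw [hdisj, Subgroup.mem_bot] at hm
    rw [Subgroup.mem_bot, ← hi', ← Subgroup.coe_zpow, hm, Subgroup.coe_one]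
  · have := congrArg Subtype.val (pow_orderOf_eq_one z)
    rw [hz] at this
    simpa [sq] using this
  · simpa using congrArg Subtype.val hrel
  · rw [hcard]; ring

theorem exists_isWr_top {S : Type*} [Group S] (hS : Cfsg.IsWreathed S) :
    ∃ f x y z, IsWr (⊤ : Subgroup S) f x y z := by
  obtain ⟨n, hn, hcard, x, y, z, hx, hxy, hdisj, hz, hrel⟩ := hS
  refine exists_isWr ⟨n, hn, ?_, ⟨x, trivial⟩, ⟨y, trivial⟩, ⟨z, trivial⟩, ?_, ?_, ?_, ?_, ?_⟩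
  · rw [Nat.card_congr Subgroup.topEquiv.toEquiv, hcard]
  · rw [← Subgroup.orderOf_coe]; exact hx
  · exact Subtype.ext hxy
  · rw [eq_bot_iff]
    intro v hv
    obtain ⟨⟨i, hi⟩, ⟨j, hj⟩⟩ := hv
    have hi' : x ^ i = (v : S) := by rw [← hi]; simp
    have hm : x ^ i ∈ Subgroup.zpowers x ⊓ Subgroup.zpowers y :=
      ⟨⟨i, rfl⟩, ⟨j, by rw [hi', ← hj]; simp⟩⟩
    rw [hdisj, Subgroup.mem_bot, hi'] at hm
    exact Subgroup.mem_bot.mpr (Subtype.ext hm)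
  · rw [← Subgroup.orderOf_coe]; exact hz
  · exact Subtype.ext (by simpa using hrel)

end Cfsg.Agent.TwoFusion36
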